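import Cfsg.Agent.Lib.Spor.ON.Maximal
import Cfsg.Prelude.Def_Sporadic

/-!
The presented O'Nan group is simple, and its action on 122760 points is faithful.
-/

namespace CfsgLib.Spor.ON

open Cfsg.Spor Equiv

/-- a homomorphism from `L₃(7):2` that separates the first two involutions is injective -/
theorem injective_of_separates {R : Type*} [Group R] (f : L37Two →* R)
    (h : f (img 0) ≠ f (img 1)) : Function.Injective f := by
  rw [← MonoidHom.ker_eq_bot_iff]
  have := isSimpleGroup_PSL37
  rcases (inferInstance : (f.ker.comap SemidirectProduct.inl).Normal).eq_bot_or_eq_top with e | e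
  · exact normal_trivial _ e
  exfalso
  apply h
  have htwo : ∀ q : L37Two, f q = f ⟨1, q.right⟩ := by
    intro q
    have hq : q = SemidirectProduct.inl q.left * ⟨1, q.right⟩ :=
      SemidirectProduct.ext (by simp) (by simp)
    have h1 : q.left ∈ f.ker.comap SemidirectProduct.inl := e ▸ Subgroup.mem_top _
    conv_lhs => rw [hq, map_mul, MonoidHom.mem_ker.1 (Subgroup.mem_comap.1 h1), one_mul]
  rw [htwo (img 0), htwo (img 1)]
  rfl

theorem π_separates : π (toON (img 0)) ≠ π (toON (img 1)) := by
  obtain ⟨c, hc, hm⟩ := List.any_eq_true.1 moved_point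
  rw [List.mem_range] at hc
  simp only [Bool.and_eq_true, Bool.not_eq_true'] at hm
  intro e
  rw [toON_img (by omega), toON_img (by omega)] at e
  have := congrArg (fun q : Perm (Fin 122760) => ((q⁻¹ ⟨c, by omega⟩ : Fin 122760) : Nat))
    (show π (evalW gen [0]) = π (evalW gen [1]) by simpa [evalW] using e)
  rw [π_word [0] (by simp), π_word [1] (by simp)] at this
  change main.app [0] c = main.app [1] c at this
  have hab := hm.2
  simp [this] at hab

theorem mem_H_of_fix (g : Cfsg.Spor.ON) (hg : π g i₀ = i₀) : g ∈ H6 := by
  simpa using (coset_map g 1).1 (by rw [hg, map_one]; rfl)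

theorem π_injective : Function.Injective π := by
  rw [← MonoidHom.ker_eq_bot_iff, Subgroup.eq_bot_iff_forall]
  intro g hg
  rw [MonoidHom.mem_ker] at hg
  have hH : g ∈ toON.range := toON_range ▸ mem_H_of_fix g (by rw [hg, Perm.one_apply])
  obtain ⟨q, rfl⟩ := hH
  have := injective_of_separates (π.comp toON) π_separates
    (show (π.comp toON) q = (π.comp toON) 1 by simpa using hg)
  rw [this, map_one]

/-- a commutative image is trivial -/
theorem trivial_of_commute {R : Type*} [Group R] (f : Cfsg.Spor.ON →* R)
    (hc : ∀ x y, f x * f y = f y * f x) : f = 1 := by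
  let F : Nat → R := fun x => f (letG x)
  have hw : ∀ w ∈ baseW, (w.map F).prod = 1 := by
    intro w hw
    have := congrArg f (baseW_one w hw)
    rw [evalW, map_list_prod, List.map_map, map_one] at this
    exact this
  have hsq : ∀ i < 6, F i * F i = 1 := fun i hi => by
    show f (letG i) * f (letG i) = 1
    rw [← map_mul, letG_sq i hi, map_one]
  have hcF : ∀ i j, F i * F j = F j * F i := fun i j => hc _ _
  have odd : ∀ i j, i < 6 → j < 6 → coxLabel ON.edges (node i) (node j) = 3 → F i = F j := by
    intro i j hi hj hl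
    have h := congrArg f (gen_cox (mem_coxNodes i) (mem_coxNodes j))
    rw [hl, ← lets_node gen hi, ← lets_node gen hj, map_pow, map_mul, map_one,
      Commute.mul_pow (hcF i j)] at h
    rw [pow_succ, pow_two, hsq i hi, one_mul, pow_succ, pow_two, hsq j hj, one_mul] at h
    rw [eq_inv_of_mul_eq_one_left h]
    exact (eq_inv_of_mul_eq_one_left (hsq j hj)).symm
  have e0 : F 0 = F 2 := (odd 0 1 (by omega) (by omega) (by decide)).trans
    (odd 1 2 (by omega) (by omega) (by decide))
  have e1 : F 1 = F 2 := odd 1 2 (by omega) (by omega) (by decide)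
  have e5 : F 5 = F 3 := (odd 5 4 (by omega) (by omega) (by decide)).trans
    (odd 4 3 (by omega) (by omega) (by decide))
  have e4 : F 4 = F 3 := odd 4 3 (by omega) (by omega) (by decide)
  have h2 := hsq 2 (by omega)
  have h3 := hsq 3 (by omega)
  have c1 : ∀ z, F 2 * (F 2 * z) = z := fun z => by rw [← mul_assoc, h2, one_mul]
  have c3 : ∀ z, F 3 * (F 3 * z) = z := fun z => by rw [← mul_assoc, h3, one_mul]
  -- `af = (cd)⁴` makes the two classes equal
  have hu := hw [0, 5, 3, 2, 3, 2, 3, 2, 3, 2] (by decide +kernel)
  have s32 : ∀ z, F 3 * (F 2 * z) = F 2 * (F 3 * z) := fun z => by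
    rw [← mul_assoc, ← mul_assoc, hcF 3 2]
  simp only [List.map_cons, List.map_nil, List.prod_cons, List.prod_nil, mul_one, e0, e5, s32,
    hcF 3 2, c1, c3] at hu
  have d : F 3 = F 2 :=
    (eq_inv_of_mul_eq_one_right hu).trans (eq_inv_of_mul_eq_one_right h2).symm
  -- `g` squares to one
  have h7 : F 7 = (F 6)⁻¹ := map_inv f (letG 6)
  have hg := hw [0, 5, 7, 7] (by decide +kernel)
  simp only [List.map_cons, List.map_nil, List.prod_cons, List.prod_nil, mul_one, e0, e5, d, c1, h7]
    at hg
  rw [← mul_inv_rev, inv_eq_one] at hg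
  have c6 : ∀ z, F 6 * (F 6 * z) = z := fun z => by rw [← mul_assoc, hg, one_mul]
  -- so the last but two relator says that `g` is the common value
  have hp := hw [1, 2, 3, 6, 1, 2, 3, 6, 1, 2, 3, 6, 1, 2, 3, 6, 1, 2, 3, 6] (by decide +kernel)
  simp only [List.map_cons, List.map_nil, List.prod_cons, List.prod_nil, mul_one, e1, d, c1] at hp
  have hswap : ∀ z, F 6 * (F 2 * z) = F 2 * (F 6 * z) := fun z => by
    rw [← mul_assoc, ← mul_assoc, hcF 6 2]
  simp only [hswap, c1, c6, hg] at hp
  have e6 : F 6 = F 2 := by
    rw [mul_one] at hp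
    exact (eq_inv_of_mul_eq_one_right hp).trans (eq_inv_of_mul_eq_one_right h2).symm
  have h6 := hw [6, 1, 2, 6, 2, 1, 6, 1, 2, 6, 2] (by decide +kernel)
  simp only [List.map_cons, List.map_nil, List.prod_cons, List.prod_nil, mul_one, e1, e6, c1,
    h2] at h6
  have hall : ∀ x < 8, F x = 1 := by
    intro x hx
    interval_cases x
    · exact e0.trans h6
    · exact e1.trans h6
    · exact h6
    · exact d.trans h6
    · exact e4.trans (d.trans h6)
    · exact e5.trans (d.trans h6)
    · exact e6.trans h6
    · rw [h7, e6, h6, inv_one]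
  refine MonoidHom.ext fun z => ?_
  have : z ∈ lsub letG (List.range 8) := lsub_all ▸ Subgroup.mem_top z
  induction this using Subgroup.closure_induction with
  | mem y hy =>
    obtain ⟨x, hx, rfl⟩ := hy
    exact hall x (List.mem_range.1 hx)
  | one => simp
  | mul a b _ _ ha hb => simp [ha, hb]
  | inv a _ ha => simp [ha]

theorem isSimple : IsSimpleGroup Cfsg.Spor.ON := by
  have := finite
  have : Nontrivial Cfsg.Spor.ON := Finite.one_lt_card_iff_nontrivial.1 (by rw [natCard]; omega)
  refine { eq_bot_or_eq_top_of_normal := fun N hN => ?_ }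
  rcases maximal (N ⊔ H6) le_sup_right with hK | hK
  · left
    have hle : N ≤ H6 := hK ▸ le_sup_left
    rw [Subgroup.eq_bot_iff_forall]
    intro x hx
    refine π_injective (Equiv.ext fun i => ?_)
    obtain ⟨g, rfl⟩ := transitive i
    have := H_fix _ (hle (hN.conj_mem' x hx g))
    rw [map_mul, map_mul, Perm.mul_apply, Perm.mul_apply, map_inv, Perm.inv_eq_iff_eq] at this
    rw [map_one, Perm.one_apply]
    exact this
  · right
    set q := QuotientGroup.mk' N with hq
    let f : L37Two →* Cfsg.Spor.ON ⧸ N := q.comp toON
    have hsurj : Function.Surjective f := by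
      rw [← MonoidHom.range_eq_top, MonoidHom.range_comp, toON_range, eq_top_iff]
      have : (N ⊔ H6).map q = ⊤ := by
        rw [hK]
        exact Subgroup.map_top_of_surjective _ (QuotientGroup.mk'_surjective N)
      rw [Subgroup.map_sup, hq, QuotientGroup.map_mk'_self, bot_sup_eq] at this
      rw [hq, this]
    have done : q = 1 → N = ⊤ := fun h => by
      rw [← QuotientGroup.ker_mk' N, ← hq, h, MonoidHom.ker_one]
    by_cases hs : f (img 0) = f (img 1)
    · -- the quotient is generated by one element
      refine done (trivial_of_commute q fun x y => ?_)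
      have hK' : (f.ker.comap SemidirectProduct.inl) = ⊤ := by
        have := isSimpleGroup_PSL37
        rcases (inferInstance : (f.ker.comap SemidirectProduct.inl).Normal).eq_bot_or_eq_top
          with e | e
        · exfalso
          have he : (img 0)⁻¹ * img 1 ∈ f.ker := by
            rw [MonoidHom.mem_ker, map_mul, map_inv, hs, inv_mul_cancel]
          rw [normal_trivial _ e, Subgroup.mem_bot, inv_mul_eq_one] at he
          exact π_separates (by rw [he])
        · exact e
      have hcy : ∀ a b : L37Two, f a * f b = f b * f a := by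
        intro a b
        have key : ∀ a : L37Two, f a = f (SemidirectProduct.inr a.right) := fun a => by
          have h1 : a.left ∈ f.ker.comap SemidirectProduct.inl := hK' ▸ Subgroup.mem_top _
          conv_lhs => rw [← SemidirectProduct.inl_left_mul_inr_right a, map_mul,
            MonoidHom.mem_ker.1 (Subgroup.mem_comap.1 h1), one_mul]
        rw [key a, key b, ← map_mul, ← map_mul, ← map_mul, ← map_mul, mul_comm a.right]
      obtain ⟨a, ha⟩ := hsurj (q x)
      obtain ⟨b, hb⟩ := hsurj (q y)
      rw [← ha, ← hb, hcy]
    · -- the quotient is `L₃(7):2`, which has a quotient of order two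
      exfalso
      let e := MulEquiv.ofBijective f ⟨injective_of_separates f hs, hsurj⟩
      let χ : Cfsg.Spor.ON →* Multiplicative (ZMod 2) :=
        (SemidirectProduct.rightHom.comp e.symm.toMonoidHom).comp q
      have h1 := trivial_of_commute χ fun x y => mul_comm _ _
      obtain ⟨g, hg⟩ := QuotientGroup.mk'_surjective N (f (img 0))
      have h2 : χ g = flip2 := by
        show SemidirectProduct.rightHom (e.symm (q g)) = flip2
        rw [hq, hg, show e.symm (f (img 0)) = img 0 from e.symm_apply_apply (img 0)]
        rfl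
      rw [h1] at h2
      exact absurd h2 (show (1 : Multiplicative (ZMod 2)) ≠ flip2 by decide)

theorem isON : Cfsg.IsON Cfsg.Spor.ON := ⟨isSimple, natCard⟩

end CfsgLib.Spor.ON
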