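import Cfsg.Agent.Lib.Spor.ON.BaseData
import Cfsg.Agent.Lib.Spor.ON.Simple

/-!
An element of the presented O'Nan group fixing three given points is trivial.
-/

namespace CfsgLib.Spor.ON

open Cfsg.Spor Equiv

/-- the second point -/
def p₁ : Fin 122760 := ⟨15, by omega⟩

/-- the third point -/
def p₂ : Fin 122760 := ⟨71333, by omega⟩

theorem fin_eq_p₁ (c : Nat) (hc : c < 122760) (h : c = 15) : (⟨c, hc⟩ : Fin 122760) = p₁ := by
  subst h; rfl

theorem stabW_ok : (stabW.all fun w => w.all (fun x => decide (x < 6)) &&
    Nat.beq (main.app w 15) 15) = true := by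
  decide +kernel

/-- the conditions on one orbit entry -/
noncomputable def regCond (i : Nat) : Bool :=
  decide ((regOrbit.getD i (0, 0, 0)).1 < 122760) &&
      (Nat.beq i 0 && Nat.beq (regOrbit.getD i (0, 0, 0)).1 71333 ||
        decide ((regOrbit.getD i (0, 0, 0)).2.1 < i) &&
          decide ((regOrbit.getD i (0, 0, 0)).2.2 < stabW.length) &&
          Nat.beq (main.app (stabW.getD (regOrbit.getD i (0, 0, 0)).2.2 [])
            (regOrbit.getD (regOrbit.getD i (0, 0, 0)).2.1 (0, 0, 0)).1)
            (regOrbit.getD i (0, 0, 0)).1)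

theorem regOrbit_piece0 : allPiece 672 regCond (0 * 224) 224 = true := by decide +kernel

theorem regOrbit_piece1 : allPiece 672 regCond (1 * 224) 224 = true := by decide +kernel

theorem regOrbit_piece2 : allPiece 672 regCond (2 * 224) 224 = true := by decide +kernel

theorem regOrbit_length : regOrbit.length = 672 := by decide +kernel

theorem regOrbit_ok : (decide (regOrbit.length = 672) &&
    (List.range 672).all fun i => decide ((regOrbit.getD i (0, 0, 0)).1 < 122760) &&
      (Nat.beq i 0 && Nat.beq (regOrbit.getD i (0, 0, 0)).1 71333 ||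
        decide ((regOrbit.getD i (0, 0, 0)).2.1 < i) &&
          decide ((regOrbit.getD i (0, 0, 0)).2.2 < stabW.length) &&
          Nat.beq (main.app (stabW.getD (regOrbit.getD i (0, 0, 0)).2.2 [])
            (regOrbit.getD (regOrbit.getD i (0, 0, 0)).2.1 (0, 0, 0)).1)
            (regOrbit.getD i (0, 0, 0)).1)) = true := by
  have h : CfsgLib.PresCert.allBelow 672 regCond = true :=
    allBelow_of_pieces 224 3 (by omega) (by omega) fun j hj => by
      interval_cases j
      · exact regOrbit_piece0
      · exact regOrbit_piece1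
      · exact regOrbit_piece2
  rw [regOrbit_length, decide_eq_true rfl, Bool.true_and, List.all_eq_true]
  intro i hi
  exact CfsgLib.PresCert.allBelow_spec h i (List.mem_range.1 hi)

/-- `x` does not occur in the list -/
noncomputable def notInB (x : Nat) (l : List Nat) : Bool :=
  List.rec (motive := fun _ => Bool) true (fun y _ ih => Bool.rec ih false (Nat.beq x y)) l

/-- no repetition in the list -/
noncomputable def nodupB (l : List Nat) : Bool :=
  List.rec (motive := fun _ => Bool) true (fun x r ih => Bool.rec false ih (notInB x r)) l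

theorem notInB_spec {x : Nat} : ∀ {l : List Nat}, notInB x l = true → x ∉ l
  | [], _ => List.not_mem_nil
  | y :: l, h => by
    have h' : (Bool.rec (notInB x l) false (Nat.beq x y) : Bool) = true := h
    cases hb : Nat.beq x y with
    | true => simp [hb] at h'
    | false =>
      simp only [hb] at h'
      rw [List.mem_cons, not_or]
      exact ⟨fun e => (by rw [e, Nat.beq_refl] at hb; exact Bool.noConfusion hb), notInB_spec h'⟩

theorem nodupB_spec : ∀ {l : List Nat}, nodupB l = true → l.Nodup
  | [], _ => List.nodup_nil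
  | x :: l, h => by
    have h' : (Bool.rec false (nodupB l) (notInB x l) : Bool) = true := h
    cases hb : notInB x l with
    | false => simp [hb] at h'
    | true =>
      simp only [hb] at h'
      exact List.nodup_cons.2 ⟨notInB_spec hb, nodupB_spec h'⟩

theorem regOrbit_nodup : (regOrbit.map Prod.fst).Nodup :=
  nodupB_spec (by decide +kernel)

theorem word_mem_H {w : List Nat} (hw : ∀ x ∈ w, x < 6) : evalW gen w ∈ H6 := by
  refine list_prod_mem fun q hq => ?_
  obtain ⟨x, hx, rfl⟩ := List.mem_map.1 hq
  exact letter_mem (hw x hx)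

/-- the action of the six involutions -/
noncomputable abbrev actH : MulAction H6 (Fin 122760) :=
  MulAction.compHom _ (π.comp H6.subtype)

/-- Only `1` fixes the three points. -/
theorem eq_one_of_fix (g : Cfsg.Spor.ON) (h0 : π g i₀ = i₀) (h1 : π g p₁ = p₁)
    (h2 : π g p₂ = p₂) : g = 1 := by
  letI := actH
  have hsmul : ∀ (h : H6) (i : Fin 122760), h • i = π (h : Cfsg.Spor.ON) i := fun _ _ => rfl
  have := finite
  -- the orbit of the second point
  have horb1 : 5586 ≤ Nat.card (MulAction.orbit H6 p₁) := by
    have conn : ∀ j, (hj : j < 5586) →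
        (⟨ordC (110790 + j), (ord_spec (by omega)).1⟩ : Fin 122760) ∈ MulAction.orbit H6 p₁ := by
      intro j
      induction j using Nat.strong_induction_on with
      | _ j ih =>
        intro hj
        obtain ⟨-, -, h | ⟨a1, a2, a3, a4⟩⟩ := orbit_3 j hj
        · have : j = 0 := by omega
          subst this
          have e : (⟨ordC (110790 + 0), (ord_spec (by omega)).1⟩ : Fin 122760) = p₁ :=
            fin_eq_p₁ _ _ (show ordC (110790 + 0) = 15 by decide +kernel)
          rw [e]
          exact MulAction.mem_orbit_self _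
        · obtain ⟨h, hh, e⟩ := stp_mem a3
          obtain ⟨k, hk⟩ := ih (parK (110790 + j) - 110790) (by omega) (by omega)
          refine ⟨⟨h, hh⟩ * k, ?_⟩
          have hk' : k • p₁ = (⟨ordC (parK (110790 + j)), (ord_spec (by omega)).1⟩ : Fin 122760) :=
            hk.trans (Fin.ext (by simp only; rw [Nat.add_sub_cancel' a1]))
          show (⟨h, hh⟩ * k : H6) • p₁ = _
          rw [mul_smul, hk', hsmul, e]
          exact Fin.ext ((stp_val (by omega) _).trans a4)
    let f : Fin 5586 → MulAction.orbit H6 p₁ := fun j => ⟨_, conn j j.2⟩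
    have hf : Function.Injective f := by
      intro a b h
      have h' := congrArg (fun x => posC (Fin.val (Subtype.val x))) h
      simp only [f] at h'
      rw [(ord_spec (by omega)).2, (ord_spec (by omega)).2] at h'
      exact Fin.ext (by omega)
    simpa using Nat.card_le_card_of_injective f hf
  set S := MulAction.stabilizer H6 p₁ with hS
  have e1 : Nat.card (MulAction.orbit H6 p₁) * Nat.card S = 3753792 := by
    rw [← card_H, ← (MulAction.stabilizer H6 p₁).card_mul_index,
      Nat.card_congr (MulAction.orbitEquivQuotientStabilizer H6 p₁), ← Subgroup.index_eq_card,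
      mul_comm]
  have hcS : Nat.card S ≤ 672 := by nlinarith
  -- the orbit of the third point
  have hok := regOrbit_ok
  simp only [Bool.and_eq_true, Bool.or_eq_true, List.all_eq_true, decide_eq_true_eq,
    List.mem_range] at hok
  obtain ⟨hlen, hok⟩ := hok
  have hw := stabW_ok
  simp only [List.all_eq_true, Bool.and_eq_true, decide_eq_true_eq] at hw
  have conn2 : ∀ i, (hi : i < 672) →
      (⟨(regOrbit.getD i (0, 0, 0)).1, (hok i hi).1⟩ : Fin 122760) ∈ MulAction.orbit S p₂ := by
    intro i
    induction i using Nat.strong_induction_on with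
    | _ i ih =>
      intro hi
      rcases (hok i hi).2 with ⟨a1, a2⟩ | ⟨⟨a1, a2⟩, a3⟩
      · exact ⟨1, by rw [show (fun m : S => m • p₂) 1 = p₂ from one_smul _ _]
                     exact Fin.ext (Nat.eq_of_beq_eq_true a2).symm⟩
      · set w := stabW.getD (regOrbit.getD i (0, 0, 0)).2.2 [] with hwdef
        have hm : w ∈ stabW := by
          rw [hwdef, List.getD_eq_getElem _ _ a2]
          exact List.getElem_mem _
        obtain ⟨h6, hfix⟩ := hw w hm
        have h8 : ∀ x ∈ w, x < 8 := fun x hx => (h6 x hx).trans (by omega)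
        have hS : (⟨(evalW gen w)⁻¹, H6.inv_mem (word_mem_H h6)⟩ : H6) ∈ S := by
          rw [hS, MulAction.mem_stabilizer_iff, hsmul]
          show π (evalW gen w)⁻¹ p₁ = p₁
          rw [map_inv]
          exact Fin.ext ((π_word w h8 p₁).trans (Nat.eq_of_beq_eq_true hfix))
        obtain ⟨k, hk⟩ := ih _ a1 (a1.trans hi)
        refine ⟨⟨_, hS⟩ * k, ?_⟩
        show (⟨_, hS⟩ * k : S) • p₂ = _
        rw [mul_smul, show k • p₂ = _ from hk]
        show π (evalW gen w)⁻¹ _ = _
        rw [map_inv]
        exact Fin.ext ((π_word w h8 _).trans (Nat.eq_of_beq_eq_true a3))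
  have horb2 : 672 ≤ Nat.card (MulAction.orbit S p₂) := by
    let f : Fin 672 → MulAction.orbit S p₂ := fun i => ⟨_, conn2 i i.2⟩
    have hf : Function.Injective f := by
      intro a b h
      have h' := congrArg (fun x => Fin.val (Subtype.val x)) h
      simp only [f] at h'
      rw [List.getD_eq_getElem _ _ (hlen.symm ▸ a.2), List.getD_eq_getElem _ _ (hlen.symm ▸ b.2)]
        at h'
      have := (List.Nodup.getElem_inj_iff regOrbit_nodup (i := a.val) (j := b.val)
        (hi := by simp [hlen]) (hj := by simp [hlen])).1 (by simpa using h')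
      exact Fin.ext this
    simpa using Nat.card_le_card_of_injective f hf
  have e2 : Nat.card (MulAction.orbit S p₂) * Nat.card (MulAction.stabilizer S p₂) = Nat.card S := by
    rw [← (MulAction.stabilizer S p₂).card_mul_index,
      Nat.card_congr (MulAction.orbitEquivQuotientStabilizer S p₂), ← Subgroup.index_eq_card,
      mul_comm]
  have htriv : Nat.card (MulAction.stabilizer S p₂) = 1 := by
    have hpos : 0 < Nat.card (MulAction.stabilizer S p₂) := Nat.card_pos
    nlinarith
  have hgH : g ∈ H6 := mem_H_of_fix g h0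
  have hgS : (⟨g, hgH⟩ : H6) ∈ S := by rw [hS, MulAction.mem_stabilizer_iff, hsmul]; exact h1
  have hg2 : (⟨⟨g, hgH⟩, hgS⟩ : S) ∈ MulAction.stabilizer S p₂ := by
    rw [MulAction.mem_stabilizer_iff]
    exact h2
  rw [Subgroup.eq_bot_of_card_eq _ htriv, Subgroup.mem_bot] at hg2
  exact congrArg (fun x : S => ((x : H6) : Cfsg.Spor.ON)) hg2

/-- a word is trivial if it fixes the three points -/
theorem word_eq_one {w : List Nat} (h : (w.all (fun x => decide (x < 8)) &&
    Nat.beq (main.app w 0) 0 && Nat.beq (main.app w 15) 15 && Nat.beq (main.app w 71333) 71333) = true) :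
    evalW gen w = 1 := by
  simp only [Bool.and_eq_true, List.all_eq_true, decide_eq_true_eq] at h
  obtain ⟨⟨⟨h8, a0⟩, a1⟩, a2⟩ := h
  refine inv_eq_one.1 (eq_one_of_fix _ ?_ ?_ ?_) <;> rw [map_inv]
  · exact Fin.ext ((π_word w h8 i₀).trans (Nat.eq_of_beq_eq_true a0))
  · exact Fin.ext ((π_word w h8 p₁).trans (Nat.eq_of_beq_eq_true a1))
  · exact Fin.ext ((π_word w h8 p₂).trans (Nat.eq_of_beq_eq_true a2))

end CfsgLib.Spor.ON
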