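import Cfsg.Agent.Lib.PresCert.Tree

/-!
Derivations by labelled paths.

A derivation is a numbered list of facts `(source, label, target)` between numbered nodes.  A fact
either creates its target node, or says that a subgroup generator fixes node `0`, or closes a
path through earlier facts whose label is trivial, freely or by one relator.
-/

namespace CfsgLib.Spor.ON

open CfsgLib.PresCert

/-- A group with the alphabet of a derivation, the relators and the subgroup. -/
structure Alph where
  /-- number of letters -/
  g : Nat
  /-- inverse letters -/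
  inv : List Nat
  /-- relators -/
  rels : List (List Nat)
  /-- subgroup generators -/
  subs : List (List Nat)

namespace Alph

variable (A : Alph)

/-- inverse letter -/
noncomputable def iv (x : Nat) : Nat := A.inv.getD x (nat_lit 0)

/-- put a letter in front of a freely reduced word -/
noncomputable def pushFree (x : Nat) : List Nat → List Nat
  | [] => [x]
  | y :: w => bif Nat.beq (A.iv x) y then w else x :: y :: w

/-- free reduction -/
noncomputable def reduce : List Nat → List Nat
  | [] => []
  | x :: w => A.pushFree x (reduce w)

/-- equality of words -/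
noncomputable def sameWord : List Nat → List Nat → Bool
  | [], [] => true
  | x :: v, y :: w => Nat.beq x y && sameWord v w
  | _, _ => false

end Alph

theorem sameWord_eq : ∀ {v w : List Nat}, Alph.sameWord v w = true → v = w
  | [], [], _ => rfl
  | [], _ :: _, h => by simp [Alph.sameWord] at h
  | _ :: _, [], h => by simp [Alph.sameWord] at h
  | x :: v, y :: w, h => by
    simp only [Alph.sameWord, Bool.and_eq_true] at h
    rw [Nat.eq_of_beq_eq_true h.1, sameWord_eq h.2]

/-- The facts of a derivation, packed one to a leaf, and for each node the fact creating it. -/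
structure Deriv where
  /-- number of facts -/
  cnt : Nat
  /-- packed facts -/
  fact : BTree
  /-- creating fact of a node -/
  dfn : BTree

namespace Deriv

variable (D : Deriv)

/-- kind of a fact: creation, subgroup generator, loop -/
noncomputable def kind (k : Nat) : Nat := Nat.land (D.fact.get k) (nat_lit 3)

/-- label; the number of letters stands for the empty label -/
noncomputable def lab (k : Nat) : Nat :=
  Nat.land (Nat.shiftRight (D.fact.get k) (nat_lit 2)) (nat_lit 15)

/-- source -/
noncomputable def src (k : Nat) : Nat :=
  Nat.land (Nat.shiftRight (D.fact.get k) (nat_lit 6)) (nat_lit 1048575)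

/-- target -/
noncomputable def dst (k : Nat) : Nat :=
  Nat.land (Nat.shiftRight (D.fact.get k) (nat_lit 26)) (nat_lit 1048575)

/-- relator or generator number; `63` for none -/
noncomputable def relNo (k : Nat) : Nat :=
  Nat.land (Nat.shiftRight (D.fact.get k) (nat_lit 46)) (nat_lit 63)

/-- rotation -/
noncomputable def rot (k : Nat) : Nat :=
  Nat.land (Nat.shiftRight (D.fact.get k) (nat_lit 52)) (nat_lit 63)

/-- number of steps -/
noncomputable def nsteps (k : Nat) : Nat :=
  Nat.land (Nat.shiftRight (D.fact.get k) (nat_lit 58)) (nat_lit 4095)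

/-- the steps -/
noncomputable def steps (k : Nat) : Nat := Nat.shiftRight (D.fact.get k) (nat_lit 70)

/-- follow packed steps through facts numbered below `k`, collecting labels -/
noncomputable def trace (A : Alph) (k : Nat) : Nat → Nat → Nat → Option (Nat × List Nat)
  | 0, _, c => some (c, [])
  | n + 1, p, c =>
    let e := Nat.land p (nat_lit 262143)
    let i := Nat.shiftRight e (nat_lit 1)
    let q := Nat.shiftRight p (nat_lit 18)
    bif Nat.blt i k then
      bif Nat.beq (Nat.land e (nat_lit 1)) (nat_lit 0) then
        bif Nat.beq (D.src i) c then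
          (trace A k n q (D.dst i)).map fun r =>
            (r.1, bif Nat.beq (D.lab i) A.g then r.2 else D.lab i :: r.2)
        else none
      else
        bif Nat.beq (D.dst i) c then
          (trace A k n q (D.src i)).map fun r =>
            (r.1, bif Nat.beq (D.lab i) A.g then r.2 else A.iv (D.lab i) :: r.2)
        else none
    else none

/-- the path from `a` to `b` with the given label -/
noncomputable def okPath (A : Alph) (k n p a b : Nat) (w : List Nat) : Bool :=
  match D.trace A k n p a with
  | none => false
  | some r => Nat.beq r.1 b && Alph.sameWord (A.reduce r.2) (A.reduce w)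

/-- one fact is justified -/
noncomputable def okFact (A : Alph) (k : Nat) : Bool :=
  let l := D.lab k
  bif Nat.beq (D.kind k) (nat_lit 0) then
    Nat.blt (D.src k) (D.dst k) && Nat.blt l A.g && Nat.beq (D.dfn.get (D.dst k)) k
  else bif Nat.beq (D.kind k) (nat_lit 1) then
    Nat.beq (D.src k) (nat_lit 0) && Nat.beq (D.dst k) (nat_lit 0) && Nat.blt l A.g &&
      Nat.blt (D.relNo k) A.subs.length && Alph.sameWord (A.subs.getD (D.relNo k) []) [l]
  else
    match D.trace A k (D.nsteps k) (D.steps k) (D.dst k) with
    | none => false
    | some r =>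
      let u := bif Nat.beq l A.g then r.2 else l :: r.2
      Nat.beq r.1 (D.src k) && Nat.ble l A.g &&
        bif Nat.beq (D.relNo k) (nat_lit 63) then Alph.sameWord (A.reduce u) []
        else Nat.blt (D.relNo k) A.rels.length &&
          Alph.sameWord (A.reduce u) (A.reduce ((A.rels.getD (D.relNo k) []).drop (D.rot k) ++
            (A.rels.getD (D.relNo k) []).take (D.rot k)))

/-- all facts are justified -/
noncomputable def ok (A : Alph) : Bool := allBelow D.cnt fun k => D.okFact A k

end Deriv

/-- An interpretation of an alphabet in a group. -/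
structure Interp (A : Alph) (Q : Type*) [Group Q] where
  /-- the letters -/
  gen : Nat → Q
  gen_inv : ∀ x < A.g, A.iv x < A.g ∧ gen (A.iv x) = (gen x)⁻¹
  rels_eq : ∀ r ∈ A.rels, (∀ x ∈ r, x < A.g) ∧ (r.map gen).prod = 1
  /-- the subgroup -/
  sub : Subgroup Q
  subs_mem : ∀ r ∈ A.subs, (∀ x ∈ r, x < A.g) ∧ (r.map gen).prod ∈ sub

namespace Interp

variable {A : Alph} {Q : Type*} [Group Q] (M : Interp A Q)

/-- value of a word -/
noncomputable def wval (w : List Nat) : Q := (w.map M.gen).prod

theorem wval_cons (x : Nat) (w : List Nat) : M.wval (x :: w) = M.gen x * M.wval w := by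
  simp [wval]

theorem wval_append (u w : List Nat) : M.wval (u ++ w) = M.wval u * M.wval w := by
  simp [wval]

theorem pushFree_sound (x : Nat) (hx : x < A.g) (w : List Nat) (hw : ∀ y ∈ w, y < A.g) :
    (∀ y ∈ A.pushFree x w, y < A.g) ∧ M.wval (A.pushFree x w) = M.gen x * M.wval w := by
  cases w with
  | nil => simp [Alph.pushFree, wval, hx]
  | cons y w =>
    simp only [Alph.pushFree]
    cases h : Nat.beq (A.iv x) y with
    | true =>
      simp only [cond_true]
      refine ⟨fun z hz => hw z (List.mem_cons_of_mem _ hz), ?_⟩
      rw [wval_cons, ← Nat.eq_of_beq_eq_true h, (M.gen_inv x hx).2]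
      simp
    | false =>
      simp only [cond_false]
      refine ⟨fun z hz => ?_, by rw [wval_cons]⟩
      rcases List.mem_cons.1 hz with rfl | hz
      · exact hx
      · exact hw z hz

theorem reduce_sound : ∀ (w : List Nat), (∀ y ∈ w, y < A.g) →
    (∀ y ∈ A.reduce w, y < A.g) ∧ M.wval (A.reduce w) = M.wval w
  | [], _ => by simp [Alph.reduce]
  | x :: w, h => by
    have hr := reduce_sound w fun y hy => h y (List.mem_cons_of_mem _ hy)
    have hp := M.pushFree_sound x (h x (List.mem_cons_self ..)) _ hr.1
    exact ⟨hp.1, by rw [wval_cons, ← hr.2]; exact hp.2⟩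

theorem wval_eq_of_reduce {u w : List Nat} (hu : ∀ y ∈ u, y < A.g) (hw : ∀ y ∈ w, y < A.g)
    (h : A.reduce u = A.reduce w) : M.wval u = M.wval w := by
  rw [← (M.reduce_sound u hu).2, ← (M.reduce_sound w hw).2, h]

theorem rels_getD {r : Nat} (hr : r < A.rels.length) :
    (∀ y ∈ A.rels.getD r [], y < A.g) ∧ M.wval (A.rels.getD r []) = 1 := by
  refine M.rels_eq _ ?_
  rw [List.getD_eq_getElem?_getD, List.getElem?_eq_getElem hr]
  exact List.getElem_mem hr

theorem rotate_eq_one {w : List Nat} (h : M.wval w = 1) (i : Nat) :
    M.wval (w.drop i ++ w.take i) = 1 := by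
  rw [← List.take_append_drop i w, wval_append] at h
  rw [wval_append]
  exact mul_eq_one_comm.1 h

theorem mem_rotate {w : List Nat} (h : ∀ y ∈ w, y < A.g) (i : Nat) :
    ∀ y ∈ w.drop i ++ w.take i, y < A.g := by
  intro y hy
  rcases List.mem_append.1 hy with hy | hy
  · exact h y (List.mem_of_mem_drop hy)
  · exact h y (List.mem_of_mem_take hy)

variable (D : Deriv)

/-- value of a node by following creations -/
noncomputable def valAux : Nat → Nat → Q
  | 0, _ => 1
  | k + 1, v =>
    if v ≤ D.src (D.dfn.get v) then 1
    else valAux k (D.src (D.dfn.get v)) * M.gen (D.lab (D.dfn.get v))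

/-- value of a node -/
noncomputable def val (v : Nat) : Q := M.valAux D v v

theorem valAux_eq : ∀ k v, v ≤ k → M.valAux D k v = M.valAux D v v := by
  intro k
  induction k using Nat.strong_induction_on with
  | _ k ih =>
    intro v hv
    rcases k with _ | k
    · simp [show v = 0 by omega]
    rcases v with _ | v
    · simp [valAux]
    simp only [valAux]
    by_cases h : v + 1 ≤ D.src (D.dfn.get (v + 1))
    · rw [if_pos h, if_pos h]
    · rw [if_neg h, if_neg h, ih k (by omega) _ (by omega), ih v (by omega) _ (by omega)]

theorem val_zero : M.val D 0 = 1 := rfl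

theorem val_step {v : Nat} (h : D.src (D.dfn.get v) < v) :
    M.val D v = M.val D (D.src (D.dfn.get v)) * M.gen (D.lab (D.dfn.get v)) := by
  rcases v with _ | v
  · omega
  simp only [val, valAux]
  rw [if_neg (by omega), M.valAux_eq D v _ (by omega)]

/-- the relation asserted between two nodes with a label value -/
def Rel (a : Nat) (q : Q) (b : Nat) : Prop := M.val D a * q * (M.val D b)⁻¹ ∈ M.sub

theorem rel_trans {a b c : Nat} {p q : Q} (h₁ : M.Rel D a p b) (h₂ : M.Rel D b q c) :
    M.Rel D a (p * q) c := by
  have := M.sub.mul_mem h₁ h₂
  simpa [Rel, mul_assoc] using this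

theorem rel_symm {a b : Nat} {q : Q} (h : M.Rel D a q b) : M.Rel D b q⁻¹ a := by
  have := M.sub.inv_mem h
  simpa [Rel, mul_assoc] using this

theorem rel_refl (a : Nat) : M.Rel D a 1 a := by simp [Rel]

/-- value of a label -/
noncomputable def labVal (k : Nat) : Q := if D.lab k = A.g then 1 else M.gen (D.lab k)

/-- the meaning of a fact -/
def FactOK (k : Nat) : Prop := D.lab k ≤ A.g ∧ M.Rel D (D.src k) (M.labVal D k) (D.dst k)

theorem trace_sound {k : Nat} (hf : ∀ i < k, M.FactOK D i) :
    ∀ (n p a : Nat) (r : Nat × List Nat), D.trace A k n p a = some r →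
      (∀ y ∈ r.2, y < A.g) ∧ M.Rel D a (M.wval r.2) r.1 := by
  intro n
  induction n with
  | zero =>
    intro p a r h
    simp only [Deriv.trace, Option.some.injEq] at h
    subst h
    exact ⟨by simp, by simpa [wval] using M.rel_refl D a⟩
  | succ n ih =>
    intro p a r h
    simp only [Deriv.trace] at h
    set i := Nat.shiftRight (Nat.land p 262143) 1
    cases hi : Nat.blt i k with
    | false => simp [hi] at h
    | true =>
      simp only [hi, cond_true] at h
      obtain ⟨hlab, hrel⟩ := hf i (Nat.blt_eq.mp hi)
      cases hd : Nat.beq (Nat.land (Nat.land p 262143) 1) 0 with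
      | true =>
        simp only [hd, cond_true] at h
        cases hs : Nat.beq (D.src i) a with
        | false => simp [hs] at h
        | true =>
          simp only [hs, cond_true] at h
          obtain ⟨q, hq, rfl⟩ := Option.map_eq_some_iff.1 h
          obtain ⟨h1, h2⟩ := ih _ _ _ hq
          rw [Nat.eq_of_beq_eq_true hs] at hrel
          cases hg : Nat.beq (D.lab i) A.g with
          | true =>
            simp only [cond_true]
            refine ⟨h1, ?_⟩
            simpa [labVal, Nat.eq_of_beq_eq_true hg] using M.rel_trans D hrel h2
          | false =>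
            have hne : D.lab i ≠ A.g := fun e => by simp [e] at hg
            simp only [cond_false]
            refine ⟨fun y hy => ?_, ?_⟩
            · rcases List.mem_cons.1 hy with rfl | hy
              · omega
              · exact h1 y hy
            · rw [wval_cons]
              simpa [labVal, hne] using M.rel_trans D hrel h2
      | false =>
        simp only [hd, cond_false] at h
        cases hs : Nat.beq (D.dst i) a with
        | false => simp [hs] at h
        | true =>
          simp only [hs, cond_true] at h
          obtain ⟨q, hq, rfl⟩ := Option.map_eq_some_iff.1 h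
          obtain ⟨h1, h2⟩ := ih _ _ _ hq
          have hr' := M.rel_symm D hrel
          rw [Nat.eq_of_beq_eq_true hs] at hr'
          cases hg : Nat.beq (D.lab i) A.g with
          | true =>
            simp only [cond_true]
            refine ⟨h1, ?_⟩
            simpa [labVal, Nat.eq_of_beq_eq_true hg] using M.rel_trans D hr' h2
          | false =>
            have hne : D.lab i ≠ A.g := fun e => by simp [e] at hg
            obtain ⟨hv, hgi⟩ := M.gen_inv (D.lab i) (by omega)
            simp only [cond_false]
            refine ⟨fun y hy => ?_, ?_⟩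
            · rcases List.mem_cons.1 hy with rfl | hy
              · exact hv
              · exact h1 y hy
            · rw [wval_cons, hgi]
              simpa [labVal, hne] using M.rel_trans D hr' h2

theorem fact_sound {k : Nat} (hk : D.okFact A k = true) (hf : ∀ i < k, M.FactOK D i) :
    M.FactOK D k := by
  simp only [Deriv.okFact] at hk
  cases h0 : Nat.beq (D.kind k) 0 with
  | true =>
    simp only [h0, cond_true, Bool.and_eq_true, Nat.blt_eq] at hk
    obtain ⟨⟨h1, h2⟩, h3⟩ := hk
    have e := Nat.eq_of_beq_eq_true h3
    refine ⟨h2.le, ?_⟩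
    have := M.val_step D (v := D.dst k) (by rw [e]; exact h1)
    rw [e] at this
    simp [Rel, labVal, h2.ne, this]
  | false =>
    simp only [h0, cond_false] at hk
    cases h1 : Nat.beq (D.kind k) 1 with
    | true =>
      simp only [h1, cond_true, Bool.and_eq_true, Nat.blt_eq] at hk
      obtain ⟨⟨⟨⟨hs, hd⟩, hl⟩, hr⟩, he⟩ := hk
      refine ⟨hl.le, ?_⟩
      have hm : A.subs.getD (D.relNo k) [] ∈ A.subs := by
        rw [List.getD_eq_getElem?_getD, List.getElem?_eq_getElem hr]
        exact List.getElem_mem hr
      have hw := (M.subs_mem _ hm).2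
      rw [sameWord_eq he] at hw
      simpa [Rel, labVal, hl.ne, Nat.eq_of_beq_eq_true hs, Nat.eq_of_beq_eq_true hd, val_zero]
        using hw
    | false =>
      simp only [h1, cond_false] at hk
      split at hk
      · simp at hk
      rename_i r hr
      simp only [Bool.and_eq_true] at hk
      obtain ⟨⟨he, hl⟩, hj⟩ := hk
      have hl := Nat.le_of_ble_eq_true hl
      obtain ⟨hmem, hrel⟩ := M.trace_sound D hf _ _ _ r hr
      refine ⟨hl, ?_⟩
      rw [Nat.eq_of_beq_eq_true he] at hrel
      set u := bif Nat.beq (D.lab k) A.g then r.2 else D.lab k :: r.2 with hu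
      have humem : ∀ y ∈ u, y < A.g := by
        cases hg : Nat.beq (D.lab k) A.g with
        | true => simpa [hu, hg] using hmem
        | false =>
          have hne : D.lab k ≠ A.g := fun e => by simp [e] at hg
          simp only [hu, hg, cond_false]
          intro y hy
          rcases List.mem_cons.1 hy with rfl | hy
          · omega
          · exact hmem y hy
      have hone : M.wval u = 1 := by
        cases hn : Nat.beq (D.relNo k) 63 with
        | true =>
          simp only [hn, cond_true] at hj
          rw [← (M.reduce_sound u humem).2, sameWord_eq hj]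
          simp [wval]
        | false =>
          simp only [hn, cond_false, Bool.and_eq_true, Nat.blt_eq] at hj
          obtain ⟨hr1, hr2⟩ := M.rels_getD hj.1
          rw [M.wval_eq_of_reduce humem (mem_rotate hr1 _) (sameWord_eq hj.2)]
          exact M.rotate_eq_one hr2 _
      have huv : M.wval u = M.labVal D k * M.wval r.2 := by
        cases hg : Nat.beq (D.lab k) A.g with
        | true => simp [hu, labVal, Nat.eq_of_beq_eq_true hg]
        | false =>
          have hne : D.lab k ≠ A.g := fun e => by simp [e] at hg
          simp [hu, hg, labVal, hne, wval_cons]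
      have := M.rel_symm D hrel
      rw [← eq_inv_of_mul_eq_one_left (huv ▸ hone)] at this
      exact this

theorem facts_ok (h : D.ok A = true) : ∀ k < D.cnt, M.FactOK D k := by
  intro k
  induction k using Nat.strong_induction_on with
  | _ k ih =>
    intro hk
    exact M.fact_sound D (allBelow_spec h k hk) fun i hi => ih i hi (hi.trans hk)

/-- a path of facts from `0` to `0` puts its label in the subgroup -/
theorem mem_of_path (h : D.ok A = true) {n p : Nat} {w : List Nat} (hw : ∀ y ∈ w, y < A.g)
    (hp : D.okPath A D.cnt n p 0 0 w = true) : M.wval w ∈ M.sub := by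
  simp only [Deriv.okPath] at hp
  split at hp
  · simp at hp
  rename_i r hr
  simp only [Bool.and_eq_true] at hp
  obtain ⟨hmem, hrel⟩ := M.trace_sound D (fun i hi => M.facts_ok D h i hi) _ _ _ r hr
  rw [← M.wval_eq_of_reduce hmem hw (sameWord_eq hp.2)]
  simpa [Rel, Nat.eq_of_beq_eq_true hp.1, val_zero] using hrel

end Interp

end CfsgLib.Spor.ON
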