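import Cfsg.Agent.Lib.Spor.ON.OrbTab

/-!
Checks of the orbit enumeration.
-/

set_option linter.all false

namespace CfsgLib.Spor.ON

set_option Elab.async false

theorem orb_0_0 : okOrb 0 0 1 = true := by decide +kernel

theorem orb_1_0 : okOrb 1 0 16384 = true := by decide +kernel

theorem orb_1_16384 : okOrb 1 16384 16384 = true := by decide +kernel

theorem orb_1_32768 : okOrb 1 32768 16384 = true := by decide +kernel

theorem orb_1_49152 : okOrb 1 49152 9501 = true := by decide +kernel

theorem orb_58654_0 : okOrb 58654 0 16384 = true := by decide +kernel

end CfsgLib.Spor.ON
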