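import Cfsg.Agent.Lib.Spor.ON.OrbTab

/-!
Checks of the orbit enumeration.
-/

set_option linter.all false

namespace CfsgLib.Spor.ON

set_option Elab.async false

theorem orb_58654_16384 : okOrb 58654 16384 16384 = true := by decide +kernel

theorem orb_58654_32768 : okOrb 58654 32768 16384 = true := by decide +kernel

theorem orb_58654_49152 : okOrb 58654 49152 2984 = true := by decide +kernel

theorem orb_110790_0 : okOrb 110790 0 5586 = true := by decide +kernel

theorem orb_116376_0 : okOrb 116376 0 6384 = true := by decide +kernel

end CfsgLib.Spor.ON
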