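import Cfsg.Agent.Lib.Spor.ON.SubH
import Cfsg.Agent.Lib.Spor.ON.OrbChecks0
import Cfsg.Agent.Lib.Spor.ON.OrbChecks1
import Cfsg.Agent.Lib.PresCert.CosetAction

/-!
The subgroup on the six involutions is maximal in the presented O'Nan group.
-/

namespace CfsgLib.Spor.ON

open Cfsg.Spor Equiv

/-- what the checks give for one position -/
def OrbPoint (lo k : Nat) : Prop :=
  ordC k < 122760 ∧ posC (ordC k) = k ∧ (k = lo ∨ (lo ≤ parK k ∧ parK k < k ∧ letK k < 6 ∧
    main.dest (Table.slot (ordC (parK k)) (letK k)) = ordC k))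

theorem orb_nil {lo : Nat} : ∀ j < 0, OrbPoint lo (lo + j) := fun j hj => absurd hj (Nat.not_lt_zero j)

theorem orb_join {lo off len : Nat} (h : ∀ j < off, OrbPoint lo (lo + j))
    (h' : okOrb lo off len = true) : ∀ j < off + len, OrbPoint lo (lo + j) :=
  Table.join h fun j hj => by
    have := CfsgLib.PresCert.allBelow_spec h' j hj
    simp only [Bool.and_eq_true, Bool.or_eq_true, Nat.blt_eq, Nat.ble_eq] at this
    obtain ⟨⟨h1, h2⟩, h3⟩ := this
    refine ⟨h1, Nat.eq_of_beq_eq_true h2, h3.imp (fun e => Nat.eq_of_beq_eq_true e) ?_⟩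
    rintro ⟨⟨⟨a, b⟩, c⟩, d⟩
    exact ⟨a, b, c, Nat.eq_of_beq_eq_true d⟩

theorem orbit_0 : ∀ j < 1, OrbPoint 0 (0 + j) :=
  (orb_join orb_nil orb_0_0)

theorem orbit_1 : ∀ j < 58653, OrbPoint 1 (1 + j) :=
  (orb_join (orb_join (orb_join (orb_join orb_nil orb_1_0) orb_1_16384) orb_1_32768) orb_1_49152)

theorem orbit_2 : ∀ j < 52136, OrbPoint 58654 (58654 + j) :=
  (orb_join (orb_join (orb_join (orb_join orb_nil orb_58654_0) orb_58654_16384) orb_58654_32768) orb_58654_49152)

theorem orbit_3 : ∀ j < 5586, OrbPoint 110790 (110790 + j) :=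
  (orb_join orb_nil orb_110790_0)

theorem orbit_4 : ∀ j < 6384, OrbPoint 116376 (116376 + j) :=
  (orb_join orb_nil orb_116376_0)

theorem ord_spec {k : Nat} (hk : k < 122760) : ordC k < 122760 ∧ posC (ordC k) = k := by
  have key : ∀ lo len : Nat, (∀ j < len, OrbPoint lo (lo + j)) → lo ≤ k → k < lo + len →
      ordC k < 122760 ∧ posC (ordC k) = k := by
    intro lo len h h1 h2
    have := h (k - lo) (by omega)
    rw [Nat.add_sub_cancel' h1] at this
    exact ⟨this.1, this.2.1⟩
  rcases lt_or_ge k 1 with h | h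
  · exact key _ _ orbit_0 (by omega) (by omega)
  rcases lt_or_ge k 58654 with h' | h'
  · exact key _ _ orbit_1 h (by omega)
  rcases lt_or_ge k 110790 with h'' | h''
  · exact key _ _ orbit_2 h' (by omega)
  rcases lt_or_ge k 116376 with h3 | h3
  · exact key _ _ orbit_3 h'' (by omega)
  · exact key _ _ orbit_4 h3 (by omega)

attribute [local instance] Classical.propDecidable

/-- the point at a position -/
noncomputable def ordF (k : Fin 122760) : Fin 122760 := ⟨ordC k, (ord_spec k.2).1⟩

theorem ordF_bijective : Function.Bijective ordF := by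
  refine Finite.injective_iff_bijective.1 fun a b h => Fin.ext ?_
  rw [← (ord_spec a.2).2, ← (ord_spec b.2).2]
  exact congrArg posC (congrArg Fin.val h)

/-- the position lies over the set -/
def OverSet (S : Set (Fin 122760)) (k : Nat) : Prop := ∃ h : k < 122760, ordF ⟨k, h⟩ ∈ S

theorem stp_mem {x : Nat} (hx : x < 6) : ∃ h ∈ H6, π h = stp x :=
  ⟨(letG x)⁻¹, H6.inv_mem (letter_mem hx), by rw [map_inv, π_lets, lets_permGen (by omega)]⟩

theorem orbit_count (S : Set (Fin 122760)) (hS : ∀ h ∈ H6, ∀ i ∈ S, π h i ∈ S)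
    (lo len : Nat) (horb : ∀ j < len, OrbPoint lo (lo + j)) (hle : lo + len ≤ 122760) :
    Nat.count (OverSet S) (lo + len) =
      Nat.count (OverSet S) lo +
        (if OverSet S lo then len else 0) := by
  have conn : ∀ j, (hj : j < len) → ((ordF ⟨lo + j, by omega⟩ ∈ S) ↔ (ordF ⟨lo, by omega⟩ ∈ S)) := by
    intro j
    induction j using Nat.strong_induction_on with
    | _ j ih =>
      intro hj
      obtain ⟨-, -, h | ⟨h1, h2, h3, h4⟩⟩ := horb j hj
      · have : j = 0 := by omega
        subst this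
        rfl
      · obtain ⟨g, hg, e⟩ := stp_mem h3
        have hp := ih (parK (lo + j) - lo) (by omega) (by omega)
        have hp' : (⟨lo + (parK (lo + j) - lo), by omega⟩ : Fin 122760) =
            ⟨parK (lo + j), by omega⟩ := Fin.ext (by simp; omega)
        rw [hp'] at hp
        rw [← hp]
        have hmove : π g (ordF ⟨parK (lo + j), by omega⟩) = ordF ⟨lo + j, by omega⟩ := by
          rw [e]
          exact Fin.ext ((stp_val (by omega) _).trans h4)
        constructor
        · intro hm
          have := hS g⁻¹ (H6.inv_mem hg) _ hm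
          rw [← hmove, ← Perm.mul_apply, ← map_mul, inv_mul_cancel, map_one, Perm.one_apply] at this
          exact this
        · intro hm
          have := hS g hg _ hm
          rwa [hmove] at this
  rw [Nat.count_add]
  congr 1
  split_ifs with h
  · rw [Nat.count_iff_forall]
    exact fun j hj => ⟨by omega, (conn j hj).2 h.2⟩
  · refine Nat.count_of_forall_not fun j hj hmem => h ⟨by omega, (conn j hj).1 hmem.2⟩

theorem invariant_sets (S : Set (Fin 122760)) (h0 : i₀ ∈ S)
    (hS : ∀ h ∈ H6, ∀ i ∈ S, π h i ∈ S) (hd : S.ncard ∣ 122760) : S = {i₀} ∨ S = Set.univ := by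
  have hcard : S.ncard = Nat.count (OverSet S) 122760 := by
    rw [Nat.count_eq_card_filter_range, ← Set.ncard_coe_finset]
    symm
    refine Set.ncard_congr
      (fun k hk => ordF ⟨k, List.mem_range.1 (by simpa using (Finset.mem_filter.1 hk).1)⟩) ?_ ?_ ?_
    · intro k hk
      obtain ⟨-, h, hm⟩ := Finset.mem_filter.1 hk
      exact hm
    · intro a b ha hb h
      exact congrArg Fin.val (ordF_bijective.1 h)
    · intro i hi
      obtain ⟨k, rfl⟩ := ordF_bijective.2 i
      exact ⟨k, Finset.mem_coe.2 (Finset.mem_filter.2 ⟨Finset.mem_range.2 k.2, k.2, hi⟩), rfl⟩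
  have e1 := orbit_count S hS 0 1 orbit_0 (by omega)
  have e2 := orbit_count S hS 1 58653 orbit_1 (by omega)
  have e3 := orbit_count S hS 58654 52136 orbit_2 (by omega)
  have e4 := orbit_count S hS 110790 5586 orbit_3 (by omega)
  have e5 := orbit_count S hS 116376 6384 orbit_4 (by omega)
  have h00 : OverSet S 0 := by
    refine ⟨by omega, ?_⟩
    rwa [show ordF ⟨0, by omega⟩ = i₀ from Fin.ext (show ordC 0 = 0 by decide +kernel)]
  simp only [Nat.reduceAdd, Nat.count_zero, if_pos h00, Nat.zero_add] at e1 e2 e3 e4 e5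
  rw [e4, e3, e2, e1] at e5
  have hn : S.ncard = 1 ∨ S.ncard = 122760 := by
    revert hd
    rw [hcard, e5]
    split_ifs <;> norm_num
  rcases hn with hn | hn
  · left
    obtain ⟨a, ha⟩ := Set.ncard_eq_one.1 hn
    rw [ha] at h0 ⊢
    rw [Set.mem_singleton_iff.1 h0]
  · right
    exact Set.eq_univ_of_univ_subset (Set.eq_of_subset_of_ncard_le (Set.subset_univ S)
      (by rw [hn, Set.ncard_univ, Nat.card_fin]) (Set.toFinite _)).ge

theorem coset_map (g k : Cfsg.Spor.ON) : π g i₀ = π k i₀ ↔ k⁻¹ * g ∈ H6 := by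
  obtain ⟨φ, hφ⟩ := CfsgLib.PresCert.coset_bijection π H6 i₀ H_fix index_H transitive
  rw [← hφ, ← hφ, φ.injective.eq_iff, eq_comm, QuotientGroup.eq]

theorem finite : Finite Cfsg.Spor.ON := by
  refine Nat.finite_of_card_ne_zero ?_
  rw [← H6.card_mul_index, index_H, card_H]
  omega

/-- The presented O'Nan group has order 460815505920. -/
theorem natCard : Nat.card Cfsg.Spor.ON = 460815505920 := by
  rw [← H6.card_mul_index, index_H, card_H]

/-- a subgroup over the six involutions is that subgroup or everything -/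
theorem maximal (K : Subgroup Cfsg.Spor.ON) (hK : H6 ≤ K) : K = H6 ∨ K = ⊤ := by
  have := finite
  let f : K ⧸ H6.subgroupOf K → Fin 122760 := Quotient.lift (fun k : K => π k i₀) (by
    intro a b hab
    have hab' : (QuotientGroup.leftRel (H6.subgroupOf K)) a b := hab
    rw [QuotientGroup.leftRel_apply, Subgroup.mem_subgroupOf] at hab'
    exact ((coset_map b a).2 hab').symm)
  have hf : Function.Injective f := by
    intro q r h
    induction q using QuotientGroup.induction_on with
    | H a => ?_
    induction r using QuotientGroup.induction_on with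
    | H b => ?_
    exact QuotientGroup.eq.2 (Subgroup.mem_subgroupOf.2 ((coset_map b a).1 h.symm))
  have hS1 : i₀ ∈ Set.range f := ⟨((1 : K) : K ⧸ H6.subgroupOf K), by simp [f]⟩
  have hS2 : ∀ h ∈ H6, ∀ i ∈ Set.range f, π h i ∈ Set.range f := by
    rintro h hh _ ⟨q, rfl⟩
    induction q using QuotientGroup.induction_on with
    | H a => ?_
    exact ⟨((⟨h, hK hh⟩ * a : K) : K ⧸ H6.subgroupOf K), by simp [f, Perm.mul_apply]⟩
  have hd : (Set.range f).ncard ∣ 122760 := by
    rw [Set.ncard_range_of_injective hf, ← Subgroup.index_eq_card, ← index_H]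
    exact Subgroup.relIndex_dvd_index_of_le hK
  rcases invariant_sets _ hS1 hS2 hd with h | h
  · left
    refine le_antisymm (fun k hk => ?_) hK
    have : f ((⟨k, hk⟩ : K) : K ⧸ H6.subgroupOf K) = i₀ := by
      have hm : f ((⟨k, hk⟩ : K) : K ⧸ H6.subgroupOf K) ∈ Set.range f := ⟨_, rfl⟩
      rwa [h] at hm
    simpa using (coset_map k 1).1 (by rw [map_one]; exact this)
  · right
    rw [eq_top_iff]
    intro g _
    obtain ⟨q, hq⟩ : π g i₀ ∈ Set.range f := h ▸ Set.mem_univ _
    induction q using QuotientGroup.induction_on with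
    | H a => ?_
    have hm := hK ((coset_map g a).1 hq.symm)
    simpa using K.mul_mem a.2 hm

end CfsgLib.Spor.ON
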