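import Cfsg.Agent.Lib.Spor.ON.Orb0

/-!
Generated certificate data for the presented O'Nan group.
-/

set_option linter.all false

namespace CfsgLib.Spor.ON

open CfsgLib.PresCert

noncomputable def OrbSel_7 (i : Nat) : Nat :=
  (Bool.rec (motive := fun _ => Nat)
  (Bool.rec (motive := fun _ => Nat)
  (Bool.rec (motive := fun _ => Nat)
  (nat_lit 0)
  OrbBlk31
  (Nat.beq (Nat.land i (nat_lit 32)) (nat_lit 0)))
  (Bool.rec (motive := fun _ => Nat)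
  OrbBlk47
  OrbBlk15
  (Nat.beq (Nat.land i (nat_lit 32)) (nat_lit 0)))
  (Nat.beq (Nat.land i (nat_lit 16)) (nat_lit 0)))
  (Bool.rec (motive := fun _ => Nat)
  (Bool.rec (motive := fun _ => Nat)
  OrbBlk55
  OrbBlk23
  (Nat.beq (Nat.land i (nat_lit 32)) (nat_lit 0)))
  (Bool.rec (motive := fun _ => Nat)
  OrbBlk39
  OrbBlk7
  (Nat.beq (Nat.land i (nat_lit 32)) (nat_lit 0)))
  (Nat.beq (Nat.land i (nat_lit 16)) (nat_lit 0)))
  (Nat.beq (Nat.land i (nat_lit 8)) (nat_lit 0)))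

noncomputable def OrbSel_3 (i : Nat) : Nat :=
  (Bool.rec (motive := fun _ => Nat)
  (Bool.rec (motive := fun _ => Nat)
  (Bool.rec (motive := fun _ => Nat)
  OrbBlk59
  OrbBlk27
  (Nat.beq (Nat.land i (nat_lit 32)) (nat_lit 0)))
  (Bool.rec (motive := fun _ => Nat)
  OrbBlk43
  OrbBlk11
  (Nat.beq (Nat.land i (nat_lit 32)) (nat_lit 0)))
  (Nat.beq (Nat.land i (nat_lit 16)) (nat_lit 0)))
  (Bool.rec (motive := fun _ => Nat)
  (Bool.rec (motive := fun _ => Nat)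
  OrbBlk51
  OrbBlk19
  (Nat.beq (Nat.land i (nat_lit 32)) (nat_lit 0)))
  (Bool.rec (motive := fun _ => Nat)
  OrbBlk35
  OrbBlk3
  (Nat.beq (Nat.land i (nat_lit 32)) (nat_lit 0)))
  (Nat.beq (Nat.land i (nat_lit 16)) (nat_lit 0)))
  (Nat.beq (Nat.land i (nat_lit 8)) (nat_lit 0)))

noncomputable def OrbSel_5 (i : Nat) : Nat :=
  (Bool.rec (motive := fun _ => Nat)
  (Bool.rec (motive := fun _ => Nat)
  (Bool.rec (motive := fun _ => Nat)
  (nat_lit 0)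
  OrbBlk29
  (Nat.beq (Nat.land i (nat_lit 32)) (nat_lit 0)))
  (Bool.rec (motive := fun _ => Nat)
  OrbBlk45
  OrbBlk13
  (Nat.beq (Nat.land i (nat_lit 32)) (nat_lit 0)))
  (Nat.beq (Nat.land i (nat_lit 16)) (nat_lit 0)))
  (Bool.rec (motive := fun _ => Nat)
  (Bool.rec (motive := fun _ => Nat)
  OrbBlk53
  OrbBlk21
  (Nat.beq (Nat.land i (nat_lit 32)) (nat_lit 0)))
  (Bool.rec (motive := fun _ => Nat)
  OrbBlk37
  OrbBlk5
  (Nat.beq (Nat.land i (nat_lit 32)) (nat_lit 0)))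
  (Nat.beq (Nat.land i (nat_lit 16)) (nat_lit 0)))
  (Nat.beq (Nat.land i (nat_lit 8)) (nat_lit 0)))

noncomputable def OrbSel_1 (i : Nat) : Nat :=
  (Bool.rec (motive := fun _ => Nat)
  (Bool.rec (motive := fun _ => Nat)
  (Bool.rec (motive := fun _ => Nat)
  OrbBlk57
  OrbBlk25
  (Nat.beq (Nat.land i (nat_lit 32)) (nat_lit 0)))
  (Bool.rec (motive := fun _ => Nat)
  OrbBlk41
  OrbBlk9
  (Nat.beq (Nat.land i (nat_lit 32)) (nat_lit 0)))
  (Nat.beq (Nat.land i (nat_lit 16)) (nat_lit 0)))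
  (Bool.rec (motive := fun _ => Nat)
  (Bool.rec (motive := fun _ => Nat)
  OrbBlk49
  OrbBlk17
  (Nat.beq (Nat.land i (nat_lit 32)) (nat_lit 0)))
  (Bool.rec (motive := fun _ => Nat)
  OrbBlk33
  OrbBlk1
  (Nat.beq (Nat.land i (nat_lit 32)) (nat_lit 0)))
  (Nat.beq (Nat.land i (nat_lit 16)) (nat_lit 0)))
  (Nat.beq (Nat.land i (nat_lit 8)) (nat_lit 0)))

noncomputable def OrbSel_6 (i : Nat) : Nat :=
  (Bool.rec (motive := fun _ => Nat)
  (Bool.rec (motive := fun _ => Nat)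
  (Bool.rec (motive := fun _ => Nat)
  (nat_lit 0)
  OrbBlk30
  (Nat.beq (Nat.land i (nat_lit 32)) (nat_lit 0)))
  (Bool.rec (motive := fun _ => Nat)
  OrbBlk46
  OrbBlk14
  (Nat.beq (Nat.land i (nat_lit 32)) (nat_lit 0)))
  (Nat.beq (Nat.land i (nat_lit 16)) (nat_lit 0)))
  (Bool.rec (motive := fun _ => Nat)
  (Bool.rec (motive := fun _ => Nat)
  OrbBlk54
  OrbBlk22
  (Nat.beq (Nat.land i (nat_lit 32)) (nat_lit 0)))
  (Bool.rec (motive := fun _ => Nat)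
  OrbBlk38
  OrbBlk6
  (Nat.beq (Nat.land i (nat_lit 32)) (nat_lit 0)))
  (Nat.beq (Nat.land i (nat_lit 16)) (nat_lit 0)))
  (Nat.beq (Nat.land i (nat_lit 8)) (nat_lit 0)))

noncomputable def OrbSel_2 (i : Nat) : Nat :=
  (Bool.rec (motive := fun _ => Nat)
  (Bool.rec (motive := fun _ => Nat)
  (Bool.rec (motive := fun _ => Nat)
  OrbBlk58
  OrbBlk26
  (Nat.beq (Nat.land i (nat_lit 32)) (nat_lit 0)))
  (Bool.rec (motive := fun _ => Nat)
  OrbBlk42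
  OrbBlk10
  (Nat.beq (Nat.land i (nat_lit 32)) (nat_lit 0)))
  (Nat.beq (Nat.land i (nat_lit 16)) (nat_lit 0)))
  (Bool.rec (motive := fun _ => Nat)
  (Bool.rec (motive := fun _ => Nat)
  OrbBlk50
  OrbBlk18
  (Nat.beq (Nat.land i (nat_lit 32)) (nat_lit 0)))
  (Bool.rec (motive := fun _ => Nat)
  OrbBlk34
  OrbBlk2
  (Nat.beq (Nat.land i (nat_lit 32)) (nat_lit 0)))
  (Nat.beq (Nat.land i (nat_lit 16)) (nat_lit 0)))
  (Nat.beq (Nat.land i (nat_lit 8)) (nat_lit 0)))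

noncomputable def OrbSel_4 (i : Nat) : Nat :=
  (Bool.rec (motive := fun _ => Nat)
  (Bool.rec (motive := fun _ => Nat)
  (Bool.rec (motive := fun _ => Nat)
  (nat_lit 0)
  OrbBlk28
  (Nat.beq (Nat.land i (nat_lit 32)) (nat_lit 0)))
  (Bool.rec (motive := fun _ => Nat)
  OrbBlk44
  OrbBlk12
  (Nat.beq (Nat.land i (nat_lit 32)) (nat_lit 0)))
  (Nat.beq (Nat.land i (nat_lit 16)) (nat_lit 0)))
  (Bool.rec (motive := fun _ => Nat)
  (Bool.rec (motive := fun _ => Nat)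
  OrbBlk52
  OrbBlk20
  (Nat.beq (Nat.land i (nat_lit 32)) (nat_lit 0)))
  (Bool.rec (motive := fun _ => Nat)
  OrbBlk36
  OrbBlk4
  (Nat.beq (Nat.land i (nat_lit 32)) (nat_lit 0)))
  (Nat.beq (Nat.land i (nat_lit 16)) (nat_lit 0)))
  (Nat.beq (Nat.land i (nat_lit 8)) (nat_lit 0)))

noncomputable def OrbSel_0 (i : Nat) : Nat :=
  (Bool.rec (motive := fun _ => Nat)
  (Bool.rec (motive := fun _ => Nat)
  (Bool.rec (motive := fun _ => Nat)
  OrbBlk56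
  OrbBlk24
  (Nat.beq (Nat.land i (nat_lit 32)) (nat_lit 0)))
  (Bool.rec (motive := fun _ => Nat)
  OrbBlk40
  OrbBlk8
  (Nat.beq (Nat.land i (nat_lit 32)) (nat_lit 0)))
  (Nat.beq (Nat.land i (nat_lit 16)) (nat_lit 0)))
  (Bool.rec (motive := fun _ => Nat)
  (Bool.rec (motive := fun _ => Nat)
  OrbBlk48
  OrbBlk16
  (Nat.beq (Nat.land i (nat_lit 32)) (nat_lit 0)))
  (Bool.rec (motive := fun _ => Nat)
  OrbBlk32
  OrbBlk0
  (Nat.beq (Nat.land i (nat_lit 32)) (nat_lit 0)))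
  (Nat.beq (Nat.land i (nat_lit 16)) (nat_lit 0)))
  (Nat.beq (Nat.land i (nat_lit 8)) (nat_lit 0)))

noncomputable def OrbSel (i : Nat) : Nat :=
  (Bool.rec (motive := fun _ => Nat)
  (Bool.rec (motive := fun _ => Nat)
  (Bool.rec (motive := fun _ => Nat)
  (OrbSel_7 i)
  (OrbSel_3 i)
  (Nat.beq (Nat.land i (nat_lit 4)) (nat_lit 0)))
  (Bool.rec (motive := fun _ => Nat)
  (OrbSel_5 i)
  (OrbSel_1 i)
  (Nat.beq (Nat.land i (nat_lit 4)) (nat_lit 0)))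
  (Nat.beq (Nat.land i (nat_lit 2)) (nat_lit 0)))
  (Bool.rec (motive := fun _ => Nat)
  (Bool.rec (motive := fun _ => Nat)
  (OrbSel_6 i)
  (OrbSel_2 i)
  (Nat.beq (Nat.land i (nat_lit 4)) (nat_lit 0)))
  (Bool.rec (motive := fun _ => Nat)
  (OrbSel_4 i)
  (OrbSel_0 i)
  (Nat.beq (Nat.land i (nat_lit 4)) (nat_lit 0)))
  (Nat.beq (Nat.land i (nat_lit 2)) (nat_lit 0)))
  (Nat.beq (Nat.land i (nat_lit 1)) (nat_lit 0)))


end CfsgLib.Spor.ON
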