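import Cfsg.Agent.Lib.Spor.ON.TabData
import Cfsg.Agent.Lib.Spor.ON.OrbSel

/-!
The five orbits of the six involutions on the points: an enumeration with parents.
-/

set_option linter.all false

namespace CfsgLib.Spor.ON

open CfsgLib.PresCert

/-- point number `k` of the enumeration -/
noncomputable def ordC (k : Nat) : Nat := Nat.land (wordOf OrbSel k) (nat_lit 1048575)

/-- parent position -/
noncomputable def parK (k : Nat) : Nat :=
  Nat.land (Nat.shiftRight (wordOf OrbSel k) (nat_lit 20)) (nat_lit 1048575)

/-- letter from the parent -/
noncomputable def letK (k : Nat) : Nat := Nat.shiftRight (wordOf OrbSel k) (nat_lit 60)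

/-- position of a point -/
noncomputable def posC (c : Nat) : Nat :=
  Nat.land (Nat.shiftRight (wordOf OrbSel c) (nat_lit 40)) (nat_lit 1048575)

/-- a piece of one orbit -/
noncomputable def okOrb (lo off len : Nat) : Bool :=
  allBelow len fun j =>
    let k := Nat.add lo (Nat.add off j)
    let c := ordC k
    let p := parK k
    let x := letK k
    Nat.blt c (nat_lit 122760) && Nat.beq (posC c) k &&
      (Nat.beq k lo || (Nat.ble lo p && Nat.blt p k && Nat.blt x (nat_lit 6) &&
        Nat.beq (main.dest (Table.slot (ordC p) x)) c))

end CfsgLib.Spor.ON
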