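import Cfsg.Agent.Lib.Spor.ON.PresMData
import Cfsg.Agent.Lib.Spor.ON.Chunk

/-!
Generated certificate data for the presented O'Nan group, checked piece by piece.
-/

set_option linter.all false

namespace CfsgLib.Spor.ON

set_option Elab.async false

open CfsgLib.PresCert

theorem PresMFact_piece_0 : PresMDeriv.okPiece PresMAlph (0 * 2800) 2800 = true := by decide +kernel

theorem PresMFact_piece_1 : PresMDeriv.okPiece PresMAlph (1 * 2800) 2800 = true := by decide +kernel

theorem PresMFact_piece_2 : PresMDeriv.okPiece PresMAlph (2 * 2800) 2800 = true := by decide +kernel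

theorem PresMFact_piece_3 : PresMDeriv.okPiece PresMAlph (3 * 2800) 2800 = true := by decide +kernel

theorem PresMFact_piece_4 : PresMDeriv.okPiece PresMAlph (4 * 2800) 2800 = true := by decide +kernel

theorem PresMFact_piece_5 : PresMDeriv.okPiece PresMAlph (5 * 2800) 2800 = true := by decide +kernel

theorem PresMFact_piece_6 : PresMDeriv.okPiece PresMAlph (6 * 2800) 2800 = true := by decide +kernel

theorem PresMFact_piece_7 : PresMDeriv.okPiece PresMAlph (7 * 2800) 2800 = true := by decide +kernel

theorem PresMDeriv_ok : PresMDeriv.ok PresMAlph = true := by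
  refine Deriv.ok_of_pieces _ _ 2800 8 (by decide +kernel) (by decide +kernel) fun j hj => ?_
  interval_cases j
  · exact PresMFact_piece_0
  · exact PresMFact_piece_1
  · exact PresMFact_piece_2
  · exact PresMFact_piece_3
  · exact PresMFact_piece_4
  · exact PresMFact_piece_5
  · exact PresMFact_piece_6
  · exact PresMFact_piece_7

theorem PresMEdge_piece_0 : PresMCover.okPiece PresMAlph PresMDeriv (0 * 720) 720 = true := by decide +kernel

theorem PresMCover_ok : PresMCover.ok PresMAlph PresMDeriv = true := by
  refine Cover.ok_of_pieces _ _ _ 720 1 PresMDeriv_ok (by decide +kernel) (by decide +kernel)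
    (by decide +kernel) (by decide +kernel) fun j hj => ?_
  interval_cases j
  · exact PresMEdge_piece_0

end CfsgLib.Spor.ON
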