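import Cfsg.Agent.Lib.Spor.ON.Base
import Cfsg.Agent.Lib.Spor.ON.PresM
import Cfsg.Agent.Lib.Spor.Sharp
import Cfsg.Prelude.Def_Sporadic

/-!
The presented O'Nan group has a subgroup of Mathieu type `M₁₁`.
-/

set_option autoImplicit false

namespace CfsgLib.Spor.ON

open Cfsg.Spor Equiv

/-- the images of the three letters on eleven points -/
def elevenImg : List (List (Fin 11)) := [[0, 9, 2, 10, 6, 5, 4, 8, 7, 1, 3], [8, 7, 10, 0, 9, 6, 4, 2, 5, 1, 3], [3, 9, 7, 10, 6, 8, 5, 1, 0, 4, 2]]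

theorem elevenImg_inv : ∀ (x : Fin 3) (i : Fin 11),
    (elevenImg.getD x []).getD ((elevenImg.getD (PresMAlph.inv.getD x 0) []).getD i 0) 0 = i := by
  decide +kernel

/-- the letters on eleven points -/
def elevenPerm (x : Fin 3) : Perm (Fin 11) where
  toFun i := (elevenImg.getD x []).getD i 0
  invFun i := (elevenImg.getD (PresMAlph.inv.getD x 0) []).getD i 0
  left_inv := by revert x; decide +kernel
  right_inv := elevenImg_inv x

/-- letters as natural numbers -/
def letFin (x : Nat) : Fin 3 := ⟨x % 3, Nat.mod_lt _ (by omega)⟩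

/-- words leading each point down to the first free one -/
def elevenWords : List (Nat × Nat × List Nat) :=
  [(0, 0, []),
   (0, 1, [2, 0, 1]),
   (0, 2, [1, 0, 1]),
   (0, 3, [2]),
   (0, 4, [0, 1, 1, 1]),
   (0, 5, [1, 1]),
   (0, 6, [1, 1, 1]),
   (0, 7, [0, 1]),
   (0, 8, [1]),
   (0, 9, [0, 2, 0, 1]),
   (0, 10, [0, 2]),
   (1, 1, []),
   (1, 2, [1, 1, 0, 2]),
   (1, 3, [2, 2, 0, 1, 1, 0]),
   (1, 4, [1, 0, 2, 2]),
   (1, 5, [2, 0, 2, 2, 0, 2]),
   (1, 6, [0, 1, 0, 2, 2]),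
   (1, 7, [0, 2, 0, 2, 2, 2, 2]),
   (1, 8, [2, 0, 2, 2, 2, 2]),
   (1, 9, [0]),
   (1, 10, [0, 2, 2, 0, 1, 1, 0]),
   (2, 2, []),
   (2, 3, [0, 1, 1, 1, 0, 2, 2, 2, 0]),
   (2, 4, [0, 1, 1, 0, 2, 0]),
   (2, 5, [2, 0, 2, 2, 2, 2, 0]),
   (2, 6, [0, 1, 0, 2, 0, 2, 2, 0]),
   (2, 7, [2, 2, 0, 1, 1]),
   (2, 8, [2, 0, 2, 2, 2, 0, 2, 2, 0]),
   (2, 9, [0, 1, 0, 2, 2, 0]),
   (2, 10, [0, 1, 0, 1, 1, 0, 2, 0, 1, 1]),
   (3, 3, []),
   (3, 4, [0, 1, 0, 1, 1, 0, 1]),
   (3, 5, [0, 2, 2, 2, 2, 0, 1, 0, 1, 1, 1, 1, 0, 2]),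
   (3, 6, [2, 2, 2, 2, 0, 1, 1, 1, 0, 1, 1, 0, 2, 0]),
   (3, 7, [2, 2, 2, 0, 1, 1, 0, 1, 1]),
   (3, 8, [0, 1, 0, 2, 2, 0, 2, 2, 2, 0, 1, 1, 1, 1]),
   (3, 9, [1, 0, 2, 2, 2, 0, 1, 0, 1, 1, 1, 1, 1, 0]),
   (3, 10, [2, 2, 0, 2, 2, 0, 1, 1, 1])]

theorem elevenWords_ok : ∀ k : Fin 4, ∀ t : Fin 11, k.1 ≤ t.1 → ∃ p ∈ elevenWords,
    p.1 = k.1 ∧ p.2.1 = t.1 ∧
      (∀ i : Fin 11, i.1 < k.1 → ((p.2.2.map fun x => elevenPerm (letFin x)).prod) i = i) ∧
      ((p.2.2.map fun x => elevenPerm (letFin x)).prod) ⟨k.1, by omega⟩ = t := by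
  decide +kernel

/-- relators of the abstract group -/
def mRels : Set (FreeGroup (Fin 3)) :=
  {r | ∃ w ∈ PresMAlph.rels, (w.map fun x => FreeGroup.of (letFin x)).prod = r}

/-- the abstract group -/
abbrev MGroup : Type := PresentedGroup mRels

/-- a hom from a model of the relations -/
noncomputable def mHom {Q : Type} [Group Q] (v : Nat → Q)
    (h : ∀ w ∈ PresMAlph.rels, (w.map v).prod = 1) : MGroup →* Q :=
  PresentedGroup.toGroup (f := fun x : Fin 3 => v x) (by
    rintro r ⟨w, hw, rfl⟩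
    have hlt := (show ∀ w ∈ PresMAlph.rels, ∀ x ∈ w, x < 3 by decide +kernel) w hw
    rw [← h w hw, map_list_prod, List.map_map]
    exact congrArg List.prod (List.map_congr_left fun x hx => by
      simp [letFin, Nat.mod_eq_of_lt (hlt x hx)]))

/-- the letters of the abstract group -/
noncomputable def mLet (x : Nat) : MGroup := PresentedGroup.of (letFin x)

theorem mLet_one : ∀ w ∈ PresMAlph.rels, (w.map mLet).prod = 1 := by
  intro w hw
  have : PresentedGroup.mk mRels (w.map fun x => FreeGroup.of (letFin x)).prod = 1 :=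
    PresentedGroup.one_of_mem ⟨w, hw, rfl⟩
  rw [map_list_prod, List.map_map] at this
  exact this

theorem mGroup_card : Nat.card MGroup ≤ 7920 ∧ Nat.card MGroup ≠ 0 := by
  have hinv : ∀ x < 3, PresMAlph.iv x < 3 ∧ mLet (PresMAlph.iv x) = (mLet x)⁻¹ := by
    intro x hx
    interval_cases x
    · refine ⟨by decide, eq_inv_of_mul_eq_one_left ?_⟩
      show mLet 0 * mLet 0 = 1
      simpa using mLet_one [0, 0] (by decide)
    · refine ⟨by decide, eq_inv_of_mul_eq_one_left ?_⟩
      show mLet 2 * mLet 1 = 1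
      simpa using mLet_one [2, 1] (by decide)
    · refine ⟨by decide, eq_inv_of_mul_eq_one_left ?_⟩
      show mLet 1 * mLet 2 = 1
      simpa using mLet_one [1, 2] (by decide)
  let M : Interp PresMAlph MGroup :=
    { gen := mLet
      gen_inv := hinv
      rels_eq := fun r hr =>
        ⟨(show ∀ r ∈ PresMAlph.rels, ∀ x ∈ r, x < PresMAlph.g by decide +kernel) r hr, mLet_one r hr⟩
      sub := Subgroup.zpowers (mLet 1)
      subs_mem := fun r hr => by
        have : r = [1] := by simpa [PresMAlph] using hr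
        subst this
        exact ⟨by decide, by simp⟩ }
  have htop : Subgroup.closure {q | ∃ x < PresMAlph.g, M.gen x = q} = ⊤ := by
    rw [eq_top_iff, ← PresentedGroup.closure_range_of, Subgroup.closure_le]
    rintro _ ⟨x, rfl⟩
    exact Subgroup.subset_closure ⟨x.1, x.2,
      congrArg PresentedGroup.of (Fin.ext (Nat.mod_eq_of_lt x.2) : letFin x.1 = x)⟩
  obtain ⟨h1, h2⟩ := M.index_le PresMDeriv PresMCover PresMCover_ok htop
  have hc : orderOf (mLet 1) ∣ 11 := orderOf_dvd_of_pow_eq_one (by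
    have := mLet_one (List.replicate 11 1) (by decide)
    rwa [List.map_replicate, List.prod_replicate] at this)
  have hle : Nat.card M.sub ≤ 11 ∧ Nat.card M.sub ≠ 0 := by
    show Nat.card (Subgroup.zpowers (mLet 1)) ≤ 11 ∧ _
    rw [Nat.card_zpowers]
    exact ⟨Nat.le_of_dvd (by omega) hc, fun h => by simp [h] at hc⟩
  rw [← M.sub.card_mul_index]
  exact ⟨(Nat.mul_le_mul hle.1 h1).trans (le_of_eq rfl), Nat.mul_ne_zero hle.2 h2.index_ne_zero⟩

theorem eleven_rels : ∀ w ∈ PresMAlph.rels,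
    (w.map fun x => elevenPerm (letFin x)).prod = 1 := by
  decide +kernel

/-- onto the group on eleven points -/
noncomputable def mEleven : MGroup →* Perm (Fin 11) :=
  mHom (fun x => elevenPerm (letFin x)) eleven_rels

theorem mEleven_trans : MulAction.IsMultiplyPretransitive mEleven.range (Fin 11) 4 := by
  have step : ∀ (k : Fin 4) (t : Fin 11), k.1 ≤ t.1 → ∃ g ∈ mEleven.range,
      (∀ i : Fin 11, i.1 < k.1 → g i = i) ∧ g ⟨k.1, by omega⟩ = t := by
    intro k t ht
    obtain ⟨p, hp, -, -, h3, h4⟩ := elevenWords_ok k t ht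
    refine ⟨_, list_prod_mem fun q hq => ?_, h3, h4⟩
    obtain ⟨x, hx, rfl⟩ := List.mem_map.1 hq
    exact ⟨mLet x, by simp [mEleven, mHom, mLet, letFin, Nat.mod_mod]⟩
  have norm : ∀ x : Fin 4 ↪ Fin 11, ∀ k, k ≤ 4 → ∃ g ∈ mEleven.range,
      ∀ i : Fin 4, i.1 < k → g (x i) = ⟨i.1, by omega⟩ := by
    intro x k
    induction k with
    | zero => exact fun _ => ⟨1, one_mem _, fun i hi => absurd hi (Nat.not_lt_zero _)⟩
    | succ k ih =>
      intro hk
      obtain ⟨g, hg, hgx⟩ := ih (by omega)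
      have ht : k ≤ (g (x ⟨k, by omega⟩)).1 := by
        by_contra hlt
        have := hgx ⟨(g (x ⟨k, by omega⟩)).1, by omega⟩ (by simp only; omega)
        have e := x.injective (g.injective this)
        exact absurd (congrArg Fin.val e) (by simp only; omega)
      obtain ⟨h, hh, hfix, hmove⟩ := step ⟨k, by omega⟩ _ ht
      refine ⟨h⁻¹ * g, mul_mem (inv_mem hh) hg, fun i hi => ?_⟩
      rw [Perm.mul_apply, Perm.inv_eq_iff_eq]
      rcases Nat.lt_succ_iff_lt_or_eq.1 hi with hi | hi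
      · rw [hgx i hi]
        exact (hfix _ hi).symm
      · subst hi
        exact hmove.symm
  rw [MulAction.isMultiplyPretransitive_iff]
  intro x y
  obtain ⟨g, hg, hgx⟩ := norm x 4 le_rfl
  obtain ⟨h, hh, hhy⟩ := norm y 4 le_rfl
  refine ⟨⟨h⁻¹ * g, mul_mem (inv_mem hh) hg⟩, ?_⟩
  ext i
  show ((h⁻¹ * g) (x i)).1 = (y i).1
  rw [Perm.mul_apply, hgx i i.2, ← hhy i i.2]
  simp

theorem isM11_MGroup : Cfsg.IsM11 MGroup := by
  haveI : Finite MGroup := Nat.finite_of_card_ne_zero mGroup_card.2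
  haveI := mEleven_trans
  set G := mEleven.range
  have hcard : Nat.card G = 7920 ∧ ∀ x : Fin 4 ↪ Fin 11, MulAction.stabilizer G x = ⊥ := by
    haveI htr : MulAction.IsPretransitive G (Fin 4 ↪ Fin 11) :=
      mEleven_trans
    have hle : Nat.card G ≤ 7920 :=
      (Nat.card_le_card_of_surjective _ mEleven.rangeRestrict_surjective).trans mGroup_card.1
    have hidx : ∀ x : Fin 4 ↪ Fin 11,
        (MulAction.stabilizer G x).index = Nat.card (Fin 4 ↪ Fin 11) := by
      intro x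
      rw [MulAction.index_stabilizer, ← Set.ncard_univ]
      refine congrArg Set.ncard (Set.eq_univ_of_forall fun y => ?_)
      obtain ⟨g, hg⟩ := htr.exists_smul_eq x y
      exact ⟨g, hg⟩
    have hall : ∀ x : Fin 4 ↪ Fin 11, Nat.card G = 7920 * Nat.card (MulAction.stabilizer G x) := by
      intro x
      rw [← (MulAction.stabilizer G x).card_mul_index,
        hidx x, Nat.card_eq_fintype_card (α := Fin 4 ↪ Fin 11),
        Fintype.card_embedding_eq, Fintype.card_fin, Fintype.card_fin, mul_comm]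
      rfl
    have one : ∀ x : Fin 4 ↪ Fin 11, Nat.card (MulAction.stabilizer G x) = 1 := by
      intro x
      have := hall x
      have hpos : 0 < Nat.card (MulAction.stabilizer G x) := Nat.card_pos
      nlinarith
    refine ⟨?_, fun x => Subgroup.eq_bot_of_card_eq _ (one x)⟩
    have x0 : Fin 4 ↪ Fin 11 := Fin.castLEEmb (by omega)
    rw [hall x0, one x0]
  obtain ⟨hc, hsharp⟩ := hcard
  have hG : IsSimpleGroup G :=
    CfsgLib.Spor.Sharp.isSimpleGroup_eleven (CfsgLib.Spor.Sharp.isSharp_of_stabilizer G hsharp)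
      (Fintype.card_fin 11)
  have hM : Nat.card MGroup = 7920 :=
    le_antisymm mGroup_card.1
      (hc ▸ Nat.card_le_card_of_surjective _ mEleven.rangeRestrict_surjective)
  have hb : Function.Bijective mEleven.rangeRestrict :=
    (Nat.bijective_iff_surjective_and_card _).2
      ⟨mEleven.rangeRestrict_surjective, hM.trans hc.symm⟩
  exact ⟨(MulEquiv.ofBijective _ hb).isSimpleGroup, hM⟩

/-- the involution -/
def mA : List Nat := [1, 3, 6, 3, 4, 3, 2, 1, 0, 3, 2, 4, 3, 1, 2, 3, 4, 3, 7, 3, 1]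

/-- the element of order eleven -/
def mC : List Nat := [1, 3, 6, 3, 4, 3, 2, 1, 0, 3, 2, 4, 3, 1, 2, 3, 4, 3, 7, 3, 1, 3, 2, 3, 2]

/-- images of the three letters in the presented O'Nan group -/
def mWord : Nat → List Nat
  | 0 => mA
  | 1 => mC
  | _ => mC.reverse.map fun x => [0, 1, 2, 3, 4, 5, 7, 6].getD x 0

theorem mWord_rels : ∀ w ∈ PresMAlph.rels,
    ((w.flatMap mWord).all (fun x => decide (x < 8)) &&
      Nat.beq (main.app (w.flatMap mWord) 0) 0 && Nat.beq (main.app (w.flatMap mWord) 15) 15 &&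
      Nat.beq (main.app (w.flatMap mWord) 71333) 71333) = true := by
  decide +kernel

theorem evalW_flatMap {Q : Type} [Group Q] (f : ON.Gen → Q) (m : Nat → List Nat) (w : List Nat) :
    evalW f (w.flatMap m) = (w.map fun x => evalW f (m x)).prod := by
  induction w with
  | nil => simp [evalW]
  | cons x w ih => rw [List.flatMap_cons, evalW_append, ih, List.map_cons, List.prod_cons]

/-- the embedding into the presented O'Nan group -/
noncomputable def mEmb : MGroup →* Cfsg.Spor.ON :=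
  mHom (fun x => evalW gen (mWord x)) fun w hw =>
    (evalW_flatMap gen mWord w).symm.trans (word_eq_one (mWord_rels w hw))

theorem mA_moves : ((mA.all fun x => decide (x < 8)) &&
    !(Nat.beq (main.app mA 0) 0 && Nat.beq (main.app mA 15) 15 &&
      Nat.beq (main.app mA 71333) 71333)) = true := by
  decide +kernel

theorem mEmb_injective : Function.Injective mEmb := by
  haveI := isM11_MGroup.1
  rw [← MonoidHom.ker_eq_bot_iff]
  rcases (MonoidHom.normal_ker mEmb).eq_bot_or_eq_top with h | h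
  · exact h
  exfalso
  have h1 : mEmb (mLet 0) = 1 := MonoidHom.mem_ker.1 (h ▸ Subgroup.mem_top _)
  have e : mEmb (mLet 0) = evalW gen mA := by simp [mEmb, mHom, mLet, letFin, mWord]
  have hm := mA_moves
  simp only [Bool.and_eq_true, List.all_eq_true, decide_eq_true_eq, Bool.not_eq_true'] at hm
  obtain ⟨h8, hne⟩ := hm
  have hfix : ∀ c : Fin 122760, main.app mA c = c.1 := by
    intro c
    rw [← π_word mA h8 c, ← e, h1, map_one, inv_one, Perm.one_apply]
  have f0 := hfix ⟨0, by omega⟩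
  have f1 := hfix ⟨15, by omega⟩
  have f2 := hfix ⟨71333, by omega⟩
  simp only at f0 f1 f2
  rw [f0, f1, f2] at hne
  simp at hne

theorem exists_M11 : ∃ K : Subgroup Cfsg.Spor.ON, Cfsg.IsM11 K := by
  haveI := isM11_MGroup.1
  let e := MonoidHom.ofInjective mEmb_injective
  exact ⟨mEmb.range, e.symm.isSimpleGroup, (Nat.card_congr e.toEquiv).symm.trans isM11_MGroup.2⟩

end CfsgLib.Spor.ON
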