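import Cfsg.Agent.Lib.Spor.ON.SubJ1
import Cfsg.Agent.Lib.Spor.ON.SubM11

/-!
The O'Nan group as a permutation group of degree 122760, with subgroups `J₁` and `M₁₁`.
-/

set_option autoImplicit false

namespace CfsgLib.Spor.ON

open Cfsg.Spor

theorem isSimple_card_map {G H : Type*} [Group G] [Group H] (e : G ≃* H) (K : Subgroup G)
    {n : ℕ} (h : IsSimpleGroup K ∧ Nat.card K = n) :
    IsSimpleGroup (K.map e.toMonoidHom) ∧ Nat.card (K.map e.toMonoidHom) = n := by
  haveI := h.1
  exact ⟨(e.subgroupMap K).symm.isSimpleGroup,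
    (Nat.card_congr (e.subgroupMap K).toEquiv).symm.trans h.2⟩

theorem realization : ∃ H : Subgroup (Equiv.Perm (Fin 122760)), Cfsg.IsON H ∧
    MulAction.IsPretransitive H (Fin 122760) ∧
      Nat.card (MulAction.stabilizer H (0 : Fin 122760)) = 3753792 ∧
        (∃ K : Subgroup H, Cfsg.IsJ1 K) ∧ (∃ K : Subgroup H, Cfsg.IsM11 K) := by
  haveI := finite
  let e : Cfsg.Spor.ON ≃* π.range := MonoidHom.ofInjective π_injective
  have hi : i₀ = (0 : Fin 122760) := Fin.ext rfl
  haveI := isON.1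
  refine ⟨π.range, ⟨e.symm.isSimpleGroup, ?_⟩, ?_, ?_, ?_, ?_⟩
  · rw [← Nat.card_congr e.toEquiv]
    exact natCard
  · refine ⟨fun i j => ?_⟩
    obtain ⟨g, hg⟩ := transitive i
    obtain ⟨g', hg'⟩ := transitive j
    refine ⟨e (g' * g⁻¹), ?_⟩
    show π (g' * g⁻¹) i = j
    rw [← hg, ← Equiv.Perm.mul_apply, ← map_mul, inv_mul_cancel_right, hg']
  · have hst : H6.map e.toMonoidHom = MulAction.stabilizer π.range (0 : Fin 122760) := by
      ext x
      constructor
      · rintro ⟨g, hg, rfl⟩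
        show π g (0 : Fin 122760) = 0
        rw [← hi]
        exact H_fix g hg
      · intro hx
        obtain ⟨g, rfl⟩ := e.surjective x
        refine ⟨g, mem_H_of_fix g ?_, rfl⟩
        have : π g (0 : Fin 122760) = 0 := hx
        rwa [← hi] at this
    rw [← hst]
    exact (Nat.card_congr (e.subgroupMap H6).toEquiv).symm.trans card_H
  · obtain ⟨K, hK⟩ := exists_J1
    exact ⟨K.map e.toMonoidHom, isSimple_card_map e K hK⟩
  · obtain ⟨K, hK⟩ := exists_M11
    exact ⟨K.map e.toMonoidHom, isSimple_card_map e K hK⟩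

end CfsgLib.Spor.ON
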