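import Cfsg.Agent.Lib.Spor.ON.SubJ1Defs

/-!
Checks of the words for the subgroup of type `J₁`.
-/

set_option linter.all false

namespace CfsgLib.Spor.ON

set_option Elab.async false

theorem cocycle_400 : okCocycle 400 50 = true := by decide +kernel

theorem cocycle_450 : okCocycle 450 50 = true := by decide +kernel

theorem cocycle_500 : okCocycle 500 50 = true := by decide +kernel

theorem cocycle_550 : okCocycle 550 50 = true := by decide +kernel

theorem cocycle_600 : okCocycle 600 50 = true := by decide +kernel

theorem cocycle_650 : okCocycle 650 50 = true := by decide +kernel

theorem cocycle_700 : okCocycle 700 50 = true := by decide +kernel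

theorem cocycle_750 : okCocycle 750 50 = true := by decide +kernel

end CfsgLib.Spor.ON
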