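import Cfsg.Agent.Lib.Spor.ON.SubJ1Defs

/-!
Checks of the words for the subgroup of type `J₁`.
-/

set_option linter.all false

namespace CfsgLib.Spor.ON

set_option Elab.async false

theorem cocycle_800 : okCocycle 800 50 = true := by decide +kernel

theorem cocycle_850 : okCocycle 850 50 = true := by decide +kernel

theorem cocycle_900 : okCocycle 900 50 = true := by decide +kernel

theorem cocycle_950 : okCocycle 950 50 = true := by decide +kernel

theorem cocycle_1000 : okCocycle 1000 50 = true := by decide +kernel

theorem cocycle_1050 : okCocycle 1050 50 = true := by decide +kernel

theorem cocycle_1100 : okCocycle 1100 50 = true := by decide +kernel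

theorem cocycle_1150 : okCocycle 1150 50 = true := by decide +kernel

end CfsgLib.Spor.ON
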