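import Cfsg.Agent.Lib.Spor.ON.SubJ1Defs

/-!
Checks of the words for the subgroup of type `J₁`.
-/

set_option linter.all false

namespace CfsgLib.Spor.ON

set_option Elab.async false

theorem cocycle_1200 : okCocycle 1200 50 = true := by decide +kernel

theorem cocycle_1250 : okCocycle 1250 50 = true := by decide +kernel

theorem cocycle_1300 : okCocycle 1300 50 = true := by decide +kernel

theorem cocycle_1350 : okCocycle 1350 50 = true := by decide +kernel

theorem cocycle_1400 : okCocycle 1400 50 = true := by decide +kernel

theorem cocycle_1450 : okCocycle 1450 50 = true := by decide +kernel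

theorem cocycle_1500 : okCocycle 1500 50 = true := by decide +kernel

theorem cocycle_1550 : okCocycle 1550 46 = true := by decide +kernel

end CfsgLib.Spor.ON
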