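import Cfsg.Agent.Lib.Spor.ON.SubJ1Checks0
import Cfsg.Agent.Lib.Spor.ON.SubJ1Checks1
import Cfsg.Agent.Lib.Spor.ON.SubJ1Checks2
import Cfsg.Agent.Lib.Spor.ON.SubJ1Checks3

/-!
The subgroup of type `J₁` of the presented O'Nan group.
-/

set_option autoImplicit false

namespace CfsgLib.Spor.ON

open Cfsg CfsgLib.J1Group

theorem cocycle : ∀ j < 1596,
    evalW gen (tW j) * evalW gen genXW = evalW gen (hW (get2 stepXData (0, 0) j).1) *
        evalW gen (tW (get2 stepXData (0, 0) j).2) ∧
      evalW gen (tW j) * evalW gen genYW = evalW gen (hW (get2 stepYData (0, 0) j).1) *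
        evalW gen (tW (get2 stepYData (0, 0) j).2) := by
  have key : ∀ lo len, okCocycle lo len = true → ∀ j, lo ≤ j → j < lo + len →
      evalW gen (tW j) * evalW gen genXW = evalW gen (hW (get2 stepXData (0, 0) j).1) *
          evalW gen (tW (get2 stepXData (0, 0) j).2) ∧
        evalW gen (tW j) * evalW gen genYW = evalW gen (hW (get2 stepYData (0, 0) j).1) *
          evalW gen (tW (get2 stepYData (0, 0) j).2) := by
    intro lo len h j h1 h2
    simp only [okCocycle, List.all_eq_true, List.mem_range, Bool.and_eq_true] at h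
    obtain ⟨a, b⟩ := h (j - lo) (by omega)
    rw [Nat.add_sub_cancel' h1] at a b
    exact ⟨by simpa [evalW_append] using sameEl_spec a,
      by simpa [evalW_append] using sameEl_spec b⟩
  intro j hj
  rcases lt_or_ge j 50 with h0 | h0
  · exact key _ _ cocycle_0 j (by omega) (by omega)
  rcases lt_or_ge j 100 with h50 | h50
  · exact key _ _ cocycle_50 j (by omega) (by omega)
  rcases lt_or_ge j 150 with h100 | h100
  · exact key _ _ cocycle_100 j (by omega) (by omega)
  rcases lt_or_ge j 200 with h150 | h150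
  · exact key _ _ cocycle_150 j (by omega) (by omega)
  rcases lt_or_ge j 250 with h200 | h200
  · exact key _ _ cocycle_200 j (by omega) (by omega)
  rcases lt_or_ge j 300 with h250 | h250
  · exact key _ _ cocycle_250 j (by omega) (by omega)
  rcases lt_or_ge j 350 with h300 | h300
  · exact key _ _ cocycle_300 j (by omega) (by omega)
  rcases lt_or_ge j 400 with h350 | h350
  · exact key _ _ cocycle_350 j (by omega) (by omega)
  rcases lt_or_ge j 450 with h400 | h400
  · exact key _ _ cocycle_400 j (by omega) (by omega)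
  rcases lt_or_ge j 500 with h450 | h450
  · exact key _ _ cocycle_450 j (by omega) (by omega)
  rcases lt_or_ge j 550 with h500 | h500
  · exact key _ _ cocycle_500 j (by omega) (by omega)
  rcases lt_or_ge j 600 with h550 | h550
  · exact key _ _ cocycle_550 j (by omega) (by omega)
  rcases lt_or_ge j 650 with h600 | h600
  · exact key _ _ cocycle_600 j (by omega) (by omega)
  rcases lt_or_ge j 700 with h650 | h650
  · exact key _ _ cocycle_650 j (by omega) (by omega)
  rcases lt_or_ge j 750 with h700 | h700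
  · exact key _ _ cocycle_700 j (by omega) (by omega)
  rcases lt_or_ge j 800 with h750 | h750
  · exact key _ _ cocycle_750 j (by omega) (by omega)
  rcases lt_or_ge j 850 with h800 | h800
  · exact key _ _ cocycle_800 j (by omega) (by omega)
  rcases lt_or_ge j 900 with h850 | h850
  · exact key _ _ cocycle_850 j (by omega) (by omega)
  rcases lt_or_ge j 950 with h900 | h900
  · exact key _ _ cocycle_900 j (by omega) (by omega)
  rcases lt_or_ge j 1000 with h950 | h950
  · exact key _ _ cocycle_950 j (by omega) (by omega)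
  rcases lt_or_ge j 1050 with h1000 | h1000
  · exact key _ _ cocycle_1000 j (by omega) (by omega)
  rcases lt_or_ge j 1100 with h1050 | h1050
  · exact key _ _ cocycle_1050 j (by omega) (by omega)
  rcases lt_or_ge j 1150 with h1100 | h1100
  · exact key _ _ cocycle_1100 j (by omega) (by omega)
  rcases lt_or_ge j 1200 with h1150 | h1150
  · exact key _ _ cocycle_1150 j (by omega) (by omega)
  rcases lt_or_ge j 1250 with h1200 | h1200
  · exact key _ _ cocycle_1200 j (by omega) (by omega)
  rcases lt_or_ge j 1300 with h1250 | h1250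
  · exact key _ _ cocycle_1250 j (by omega) (by omega)
  rcases lt_or_ge j 1350 with h1300 | h1300
  · exact key _ _ cocycle_1300 j (by omega) (by omega)
  rcases lt_or_ge j 1400 with h1350 | h1350
  · exact key _ _ cocycle_1350 j (by omega) (by omega)
  rcases lt_or_ge j 1450 with h1400 | h1400
  · exact key _ _ cocycle_1400 j (by omega) (by omega)
  rcases lt_or_ge j 1500 with h1450 | h1450
  · exact key _ _ cocycle_1450 j (by omega) (by omega)
  rcases lt_or_ge j 1550 with h1500 | h1500
  · exact key _ _ cocycle_1500 j (by omega) (by omega)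
  exact key _ _ cocycle_1550 j (by omega) (by omega)


/-- value of a stabiliser element -/
noncomputable def hVal (k : Fin 110) : Cfsg.Spor.ON := evalW gen (hW k)

/-- value of an element of the matrix group -/
noncomputable def jVal (g : Spor.J1) : Cfsg.Spor.ON :=
  hVal (coord.symm g).1 * evalW gen (tW (coord.symm g).2)

theorem stab_facts : hW 0 = [] ∧ tW 0 = [] ∧ ∀ k < 110,
    evalW gen (hW k) * evalW gen genAW = evalW gen (hW (hstepData.getD k (0, 0)).1) ∧
      evalW gen (hW k) * evalW gen genBW = evalW gen (hW (hstepData.getD k (0, 0)).2) := by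
  have h := okStab_true
  simp only [okStab, Bool.and_eq_true, decide_eq_true_eq, List.all_eq_true, List.mem_range] at h
  obtain ⟨⟨h0, t0⟩, hk⟩ := h
  refine ⟨h0, t0, fun k hk' => ?_⟩
  obtain ⟨a, b⟩ := hk k hk'
  exact ⟨by simpa [evalW_append] using sameEl_spec a, by simpa [evalW_append] using sameEl_spec b⟩

theorem hVal_mul (i : Fin 110) : ∀ k m : Fin 110, hEl i * hEl k = hEl m →
    hVal i * hVal k = hVal m := by
  obtain ⟨h0, -, hs'⟩ := stab_facts
  suffices H : ∀ n, ∀ hn : n < 110, ∀ m : Fin 110, hEl i * hEl ⟨n, hn⟩ = hEl m →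
      hVal i * hVal ⟨n, hn⟩ = hVal m from fun k m h => H k k.2 m h
  intro n
  induction n using Nat.strong_induction_on with
  | _ n ih =>
    intro hn m hm
    rcases Nat.eq_zero_or_pos n with rfl | hpos
    · have e1 : hVal ⟨0, hn⟩ = 1 := by simp [hVal, h0, evalW]
      rw [show (⟨0, hn⟩ : Fin 110) = 0 from rfl, hEl_zero, mul_one] at hm
      rw [e1, mul_one, hEl_injective hm]
    · obtain ⟨q, rfl⟩ : ∃ q, n = q + 1 := ⟨n - 1, by omega⟩
      have h := hpar_ok
      simp only [Bool.and_eq_true, Nat.beq_eq, List.all_eq_true, List.mem_range, Nat.blt_eq] at h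
      obtain ⟨hp, hq⟩ := h.2 q (by omega)
      set p : Fin 110 := ⟨_, lt_trans hp hn⟩
      obtain ⟨m', hm'⟩ := hEl_mul i p
      have ihp := ih _ hp p.2 m' hm'
      have hs := hstep_ok
      simp only [Bool.and_eq_true, Nat.beq_eq, List.all_eq_true, List.mem_range, Nat.blt_eq] at hs
      obtain ⟨e, he, hge⟩ := inJ_hgenP (hparData.getD (q + 1) (0, 0)).2
      set E : Spor.J1 := ⟨e, he⟩
      have hgE : jEnc E = hgenP (hparData.getD (q + 1) (0, 0)).2 := hge
      have hprod : hEl ⟨q + 1, hn⟩ = hEl p * E := by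
        apply jEnc_injective
        rw [jEnc_hEl, jEnc_mul, jEnc_hEl, hgE]
        exact hq
      -- one step by the generator, on both sides
      obtain ⟨W, hW'⟩ : ∃ W, ∀ a b : Fin 110, hEl a * E = hEl b → hVal a * W = hVal b := by
        by_cases hg : (hparData.getD (q + 1) (0, 0)).2 = 0
        · refine ⟨evalW gen genAW, fun a b hab => ?_⟩
          obtain ⟨s1, -, sa, -⟩ := hs a a.2
          have : b = (⟨_, s1⟩ : Fin 110) := hEl_injective (jEnc_injective (by
            rw [← hab, jEnc_mul, jEnc_hEl, jEnc_hEl, hgE, hgenP, if_pos hg]; exact sa))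
          subst this
          exact (hs' a a.2).1
        · refine ⟨evalW gen genBW, fun a b hab => ?_⟩
          obtain ⟨-, s2, -, sb⟩ := hs a a.2
          have : b = (⟨_, s2⟩ : Fin 110) := hEl_injective (jEnc_injective (by
            rw [← hab, jEnc_mul, jEnc_hEl, jEnc_hEl, hgE, hgenP, if_neg hg]; exact sb))
          subst this
          exact (hs' a a.2).2
      rw [hprod, ← mul_assoc, hm'] at hm
      rw [← hW' p _ hprod.symm, ← mul_assoc, ihp, hW' m' m hm]

theorem jVal_pEl (p : Fin 110 × Fin 1596) :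
    jVal (pEl p) = hVal p.1 * evalW gen (tW p.2) := by
  show hVal (coord.symm (coord p)).1 * evalW gen (tW (coord.symm (coord p)).2) = _
  rw [Equiv.symm_apply_apply]

theorem jVal_one : jVal 1 = 1 := by
  have e : (1 : Spor.J1) = pEl (0, 0) := by rw [pEl, hEl_zero, tEl_zero, mul_one]
  rw [e, jVal_pEl]
  simp [hVal, stab_facts.1, stab_facts.2.1, evalW]

theorem jVal_mul_X (g : Spor.J1) :
    jVal (g * ⟨Spor.jankoX, jankoX_mem⟩) = jVal g * evalW gen genXW := by
  obtain ⟨p, rfl⟩ := coord.surjective g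
  show jVal (pEl p * _) = jVal (pEl p) * _
  have h := stepX_ok
  simp only [List.all_eq_true, List.mem_range, Bool.and_eq_true, Nat.blt_eq, Nat.beq_eq] at h
  obtain ⟨h1, h2, h3⟩ := h p.2 p.2.2
  obtain ⟨m, hm⟩ := hEl_mul p.1 ⟨_, h1⟩
  have e : tEl p.2 * (⟨Spor.jankoX, jankoX_mem⟩ : Spor.J1) = hEl ⟨_, h1⟩ * tEl ⟨_, h2⟩ := by
    apply jEnc_injective
    rw [jEnc_mul, jEnc_mul, jEnc_tEl, jEnc_hEl, jEnc_tEl]
    exact (congrArg (mulP (tget p.2)) gEnc_X).trans h3
  have ep : pEl p * ⟨Spor.jankoX, jankoX_mem⟩ = pEl (m, ⟨_, h2⟩) := by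
    rw [pEl, pEl, mul_assoc, e, ← mul_assoc, hm]
  rw [ep, jVal_pEl, jVal_pEl, ← hVal_mul _ _ _ hm, mul_assoc, mul_assoc, (cocycle p.2 p.2.2).1]
  rfl

theorem jVal_mul_Y (g : Spor.J1) :
    jVal (g * ⟨Spor.jankoY, jankoY_mem⟩) = jVal g * evalW gen genYW := by
  obtain ⟨p, rfl⟩ := coord.surjective g
  show jVal (pEl p * _) = jVal (pEl p) * _
  have h := stepY_ok
  simp only [List.all_eq_true, List.mem_range, Bool.and_eq_true, Nat.blt_eq, Nat.beq_eq] at h
  obtain ⟨h1, h2, h3⟩ := h p.2 p.2.2
  obtain ⟨m, hm⟩ := hEl_mul p.1 ⟨_, h1⟩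
  have e : tEl p.2 * (⟨Spor.jankoY, jankoY_mem⟩ : Spor.J1) = hEl ⟨_, h1⟩ * tEl ⟨_, h2⟩ := by
    apply jEnc_injective
    rw [jEnc_mul, jEnc_mul, jEnc_tEl, jEnc_hEl, jEnc_tEl]
    exact (congrArg (mulP (tget p.2)) gEnc_Y).trans h3
  have ep : pEl p * ⟨Spor.jankoY, jankoY_mem⟩ = pEl (m, ⟨_, h2⟩) := by
    rw [pEl, pEl, mul_assoc, e, ← mul_assoc, hm]
  rw [ep, jVal_pEl, jVal_pEl, ← hVal_mul _ _ _ hm, mul_assoc, mul_assoc, (cocycle p.2 p.2.2).2]
  rfl

theorem jVal_mul (z : Spor.J1) : ∀ g, jVal (g * z) = jVal g * jVal z := by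
  obtain ⟨z, hz⟩ := z
  induction hz using Subgroup.closure_induction with
  | mem z hz =>
    rcases hz with rfl | hz
    · intro g
      have := jVal_mul_X 1
      rw [one_mul, jVal_one, one_mul] at this
      rw [this]
      exact jVal_mul_X g
    · rw [Set.mem_singleton_iff] at hz
      subst hz
      intro g
      have := jVal_mul_Y 1
      rw [one_mul, jVal_one, one_mul] at this
      rw [this]
      exact jVal_mul_Y g
  | one =>
    intro g
    rw [show (⟨1, _⟩ : Spor.J1) = 1 from rfl, mul_one, jVal_one, mul_one]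
  | mul a b ha hb iha ihb =>
    intro g
    have e : (⟨a * b, mul_mem ha hb⟩ : Spor.J1) = ⟨a, ha⟩ * ⟨b, hb⟩ := rfl
    rw [e, ← mul_assoc, ihb, iha, ihb, mul_assoc]
  | inv a ha iha =>
    intro g
    have e : (⟨a⁻¹, inv_mem ha⟩ : Spor.J1) = (⟨a, ha⟩ : Spor.J1)⁻¹ := rfl
    have h1 : ∀ g, jVal (g * (⟨a, ha⟩ : Spor.J1)⁻¹) = jVal g * (jVal ⟨a, ha⟩)⁻¹ := fun g => by
      have := iha (g * (⟨a, ha⟩ : Spor.J1)⁻¹)
      rw [inv_mul_cancel_right] at this
      rw [this, mul_inv_cancel_right]
    have h2 := h1 1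
    rw [one_mul, jVal_one, one_mul] at h2
    rw [e, h1, h2]

/-- the embedding of the matrix group -/
noncomputable def jEmb : Spor.J1 →* Cfsg.Spor.ON :=
  MonoidHom.mk' jVal fun g z => jVal_mul z g

theorem genX_moves : (genXW.all (fun x => decide (x < 8)) &&
    !(Nat.beq (main.app genXW 0) 0 && Nat.beq (main.app genXW 15) 15 &&
      Nat.beq (main.app genXW 71333) 71333)) = true := by
  decide +kernel

theorem jEmb_injective : Function.Injective jEmb := by
  haveI := isSimpleGroup_J1
  rw [← MonoidHom.ker_eq_bot_iff]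
  rcases (MonoidHom.normal_ker jEmb).eq_bot_or_eq_top with h | h
  · exact h
  exfalso
  have h1 : jEmb ⟨Spor.jankoX, jankoX_mem⟩ = 1 := MonoidHom.mem_ker.1 (h ▸ Subgroup.mem_top _)
  have e : evalW gen genXW = 1 := by
    have := jVal_mul_X 1
    rw [one_mul, jVal_one, one_mul] at this
    exact this ▸ h1
  have hm := genX_moves
  simp only [Bool.and_eq_true, List.all_eq_true, decide_eq_true_eq, Bool.not_eq_true'] at hm
  obtain ⟨h8, hne⟩ := hm
  have hfix : ∀ c : Fin 122760, main.app genXW c = c.1 := by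
    intro c
    rw [← π_word genXW h8 c, e, map_one, inv_one, Equiv.Perm.one_apply]
  have f0 := hfix ⟨0, by omega⟩
  have f1 := hfix ⟨15, by omega⟩
  have f2 := hfix ⟨71333, by omega⟩
  simp only at f0 f1 f2
  rw [f0, f1, f2] at hne
  simp at hne

theorem exists_J1 : ∃ K : Subgroup Cfsg.Spor.ON, Cfsg.IsJ1 K := by
  haveI := isSimpleGroup_J1
  let e := MonoidHom.ofInjective jEmb_injective
  exact ⟨jEmb.range, e.symm.isSimpleGroup, (Nat.card_congr e.toEquiv).symm.trans natCard_J1⟩

end CfsgLib.Spor.ON
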