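import Cfsg.Agent.Lib.Spor.ON.SubJ1Defs

/-!
Checks of the words for the subgroup of type `J₁`.
-/

set_option linter.all false

namespace CfsgLib.Spor.ON

set_option Elab.async false

theorem cocycle_0 : okCocycle 0 50 = true := by decide +kernel

theorem cocycle_50 : okCocycle 50 50 = true := by decide +kernel

theorem cocycle_100 : okCocycle 100 50 = true := by decide +kernel

theorem cocycle_150 : okCocycle 150 50 = true := by decide +kernel

theorem cocycle_200 : okCocycle 200 50 = true := by decide +kernel

theorem cocycle_250 : okCocycle 250 50 = true := by decide +kernel

theorem cocycle_300 : okCocycle 300 50 = true := by decide +kernel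

theorem cocycle_350 : okCocycle 350 50 = true := by decide +kernel

end CfsgLib.Spor.ON
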