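import Mathlib.Init

/-!
Words in the eight letters for the elements of a subgroup of type `J₁`.
-/

set_option linter.all false
set_option maxRecDepth 100000

namespace CfsgLib.Spor.ON

def genXW : List Nat := [7, 2, 1, 3, 6, 4, 3, 2, 7, 3, 4, 1, 2, 7, 3, 4, 2, 1, 6, 3]

def genYW : List Nat := [0, 1, 2, 3, 7, 4, 3, 7, 2, 1, 4, 3, 2, 3, 4, 2, 7, 3, 4, 1, 2, 3, 2]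

def genAW : List Nat := [1, 3, 2, 1, 3, 2, 1, 0, 3, 4, 3, 2, 1, 3, 5, 4, 3, 2, 3, 2, 1, 0, 4, 3, 2, 3, 6, 1, 4, 6, 2, 1, 3, 2, 3, 4, 6, 4, 3, 2, 3]

def genBW : List Nat := [1, 3, 2, 1, 4, 3, 2, 3, 2, 1, 4, 3, 2, 1, 0, 3, 2, 1, 4, 3, 2, 1, 3, 6, 1, 0, 4, 3, 2, 1, 3, 6, 2, 3, 7, 4, 3]

def hWords : List (List Nat) :=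
  [[],
   [1, 3, 2, 1, 3, 2, 1, 0, 3, 4, 3, 2, 1, 3, 5, 4, 3, 2, 3, 2, 1, 0, 4, 3, 2, 3, 6, 1, 4, 6, 2, 1, 3, 2, 3, 4, 6, 4, 3, 2, 3],
   [1, 3, 2, 1, 4, 3, 2, 3, 2, 1, 4, 3, 2, 1, 0, 3, 2, 1, 4, 3, 2, 1, 3, 6, 1, 0, 4, 3, 2, 1, 3, 6, 2, 3, 7, 4, 3],
   [1, 0, 2, 4, 3, 2, 5, 4, 3, 2, 1, 3, 2, 3, 2, 1, 4, 3, 2, 3, 2, 4, 3, 2, 1, 0, 3, 2, 1, 3, 6, 1, 4, 3, 2, 1, 3, 6, 4, 3, 2, 1, 3, 6],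
   [0, 2, 1, 0, 5, 4, 3, 2, 1, 3, 2, 3, 2, 4, 3, 2, 1, 5, 4, 3, 2, 3, 2, 4, 3, 2, 1, 5, 6, 1, 2, 3, 2, 4, 6, 1, 3, 2, 1, 7, 1, 3],
   [2, 3, 2, 1, 3, 2, 3, 4, 3, 2, 1, 3, 5, 4, 3, 2, 1, 3, 2, 4, 3, 5, 6, 1, 2, 3, 2, 1, 0, 3, 4, 3, 2, 3, 2, 4, 3, 7],
   [1, 5, 4, 3, 2, 1, 0, 3, 2, 1, 3, 4, 3, 2, 1, 3, 2, 5, 4, 3, 2, 1, 0, 3, 6, 1, 4, 3, 6, 2, 3, 6, 1, 4, 6, 1],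
   [0, 2, 5, 4, 3, 2, 1, 3, 2, 4, 3, 2, 1, 3, 2, 3, 2, 4, 3, 2, 1, 0, 3, 2, 1, 3, 4, 6, 4, 3, 2, 7, 3, 4],
   [1, 0, 2, 1, 3, 4, 3, 2, 3, 2, 1, 0, 4, 3, 2, 1, 3, 2, 4, 3, 2, 1, 5, 4, 3, 2, 1, 0, 3, 2, 1, 4, 3, 5, 6, 1, 2, 4, 3, 2, 6, 1, 2, 4, 6, 2, 3],
   [3, 2, 1, 4, 3, 2, 1, 3, 2, 1, 4, 3, 2, 1, 0, 3, 2, 1, 5, 4, 3, 2, 1, 0, 6, 1, 2, 7, 3, 4, 6, 2, 1, 3, 2, 7, 1, 7],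
   [2, 1, 3, 2, 1, 0, 3, 4, 3, 2, 1, 3, 5, 4, 3, 2, 1, 0, 3, 2, 1, 4, 3, 2, 3, 2, 4, 3, 2, 6, 1, 4, 3, 2, 1, 5, 4, 3, 6, 2, 1, 3],
   [3, 2, 1, 0, 3, 2, 1, 4, 3, 2, 1, 0, 3, 5, 4, 3, 6, 1, 2, 3, 7, 2, 1, 4, 3, 2, 1, 0, 3, 7, 1],
   [0, 2, 4, 3, 2, 1, 3, 2, 3, 2, 4, 3, 2, 1, 3, 2, 3, 4, 3, 2, 1, 3, 2, 1, 3, 2, 6, 1, 4, 6, 3, 6, 2, 1, 3, 4, 6, 3, 2, 1],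
   [4, 3, 2, 1, 3, 5, 4, 3, 2, 1, 3, 2, 1, 4, 3, 2, 5, 4, 3, 2, 3, 4, 6, 1, 2, 3, 2, 4, 3, 2, 1, 5, 4, 3, 7],
   [2, 1, 3, 2, 1, 0, 4, 3, 2, 1, 0, 3, 2, 1, 4, 3, 2, 3, 2, 1, 0, 4, 3, 2, 1, 3, 2, 3, 6, 1, 0, 4, 6, 2, 1, 3, 2, 3, 4, 6, 3, 4, 3],
   [3, 2, 1, 0, 3, 2, 1, 0, 3, 2, 4, 3, 2, 1, 0, 3, 2, 3, 4, 3, 2, 1, 3, 2, 1, 3, 4, 6, 1, 7, 2, 3, 2, 1, 0, 4, 3, 2, 1, 7, 2, 4],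
   [0, 1, 0, 2, 1, 0, 3, 2, 1, 3, 2, 4, 3, 2, 1, 0, 3, 2, 1, 3, 4, 3, 2, 3, 2, 4, 3, 2, 6, 1, 3, 2, 3, 2, 1, 4, 6, 2, 3, 2, 1, 4, 7],
   [0, 1, 0, 2, 1, 3, 4, 3, 2, 1, 3, 2, 1, 3, 4, 3, 2, 1, 3, 2, 1, 4, 3, 2, 5, 4, 3, 2, 6, 1, 2, 3, 2, 7, 4, 7, 1, 3, 7, 2, 1, 6, 2],
   [0, 2, 1, 3, 2, 1, 3, 2, 4, 3, 2, 1, 5, 4, 3, 2, 1, 0, 3, 2, 1, 4, 3, 2, 5, 4, 3, 2, 1, 0, 6, 1, 0, 2, 1, 3, 2, 6, 1, 4, 3, 2, 1, 3],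
   [1, 3, 2, 1, 3, 2, 1, 3, 4, 3, 2, 1, 3, 2, 1, 3, 4, 3, 2, 1, 0, 3, 2, 1, 4, 5, 6, 1, 4, 6, 3, 2, 3, 4, 6, 3, 2],
   [2, 1, 0, 3, 4, 3, 2, 1, 3, 2, 5, 4, 3, 2, 1, 0, 3, 2, 4, 3, 5, 6, 1, 6, 2, 1, 3, 4, 7, 2, 3, 2, 1, 6, 2, 3],
   [2, 3, 2, 3, 4, 3, 2, 1, 0, 3, 2, 1, 3, 2, 4, 3, 2, 1, 5, 4, 3, 2, 1, 0, 3, 2, 1, 4, 3, 2, 3, 6, 1, 2, 3, 2, 1, 4, 3, 2, 3, 5, 4, 3],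
   [1, 0, 2, 5, 4, 3, 2, 1, 3, 2, 3, 4, 3, 2, 1, 0, 3, 2, 4, 3, 5, 4, 3, 2, 1, 0, 6, 1, 2, 3, 2, 4, 3, 6, 1, 6, 2, 6, 3, 4, 7],
   [0, 2, 1, 0, 3, 2, 1, 0, 3, 2, 4, 3, 2, 1, 3, 2, 3, 2, 4, 3, 2, 1, 0, 5, 4, 3, 2, 1, 3, 2, 4, 3, 2, 1, 6, 1, 4, 6, 2, 3, 2, 1, 6, 2, 3],
   [0, 1, 3, 4, 3, 2, 1, 5, 4, 3, 2, 1, 3, 2, 4, 3, 2, 1, 0, 5, 4, 3, 2, 1, 3, 2, 3, 4, 3, 2, 1, 3, 4, 6, 1, 2, 3, 7, 2, 4, 3, 2, 1, 6, 2, 1],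
   [0, 2, 1, 4, 3, 2, 1, 5, 4, 3, 2, 1, 3, 2, 1, 4, 3, 2, 1, 5, 4, 6, 1, 2, 4, 3, 2, 1, 3, 6, 4, 7],
   [0, 2, 1, 3, 2, 1, 5, 4, 3, 2, 1, 0, 3, 2, 1, 4, 3, 2, 1, 3, 2, 4, 3, 2, 1, 5, 4, 6, 1, 2, 3, 6, 2, 4, 7, 1, 3, 2, 4, 7, 1, 0],
   [1, 4, 3, 2, 5, 4, 3, 2, 1, 0, 3, 2, 1, 3, 2, 4, 3, 2, 1, 3, 2, 3, 2, 4, 3, 2, 1, 5, 4, 3, 2, 3, 4, 6, 1, 2, 7, 3, 2, 4, 3, 7, 1, 2, 3],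
   [3, 2, 1, 3, 2, 1, 0, 4, 3, 2, 1, 0, 3, 2, 1, 4, 3, 2, 3, 2, 1, 4, 3, 2, 1, 6, 1, 2, 3, 2, 1, 4, 3, 6, 2, 1, 7, 1, 7],
   [2, 1, 3, 2, 3, 2, 1, 4, 3, 2, 1, 3, 2, 1, 3, 2, 4, 3, 2, 1, 0, 3, 2, 4, 5, 6, 4, 3, 2, 7, 1, 3, 2, 4, 3, 2, 1, 7, 2, 1],
   [1, 0, 3, 2, 4, 3, 2, 1, 5, 4, 3, 2, 1, 3, 2, 1, 4, 3, 2, 1, 3, 2, 3, 4, 3, 5, 4, 3, 6, 1, 0, 4, 3, 2, 3, 7, 4, 3, 7, 2],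
   [0, 1, 0, 2, 3, 2, 1, 0, 3, 2, 1, 4, 3, 2, 1, 0, 3, 5, 4, 3, 2, 1, 3, 2, 3, 2, 4, 3, 2, 5, 6, 1, 2, 3, 4, 3, 2, 3, 5, 4, 7, 1, 0],
   [1, 2, 5, 4, 3, 2, 1, 3, 2, 4, 3, 2, 1, 0, 3, 2, 1, 3, 4, 3, 2, 3, 2, 1, 6, 4, 3, 6, 2, 1, 6, 3, 2, 4, 7],
   [1, 3, 2, 1, 3, 2, 4, 3, 5, 4, 3, 2, 1, 3, 2, 3, 2, 1, 0, 4, 3, 2, 1, 3, 2, 3, 2, 4, 6, 2, 4, 3, 2, 1, 0, 3, 2, 4, 6, 1, 3, 4],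
   [1, 0, 2, 3, 5, 4, 3, 2, 1, 3, 2, 1, 3, 2, 4, 6, 1, 2, 3, 2, 4, 3, 7, 1, 4, 7, 1, 2, 1],
   [0, 1, 3, 2, 1, 0, 3, 2, 3, 4, 3, 2, 1, 3, 2, 1, 3, 4, 3, 2, 1, 3, 2, 4, 3, 2, 1, 5, 4, 6, 1, 2, 1, 3, 2, 1, 7, 4, 7, 3, 2, 4, 5],
   [3, 2, 5, 4, 3, 2, 1, 3, 2, 4, 3, 2, 1, 0, 3, 2, 3, 4, 3, 2, 1, 3, 2, 3, 2, 6, 1, 2, 4, 3, 2, 7, 1, 2, 6, 3],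
   [1, 2, 1, 3, 2, 3, 4, 3, 2, 1, 3, 2, 3, 4, 3, 2, 1, 3, 2, 3, 2, 4, 3, 2, 1, 3, 2, 6, 4, 6, 3, 2, 1, 6, 1, 4, 3],
   [0, 1, 0, 3, 2, 1, 3, 2, 1, 3, 4, 3, 2, 1, 5, 4, 3, 2, 3, 6, 1, 2, 4, 3, 6, 4, 6, 1, 2, 3, 6, 2, 4],
   [1, 0, 2, 1, 3, 5, 4, 3, 2, 1, 0, 3, 2, 1, 3, 4, 3, 2, 1, 3, 2, 4, 3, 2, 1, 0, 6, 1, 2, 4, 3, 2, 1, 3, 7, 2, 1, 4, 3, 2],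
   [0, 1, 0, 3, 4, 3, 2, 1, 0, 3, 2, 1, 4, 3, 2, 5, 4, 3, 2, 1, 3, 2, 4, 3, 5, 6, 4, 3, 2, 1, 3, 6, 2, 6, 1, 4, 3, 6, 2],
   [1, 2, 1, 0, 3, 5, 4, 3, 2, 1, 0, 3, 2, 1, 3, 4, 3, 2, 1, 3, 2, 3, 5, 6, 1, 0, 2, 4, 3, 6, 2, 1, 4, 7, 3, 2, 1, 3],
   [2, 1, 0, 4, 3, 2, 1, 3, 2, 4, 3, 2, 1, 0, 5, 4, 3, 2, 1, 0, 3, 2, 1, 4, 3, 2, 3, 5, 6, 1, 4, 3, 2, 3, 6, 1, 2, 4, 3, 2, 1, 0],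
   [1, 0, 3, 2, 1, 0, 3, 4, 3, 2, 1, 3, 2, 1, 3, 2, 4, 3, 2, 1, 3, 2, 3, 4, 6, 1, 2, 1, 3, 4, 6, 1, 3, 2, 1, 0, 3, 2],
   [0, 1, 0, 2, 4, 3, 2, 1, 3, 2, 3, 2, 4, 3, 2, 1, 0, 3, 2, 1, 4, 3, 2, 5, 4, 3, 2, 1, 0, 6, 4, 3, 2, 1, 3, 6, 4, 3, 2, 3, 4, 6],
   [2, 1, 4, 3, 2, 1, 3, 2, 1, 4, 3, 2, 5, 6, 4, 3, 6, 2, 1, 3, 2, 3, 2, 4],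
   [1, 3, 2, 1, 3, 2, 1, 0, 3, 4, 3, 2, 1, 3, 2, 4, 3, 2, 1, 5, 4, 3, 2, 1, 3, 2, 1, 0, 4, 5, 6, 1, 2, 3, 2, 3, 4, 3, 6, 2, 6, 1, 4],
   [2, 3, 2, 5, 4, 3, 2, 1, 0, 3, 2, 1, 3, 2, 3, 4, 3, 2, 1, 3, 2, 4, 3, 5, 4, 3, 2, 1, 0, 3, 2, 1, 0, 3, 2, 6, 4, 3, 2, 1, 7, 3, 2, 4, 7, 1, 3, 2, 6, 3],
   [0, 1, 0, 2, 1, 4, 3, 2, 3, 5, 4, 3, 2, 1, 0, 3, 2, 1, 3, 2, 4, 3, 2, 1, 5, 4, 3, 2, 1, 3, 4, 5, 6, 1, 2, 6, 3, 2, 6, 1, 4, 3, 2, 5],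
   [2, 1, 3, 5, 4, 6, 1, 4, 6, 2, 6, 3, 2, 1, 0, 4, 3, 2, 1, 7],
   [0, 1, 0, 3, 2, 1, 4, 3, 5, 4, 3, 2, 3, 2, 1, 0, 4, 3, 2, 1, 3, 2, 4, 3, 2, 1, 0, 5, 4, 3, 2, 6, 1, 2, 1, 3, 2, 4, 3, 7, 4, 3, 2],
   [0, 1, 0, 2, 4, 3, 2, 1, 5, 4, 3, 2, 1, 3, 2, 1, 3, 2, 4, 3, 2, 1, 3, 2, 4, 3, 2, 5, 4, 3, 2, 1, 0, 3, 2, 1, 3, 2, 4, 3, 2, 3, 6, 4, 3, 2, 3, 5, 4, 3, 7, 1],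
   [0, 2, 1, 3, 2, 1, 4, 3, 2, 3, 2, 4, 3, 2, 1, 3, 2, 3, 2, 4, 3, 2, 1, 3, 2, 6, 4, 3, 2, 1, 3, 7, 2, 3, 4, 6, 1, 0, 4, 3],
   [0, 1, 2, 5, 4, 3, 2, 1, 3, 2, 3, 2, 1, 4, 3, 2, 1, 5, 4, 3, 2, 1, 3, 2, 3, 4, 3, 5, 4, 6, 4, 3, 2, 1, 3, 2, 3, 2, 4, 6, 3, 7, 2],
   [2, 1, 3, 2, 1, 3, 2, 4, 3, 2, 1, 5, 4, 3, 2, 1, 3, 2, 1, 0, 4, 3, 2, 1, 3, 2, 3, 2, 4, 3, 2, 6, 1, 2, 3, 2, 1, 4, 6, 2, 4, 3],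
   [0, 3, 2, 1, 3, 2, 3, 2, 1, 0, 4, 3, 2, 1, 3, 2, 3, 2, 4, 3, 2, 1, 5, 4, 3, 2, 3, 2, 4, 3, 2, 1, 5, 6, 1, 4, 3, 2, 3, 6, 1, 4, 3, 2, 1, 5],
   [0, 3, 4, 3, 2, 1, 3, 2, 4, 3, 2, 1, 3, 2, 4, 3, 2, 1, 5, 4, 3, 2, 1, 0, 3, 2, 6, 4, 3, 2, 3, 6, 1, 2, 4, 6, 1, 7],
   [0, 1, 0, 2, 1, 3, 2, 1, 4, 3, 2, 1, 0, 3, 5, 4, 3, 2, 1, 3, 2, 1, 0, 4, 3, 2, 3, 4, 6, 4, 3, 2, 6, 1, 3, 6, 2, 3, 4, 7, 3],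
   [0, 1, 0, 2, 3, 2, 1, 4, 3, 2, 3, 2, 1, 4, 3, 2, 1, 3, 4, 5, 4, 3, 2, 1, 0, 3, 2, 6, 1, 4, 3, 2, 1, 7, 3, 2, 4, 6, 3, 4],
   [0, 2, 1, 0, 4, 3, 2, 1, 3, 2, 4, 3, 2, 1, 3, 2, 3, 4, 3, 2, 1, 5, 4, 3, 2, 1, 6, 1, 0, 4, 3, 2, 3, 2, 4, 6, 1, 0, 2, 1],
   [0, 1, 0, 5, 4, 3, 2, 1, 3, 2, 1, 4, 3, 2, 1, 5, 4, 3, 2, 1, 3, 2, 1, 0, 4, 3, 5, 6, 1, 0, 2, 1, 4, 3, 2, 3, 6, 4, 6, 3],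
   [0, 2, 3, 2, 1, 0, 3, 2, 1, 4, 3, 2, 3, 2, 1, 4, 3, 2, 1, 3, 4, 5, 6, 2, 4, 3, 2, 1, 7, 3, 2, 1, 4, 6, 1],
   [0, 1, 0, 4, 3, 2, 1, 3, 2, 1, 0, 4, 3, 2, 1, 3, 2, 4, 3, 2, 1, 0, 3, 2, 3, 4, 3, 2, 1, 3, 6, 1, 2, 3, 2, 1, 4, 3, 6, 1, 4, 7, 1, 4],
   [0, 4, 3, 2, 1, 0, 3, 5, 4, 3, 2, 1, 3, 2, 1, 4, 3, 2, 1, 3, 2, 4, 3, 5, 4, 3, 2, 1, 0, 3, 2, 1, 0, 3, 2, 4, 3, 2, 6, 4, 3, 2, 6, 1, 3, 6, 2, 1, 3, 4],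
   [2, 3, 4, 3, 2, 1, 0, 3, 2, 1, 3, 2, 4, 3, 2, 1, 3, 2, 3, 4, 3, 2, 5, 4, 6, 1, 2, 4, 3, 2, 1, 5, 4, 6, 1, 3, 2, 4, 5],
   [0, 1, 2, 1, 0, 3, 4, 3, 2, 1, 3, 2, 1, 3, 4, 3, 2, 1, 3, 2, 4, 5, 6, 1, 2, 3, 2, 4, 3, 7, 1, 2, 3, 2, 7, 4],
   [0, 1, 3, 5, 4, 3, 2, 1, 0, 3, 2, 1, 3, 4, 3, 2, 1, 3, 2, 1, 0, 4, 3, 2, 1, 6, 4, 3, 2, 1, 3, 2, 4, 7, 4],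
   [1, 3, 2, 3, 4, 3, 2, 3, 2, 1, 4, 3, 2, 1, 3, 2, 1, 4, 3, 2, 3, 2, 1, 4, 3, 2, 3, 5, 6, 1, 3, 2, 3, 4, 3, 2, 7, 1, 2, 3, 2, 7],
   [0, 1, 2, 1, 0, 4, 3, 2, 1, 5, 4, 3, 2, 1, 3, 2, 1, 4, 3, 2, 1, 5, 4, 3, 2, 1, 3, 2, 4, 3, 6, 1, 0, 3, 4, 3, 2, 1, 3, 2, 4, 7, 3, 2, 1, 7],
   [1, 2, 1, 3, 2, 1, 0, 3, 2, 1, 4, 3, 2, 1, 3, 2, 4, 3, 2, 5, 4, 3, 2, 1, 0, 3, 2, 1, 3, 2, 4, 6, 1, 0, 3, 4, 3, 2, 3, 4, 6, 1, 4, 3],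
   [1, 4, 3, 2, 1, 3, 2, 1, 3, 4, 3, 2, 3, 2, 1, 4, 3, 6, 3, 4, 3, 2, 1, 3, 7, 2, 4, 7, 1, 3, 2],
   [1, 0, 2, 3, 4, 3, 2, 1, 3, 2, 1, 3, 4, 3, 2, 1, 3, 2, 3, 4, 3, 2, 1, 0, 5, 6, 1, 0, 2, 1, 6, 3, 2, 4, 3, 2, 1, 7, 1],
   [0, 1, 0, 2, 1, 3, 2, 1, 5, 4, 3, 2, 3, 2, 4, 3, 2, 1, 0, 3, 2, 1, 3, 2, 4, 3, 2, 1, 5, 4, 3, 2, 1, 3, 4, 6, 1, 2, 3, 2, 4, 7, 3, 2, 4],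
   [0, 2, 3, 2, 1, 3, 4, 3, 2, 1, 0, 3, 4, 5, 4, 3, 2, 1, 3, 2, 4, 3, 2, 1, 0, 3, 2, 3, 6, 1, 2, 3, 6, 2, 1, 4, 3, 6, 2, 1, 6, 3],
   [0, 1, 4, 3, 2, 1, 3, 4, 5, 4, 3, 2, 1, 0, 3, 4, 6, 1, 0, 2, 1, 3, 2, 4, 3, 5, 4, 7, 4],
   [0, 1, 2, 1, 0, 3, 2, 1, 0, 3, 2, 3, 4, 3, 2, 1, 3, 2, 3, 4, 3, 2, 1, 3, 2, 3, 2, 4, 3, 2, 6, 1, 2, 3, 2, 4, 3, 2, 3, 6, 4, 3, 2],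
   [0, 1, 3, 5, 4, 3, 2, 1, 3, 2, 1, 3, 4, 3, 2, 1, 3, 5, 4, 3, 2, 1, 3, 2, 4, 3, 5, 6, 4, 3, 2, 1, 3, 2, 1, 4, 3, 2, 5, 4, 7],
   [1, 0, 3, 2, 1, 3, 2, 4, 3, 2, 1, 3, 2, 4, 3, 2, 5, 4, 3, 2, 1, 3, 2, 3, 4, 5, 6, 4, 6, 3, 2, 4, 7, 1, 3, 7, 2, 3],
   [0, 1, 0, 2, 1, 3, 4, 3, 2, 1, 3, 2, 1, 0, 3, 4, 3, 5, 4, 6, 1, 2, 1, 3, 2, 1, 0, 4, 3, 2, 1, 0, 7, 2],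
   [0, 1, 4, 3, 2, 1, 3, 2, 1, 4, 3, 2, 1, 5, 4, 3, 2, 3, 2, 4, 3, 2, 1, 0, 3, 2, 3, 4, 5, 6, 1, 2, 3, 2, 6, 1, 4, 7, 3, 2, 4, 3, 2, 1],
   [0, 1, 3, 2, 1, 4, 3, 2, 1, 3, 2, 1, 0, 4, 3, 2, 1, 3, 2, 4, 3, 2, 1, 0, 3, 2, 1, 3, 4, 3, 2, 1, 3, 2, 4, 3, 2, 6, 1, 2, 3, 4, 3, 2, 3, 7, 1, 4, 3],
   [2, 3, 2, 1, 5, 4, 3, 2, 1, 3, 2, 4, 3, 2, 1, 0, 5, 4, 3, 2, 1, 3, 2, 4, 3, 2, 1, 3, 6, 1, 2, 3, 2, 4, 3, 6, 1, 6, 2, 3, 4, 5],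
   [1, 2, 1, 3, 2, 1, 3, 2, 3, 4, 3, 2, 1, 3, 2, 3, 2, 4, 3, 2, 1, 3, 2, 3, 4, 3, 2, 3, 5, 6, 1, 2, 3, 2, 1, 6, 4, 3, 6, 2, 1, 3, 2, 4],
   [3, 2, 1, 3, 2, 1, 4, 3, 2, 1, 3, 5, 4, 3, 2, 3, 6, 1, 0, 2, 1, 0, 3, 4, 7, 3],
   [3, 2, 1, 4, 3, 2, 1, 3, 2, 3, 4, 3, 2, 1, 3, 2, 3, 4, 3, 2, 1, 3, 2, 5, 6, 1, 0, 2, 4, 3, 2, 1, 3, 2, 6],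
   [0, 3, 4, 3, 2, 1, 3, 2, 1, 3, 4, 3, 2, 3, 2, 1, 0, 4, 3, 2, 1, 3, 2, 4, 3, 5, 6, 1, 2, 3, 6, 2, 1, 4, 3, 6, 2, 1, 6],
   [1, 2, 1, 4, 5, 4, 3, 2, 1, 3, 2, 4, 3, 2, 1, 0, 3, 2, 3, 4, 3, 2, 1, 3, 2, 3, 5, 6, 2, 4, 6, 3, 2, 1, 4, 3, 2, 3, 7, 1, 6],
   [0, 1, 0, 2, 1, 3, 4, 3, 2, 1, 5, 4, 3, 2, 1, 3, 2, 3, 4, 3, 2, 1, 0, 3, 2, 3, 4, 3, 2, 3, 2, 1, 6, 1, 0, 2, 1, 3, 2, 1, 4, 6, 2, 3, 6, 4, 5],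
   [0, 1, 2, 1, 0, 3, 2, 3, 4, 3, 2, 1, 0, 3, 2, 1, 3, 2, 3, 4, 3, 2, 1, 3, 5, 4, 3, 2, 3, 2, 4, 6, 1, 2, 4, 3, 2, 7, 1, 4, 3, 2, 3, 2],
   [0, 1, 0, 3, 2, 4, 3, 2, 1, 5, 4, 3, 2, 3, 2, 1, 4, 3, 2, 1, 0, 3, 2, 1, 4, 3, 6, 1, 2, 3, 2, 1, 4, 3, 2, 6, 1, 3, 7, 4, 7],
   [0, 1, 3, 2, 3, 2, 1, 4, 3, 2, 1, 3, 2, 1, 6, 1, 2, 3, 2, 3, 4, 3, 7, 2, 1, 6, 1, 3],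
   [0, 4, 3, 2, 1, 3, 2, 3, 4, 3, 2, 1, 0, 3, 2, 1, 0, 3, 2, 4, 3, 2, 1, 5, 4, 3, 2, 1, 3, 6, 1, 2, 4, 3, 2, 6, 1, 4, 3, 2, 7, 1, 3, 6],
   [3, 5, 4, 3, 2, 3, 2, 1, 4, 3, 2, 3, 2, 1, 4, 3, 2, 1, 0, 5, 6, 1, 0, 2, 3, 2, 4, 6, 1, 2, 3, 2, 1, 3, 7],
   [2, 3, 2, 1, 4, 3, 2, 5, 4, 3, 2, 1, 3, 2, 3, 2, 4, 3, 2, 1, 0, 5, 4, 3, 2, 1, 3, 2, 4, 3, 6, 1, 2, 7, 3, 2, 4, 6, 1, 3, 7, 2, 1],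
   [0, 2, 1, 3, 2, 1, 3, 2, 4, 3, 2, 1, 5, 4, 3, 2, 3, 2, 4, 3, 2, 1, 3, 2, 3, 2, 1, 4, 3, 2, 3, 6, 1, 4, 6, 2, 1, 3, 2, 3, 4, 3, 2, 7],
   [0, 1, 2, 3, 2, 1, 0, 3, 2, 3, 4, 3, 2, 1, 3, 2, 1, 3, 2, 4, 3, 2, 1, 0, 3, 2, 1, 3, 2, 4, 6, 1, 2, 3, 4, 3, 2, 1, 0, 3, 2, 6, 4, 7],
   [0, 1, 2, 1, 0, 3, 2, 1, 4, 3, 2, 3, 2, 1, 0, 4, 3, 2, 1, 0, 3, 2, 3, 4, 3, 2, 3, 2, 6, 1, 7, 2, 3, 2, 1, 0, 4, 3, 2, 6, 1, 4, 7],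
   [0, 3, 2, 1, 3, 2, 1, 3, 4, 3, 2, 1, 3, 2, 3, 5, 4, 3, 2, 1, 0, 3, 2, 1, 3, 4, 3, 2, 1, 3, 4, 5, 6, 3, 4, 3, 2, 3, 4, 7, 1, 2, 3, 6, 1, 2],
   [3, 2, 1, 3, 2, 1, 4, 3, 2, 3, 2, 1, 0, 4, 3, 2, 1, 3, 2, 3, 2, 4, 3, 2, 1, 0, 3, 2, 3, 6, 1, 0, 2, 1, 4, 3, 2, 1, 6, 1, 3, 4],
   [0, 3, 2, 1, 0, 3, 5, 4, 3, 2, 1, 3, 2, 1, 4, 3, 2, 1, 3, 4, 5, 6, 1, 2, 3, 4, 7, 2, 1, 4, 6, 1, 3],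
   [1, 3, 4, 3, 2, 1, 3, 2, 4, 3, 2, 1, 3, 2, 3, 4, 3, 2, 1, 0, 3, 2, 1, 4, 6, 4, 3, 2, 1, 3, 2, 7, 4, 7, 1, 3, 4, 5],
   [1, 0, 3, 4, 5, 4, 3, 2, 1, 3, 2, 3, 4, 3, 2, 1, 3, 2, 3, 4, 3, 2, 1, 3, 2, 1, 0, 3, 4, 6, 1, 2, 6, 3, 2, 4, 6, 3, 2, 4],
   [0, 1, 2, 1, 3, 4, 3, 2, 1, 3, 2, 1, 4, 3, 2, 1, 3, 2, 4, 3, 2, 5, 4, 6, 1, 2, 3, 4, 6, 2, 1, 3, 4, 6, 2, 1, 7, 2],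
   [0, 1, 4, 3, 2, 1, 0, 3, 5, 4, 3, 2, 1, 3, 2, 3, 4, 3, 2, 1, 3, 5, 4, 3, 2, 3, 2, 1, 6, 1, 4, 3, 2, 3, 4, 6, 4, 7, 4],
   [0, 2, 3, 2, 1, 0, 3, 4, 3, 2, 1, 3, 2, 1, 4, 3, 2, 1, 0, 5, 4, 3, 2, 1, 3, 2, 3, 4, 3, 5, 6, 1, 0, 2, 4, 3, 2, 1, 0, 3],
   [1, 2, 1, 4, 3, 2, 3, 2, 1, 4, 3, 2, 3, 2, 1, 4, 3, 2, 1, 3, 2, 1, 4, 3, 2, 5, 4, 6, 1, 2, 3, 4, 6, 2, 1, 3, 6, 2, 4, 6, 1, 6],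
   [0, 1, 2, 1, 0, 3, 4, 5, 4, 3, 2, 1, 3, 2, 3, 4, 3, 2, 1, 3, 2, 3, 4, 3, 2, 1, 3, 2, 3, 4, 3, 2, 1, 3, 2, 1, 0, 6, 1, 4, 6, 2, 6, 3, 2, 1, 4, 3, 2, 1, 3],
   [0, 3, 4, 3, 2, 1, 3, 2, 3, 4, 3, 2, 1, 3, 2, 3, 2, 1, 0, 4, 3, 2, 1, 3, 2, 3, 4, 3, 2, 3, 2, 6, 4, 3, 2, 1, 0, 3, 7, 2, 3, 4, 6, 1, 6],
   [5, 4, 3, 2, 1, 3, 2, 3, 2, 1, 4, 3, 2, 1, 5, 4, 3, 2, 1, 3, 2, 4, 3, 2, 1, 5, 6, 4, 3, 2, 3, 2, 1, 4, 7, 3, 2, 3, 4, 6],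
   [0, 1, 0, 2, 1, 4, 3, 2, 1, 3, 5, 4, 3, 2, 1, 3, 2, 1, 0, 4, 3, 2, 1, 0, 5, 4, 3, 2, 1, 0, 6, 1, 0, 2, 1, 4, 3, 6, 2, 6, 3, 4, 3, 6]]

def tWords0 : List (List Nat) :=
  [[],
   [0, 1, 3, 4, 3, 2, 1, 3, 2, 3, 4, 3, 2, 1, 3, 2, 4, 3, 2, 5, 4, 3, 2, 1, 3, 2, 3, 2, 1, 6, 1, 0, 2, 3, 2, 1, 4, 7, 3, 2, 4, 7, 1],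
   [1, 3, 2, 1, 3, 4, 3, 2, 1, 3, 2, 3, 2, 4, 3, 2, 1, 3, 2, 3, 2, 1, 4, 3, 2, 3, 2, 4, 6, 1, 0, 2, 1, 3, 4, 3, 7, 2, 3, 4, 7],
   [2, 3, 2, 4, 3, 2, 1, 3, 2, 3, 4, 3, 2, 1, 3, 2, 3, 4, 3, 2, 1, 3, 2, 4, 5, 4, 3, 2, 1, 6, 1, 0, 2, 1, 3, 4, 6, 3, 6],
   [4, 3, 2, 1, 3, 2, 3, 2, 4, 3, 2, 1, 0, 3, 2, 3, 4, 3, 2, 1, 0, 6, 4, 3, 2, 1, 3, 2, 1, 4, 3, 5, 4, 6, 4],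
   [0, 1, 0, 3, 5, 4, 3, 2, 1, 3, 2, 3, 4, 3, 2, 1, 0, 3, 2, 1, 0, 4, 3, 2, 5, 4, 3, 2, 6, 4, 3, 2, 1, 3, 6, 2, 3, 4, 3, 7, 2],
   [0, 3, 2, 1, 0, 5, 4, 3, 2, 1, 3, 2, 3, 2, 4, 3, 2, 1, 0, 5, 4, 3, 2, 1, 3, 2, 3, 4, 3, 2, 3, 4, 5, 6, 1, 0, 2, 1, 3, 4, 3, 2, 1, 0, 6, 3, 4],
   [2, 1, 3, 2, 3, 4, 3, 2, 1, 0, 3, 2, 1, 4, 3, 5, 4, 3, 6, 1, 0, 2, 1, 4, 3, 2, 3, 4, 7, 1, 0, 2, 4],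
   [0, 1, 0, 2, 3, 2, 1, 3, 2, 3, 4, 3, 2, 1, 5, 4, 3, 2, 1, 0, 3, 2, 1, 4, 3, 2, 1, 3, 2, 4, 3, 5, 4, 6, 4, 3, 2, 3, 4, 7, 1, 3, 6, 2, 3, 4, 7, 1],
   [1, 3, 2, 3, 2, 1, 4, 3, 2, 1, 3, 2, 1, 0, 3, 4, 3, 2, 1, 3, 2, 1, 4, 3, 2, 6, 1, 2, 3, 6, 2, 1, 4, 3, 7, 2, 3, 4, 7, 4],
   [0, 2, 3, 2, 1, 4, 3, 2, 1, 5, 4, 3, 2, 3, 4, 5, 6, 1, 0, 4, 6, 2],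
   [0, 1, 2, 3, 4, 3, 2, 1, 3, 2, 1, 3, 2, 4, 3, 2, 1, 3, 2, 3, 2, 1, 4, 3, 2, 1, 3, 5, 6, 4, 7, 3, 2, 1, 3, 2, 3, 4, 7],
   [0, 1, 5, 4, 3, 2, 1, 3, 2, 4, 3, 2, 1, 0, 5, 4, 3, 6, 1, 4, 3, 2, 5, 4, 7, 1, 3, 6, 2, 1, 7],
   [2, 1, 0, 3, 5, 4, 3, 2, 3, 2, 1, 4, 3, 2, 1, 3, 2, 1, 4, 3, 2, 3, 2, 1, 4, 3, 2, 3, 2, 1, 6, 1, 4, 3, 2, 3, 6, 1, 2, 4, 6, 3, 2, 6, 3],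
   [1, 2, 1, 4, 3, 2, 1, 3, 2, 5, 4, 3, 2, 1, 3, 2, 3, 4, 3, 2, 1, 5, 4, 3, 2, 1, 3, 2, 4, 6, 2, 4, 3, 2, 1, 3, 4, 6, 3, 2, 1, 7, 3, 4, 6],
   [1, 2, 1, 3, 2, 1, 0, 3, 4, 3, 2, 1, 3, 5, 4, 3, 2, 3, 2, 1, 0, 4, 3, 2, 1, 3, 2, 6, 1, 2, 7, 3, 4, 7, 1, 2, 4],
   [2, 3, 2, 1, 4, 3, 2, 3, 2, 4, 3, 2, 1, 3, 2, 3, 4, 3, 2, 1, 0, 3, 2, 5, 4, 3, 6, 4, 3, 2, 1, 3, 2, 5, 4, 6, 3, 2, 4, 3, 5],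
   [1, 0, 4, 3, 2, 3, 2, 4, 3, 2, 1, 3, 2, 3, 2, 1, 4, 3, 2, 1, 0, 3, 5, 4, 6, 1, 0, 4, 3, 2, 1, 0, 3, 6],
   [0, 2, 1, 3, 2, 1, 3, 2, 4, 3, 2, 1, 0, 5, 4, 3, 2, 1, 3, 2, 3, 4, 3, 2, 1, 3, 2, 1, 4, 3, 2, 3, 5, 6, 1, 2, 3, 7, 2, 4, 7, 3, 4, 7, 1],
   [1, 0, 2, 1, 3, 2, 1, 3, 4, 3, 2, 1, 3, 2, 3, 5, 4, 3, 2, 1, 0, 3, 2, 1, 3, 4, 3, 2, 1, 5, 6, 1, 2, 4, 7, 3, 2, 3, 4, 3, 7, 1, 2],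
   [1, 5, 4, 3, 2, 3, 2, 4, 3, 2, 1, 3, 2, 3, 2, 4, 3, 2, 1, 3, 2, 3, 4, 3, 2, 1, 0, 6, 1, 4, 3, 2, 3, 7, 1, 0, 4, 3, 2, 3, 2],
   [0, 1, 0, 2, 1, 0, 3, 2, 3, 4, 3, 2, 1, 3, 5, 4, 3, 2, 3, 2, 1, 0, 4, 3, 2, 1, 3, 2, 3, 4, 3, 2, 3, 2, 6, 1, 2, 7, 3, 4, 6, 2, 1, 3, 2, 3, 6],
   [0, 1, 4, 3, 2, 1, 3, 2, 4, 3, 2, 1, 0, 5, 4, 3, 2, 1, 3, 2, 3, 4, 3, 2, 1, 0, 5, 4, 6, 1, 2, 1, 4, 3, 2, 1, 3, 2, 4, 3, 2, 1, 3],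
   [0, 1, 3, 2, 3, 2, 4, 3, 2, 1, 3, 2, 3, 4, 3, 2, 1, 3, 2, 3, 4, 3, 2, 1, 3, 2, 3, 4, 5, 4, 6, 1, 4, 3, 2, 3, 7, 1, 0, 2, 4, 3, 7],
   [1, 2, 3, 2, 1, 0, 3, 4, 3, 2, 3, 5, 4, 3, 2, 1, 3, 2, 3, 2, 1, 4, 3, 2, 5, 4, 3, 6, 1, 2, 3, 6, 2, 4, 7, 1, 3, 2, 1, 6],
   [4, 5, 4, 3, 2, 1, 3, 2, 4, 3, 2, 1, 5, 6, 1, 0, 2, 3, 4, 3, 6, 2, 1, 3, 2, 4],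
   [0, 1, 0, 2, 1, 3, 2, 1, 0, 3, 2, 1, 4, 3, 2, 1, 3, 2, 4, 3, 2, 1, 5, 4, 3, 2, 6, 1, 2, 3, 4, 3, 2, 3, 4, 6, 1, 4, 7, 2],
   [0, 1, 4, 3, 2, 1, 3, 2, 1, 4, 3, 2, 1, 3, 2, 1, 4, 3, 2, 1, 3, 2, 3, 4, 3, 2, 3, 4, 5, 6, 4, 3, 2, 1, 3, 2, 5, 4, 7, 1, 4, 7],
   [1, 2, 1, 3, 2, 1, 4, 3, 2, 1, 0, 3, 5, 4, 3, 2, 1, 3, 2, 1, 4, 3, 2, 1, 3, 2, 4, 3, 2, 5, 4, 3, 2, 3, 6, 1, 0, 2, 1, 3, 2, 1, 6, 4, 6, 3, 4],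
   [1, 5, 4, 3, 2, 1, 3, 2, 4, 3, 2, 1, 3, 2, 3, 4, 3, 2, 1, 0, 3, 2, 1, 3, 4, 3, 2, 1, 6, 4, 3, 2, 6, 1, 0, 3, 2, 1, 4, 7, 2, 4],
   [3, 2, 4, 3, 2, 1, 3, 2, 3, 4, 3, 2, 3, 2, 1, 4, 3, 2, 3, 2, 1, 4, 3, 2, 1, 0, 3, 6, 1, 2, 4, 3, 2, 7, 1, 2, 7, 4, 3, 2, 7],
   [0, 1, 0, 3, 2, 3, 4, 3, 2, 1, 5, 4, 3, 2, 1, 0, 3, 2, 1, 4, 3, 2, 5, 6, 4, 3, 2, 1, 5, 4, 3, 2, 3, 4, 7, 2],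
   [0, 2, 1, 0, 3, 2, 1, 3, 4, 3, 2, 1, 3, 4, 5, 4, 3, 2, 1, 3, 2, 4, 5, 6, 1, 4, 3, 2, 3, 4, 6, 1, 2, 1, 4, 6],
   [3, 2, 1, 4, 3, 2, 5, 4, 3, 2, 1, 3, 2, 3, 2, 1, 0, 4, 3, 2, 1, 3, 2, 3, 2, 4, 3, 5, 6, 1, 0, 2, 4, 3, 2, 6, 1, 7],
   [1, 2, 1, 3, 2, 4, 3, 2, 1, 3, 2, 3, 2, 1, 4, 3, 2, 3, 2, 1, 4, 3, 2, 3, 2, 4, 6, 1, 0, 2, 3, 2, 1, 4, 3, 2, 6, 1, 0, 3],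
   [1, 3, 2, 1, 3, 4, 3, 2, 1, 0, 3, 2, 1, 0, 3, 4, 3, 2, 1, 0, 6, 1, 2, 3, 2, 1, 3, 2, 4, 3, 2, 1],
   [0, 3, 4, 5, 4, 3, 2, 1, 3, 2, 3, 4, 3, 2, 1, 3, 2, 3, 4, 3, 2, 1, 3, 2, 1, 3, 2, 1, 4, 5, 6, 4, 3, 2, 3, 7, 1, 2, 3, 4, 3, 7, 3],
   [1, 2, 1, 3, 2, 1, 3, 2, 5, 4, 3, 2, 1, 3, 2, 4, 3, 2, 5, 4, 3, 2, 1, 0, 3, 2, 1, 3, 4, 6, 1, 2, 3, 6, 2, 4, 3, 6, 1, 2, 3, 4, 7, 4],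
   [0, 1, 2, 1, 3, 5, 4, 3, 2, 1, 3, 2, 1, 0, 3, 4, 3, 2, 1, 3, 5, 4, 3, 2, 3, 2, 4, 3, 6, 1, 2, 3, 2, 3, 4, 3, 7, 1, 2, 4, 3, 2, 1],
   [0, 2, 3, 2, 1, 4, 3, 2, 1, 3, 2, 5, 4, 3, 2, 1, 3, 2, 4, 3, 2, 1, 6, 1, 2, 3, 2, 1, 4, 7, 2, 3, 2]]

def tWords1 : List (List Nat) :=
  [[1, 0, 3, 2, 1, 3, 2, 5, 4, 3, 2, 1, 0, 3, 2, 3, 4, 3, 2, 1, 0, 3, 2, 1, 5, 4, 3, 6, 4, 3, 2, 1, 3, 2, 6, 1, 6, 4, 3],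
   [1, 3, 4, 3, 2, 1, 3, 2, 5, 4, 3, 2, 1, 3, 2, 3, 4, 3, 2, 1, 0, 3, 2, 4, 3, 2, 6, 3, 4, 3, 2, 1, 0, 3, 2, 4, 7, 1, 4, 7],
   [2, 3, 2, 1, 4, 3, 2, 3, 2, 1, 4, 3, 2, 1, 3, 2, 1, 4, 3, 2, 1, 3, 2, 4, 3, 5, 4, 3, 6, 1, 4, 3, 2, 1, 7, 1, 7],
   [5, 4, 3, 2, 1, 3, 2, 3, 4, 3, 2, 1, 3, 2, 4, 3, 2, 5, 4, 3, 2, 1, 3, 2, 3, 4, 6, 4, 3, 2, 1, 0, 3, 2, 1, 3, 4, 5],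
   [0, 3, 2, 1, 3, 2, 3, 2, 4, 3, 2, 1, 0, 5, 4, 3, 2, 1, 3, 2, 3, 4, 3, 2, 1, 3, 2, 3, 4, 3, 5, 6, 4, 6, 3, 2, 1, 0, 3, 2, 4, 3, 2, 1, 6, 4],
   [3, 2, 1, 5, 4, 3, 2, 1, 3, 2, 4, 3, 2, 1, 0, 3, 2, 1, 3, 4, 3, 2, 1, 3, 2, 4, 6, 1, 4, 6, 3, 2, 7, 3, 4, 7, 1, 4],
   [0, 2, 3, 2, 5, 4, 3, 2, 1, 0, 3, 2, 1, 3, 2, 4, 3, 2, 1, 3, 2, 3, 4, 3, 2, 1, 3, 2, 1, 4, 3, 2, 3, 4, 6, 1, 2, 3, 2, 1, 4, 3, 2, 1, 3, 4, 6, 1, 3],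
   [0, 5, 4, 3, 2, 1, 3, 2, 1, 0, 4, 3, 2, 1, 3, 2, 4, 3, 2, 1, 3, 2, 4, 3, 2, 1, 3, 2, 4, 3, 6, 1, 2, 3, 2, 6, 1, 4, 3, 2, 6, 2, 4, 7],
   [0, 1, 3, 2, 3, 2, 1, 4, 3, 2, 1, 0, 3, 2, 1, 5, 4, 3, 2, 1, 3, 2, 3, 4, 3, 2, 1, 5, 4, 6, 1, 2, 3, 2, 7, 1, 4, 7, 3, 4, 3, 7, 2],
   [0, 1, 0, 3, 2, 1, 3, 2, 3, 4, 3, 2, 1, 3, 2, 4, 3, 5, 4, 3, 2, 1, 3, 2, 3, 2, 1, 4, 5, 6, 1, 3, 2, 3, 2, 4, 3, 7, 2, 1, 4, 6, 4],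
   [0, 1, 3, 5, 4, 3, 2, 3, 2, 1, 0, 4, 3, 2, 1, 0, 3, 2, 3, 4, 3, 2, 1, 0, 3, 2, 5, 6, 1, 0, 4, 3, 2, 1, 3, 5, 4, 7, 2, 1, 4],
   [0, 3, 2, 1, 4, 3, 2, 3, 2, 1, 4, 3, 2, 1, 3, 2, 1, 4, 3, 2, 1, 3, 2, 4, 3, 2, 1, 6, 1, 2, 3, 2, 1, 3, 4, 3, 6, 2, 4, 3, 2, 1],
   [1, 3, 2, 3, 2, 4, 3, 2, 1, 0, 3, 2, 1, 4, 3, 2, 3, 2, 1, 4, 3, 2, 1, 0, 3, 2, 4, 3, 2, 1, 6, 1, 4, 6, 2, 1, 3, 2, 3, 2, 1, 6],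
   [1, 2, 1, 4, 3, 2, 5, 4, 3, 2, 1, 3, 2, 3, 2, 1, 4, 3, 2, 1, 0, 5, 6, 4, 3, 2, 1, 6, 3, 2, 6, 1, 3, 7, 4],
   [1, 2, 1, 3, 2, 1, 4, 3, 2, 1, 0, 5, 4, 3, 2, 1, 0, 3, 2, 3, 4, 3, 2, 1, 3, 2, 3, 5, 4, 3, 2, 6, 1, 2, 1, 3, 2, 1, 4, 7, 3, 2, 1, 4, 3, 2],
   [1, 3, 4, 3, 5, 4, 3, 2, 1, 3, 2, 3, 4, 3, 2, 1, 0, 3, 2, 1, 3, 2, 4, 3, 2, 5, 6, 1, 0, 4, 3, 2, 3, 6, 1, 2, 4, 3, 6, 2],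
   [0, 3, 4, 3, 2, 1, 0, 3, 2, 1, 0, 4, 3, 2, 1, 5, 4, 3, 2, 1, 3, 2, 1, 4, 3, 2, 3, 4, 6, 4, 6, 3, 2, 3, 4],
   [0, 1, 2, 1, 0, 3, 2, 1, 4, 3, 2, 3, 5, 4, 3, 2, 1, 0, 3, 2, 1, 4, 3, 2, 1, 6, 1, 4, 7, 2, 3, 2, 1, 4, 6, 3, 6, 4],
   [1, 2, 1, 4, 3, 2, 1, 0, 3, 2, 1, 4, 3, 2, 3, 5, 4, 6, 1, 0, 2, 1, 3, 2, 4, 7, 3, 4, 7, 3, 2, 4],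
   [0, 2, 1, 0, 3, 2, 1, 5, 4, 3, 2, 1, 3, 2, 1, 4, 3, 2, 1, 3, 2, 1, 3, 4, 3, 2, 1, 3, 2, 3, 4, 6, 1, 2, 4, 3, 2, 1, 6, 2, 4, 3, 7, 2],
   [0, 2, 3, 5, 4, 3, 2, 1, 0, 3, 2, 1, 0, 3, 2, 4, 3, 2, 1, 0, 5, 4, 3, 2, 1, 0, 3, 2, 6, 4, 3, 2, 3, 4, 6, 1, 2, 3, 4, 6, 4],
   [0, 1, 0, 3, 4, 3, 2, 1, 3, 2, 3, 5, 4, 3, 2, 1, 3, 2, 3, 4, 3, 2, 1, 3, 2, 1, 3, 4, 3, 2, 1, 3, 2, 3, 6, 4, 3, 2, 1, 3, 2, 3, 4, 6, 4, 3],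
   [3, 2, 1, 0, 3, 2, 1, 3, 2, 4, 3, 2, 1, 0, 3, 2, 3, 4, 3, 2, 1, 5, 6, 1, 4, 3, 7, 2, 1, 3, 4, 6, 1, 0, 4],
   [0, 1, 0, 2, 3, 4, 3, 2, 1, 3, 2, 1, 0, 3, 4, 3, 2, 1, 3, 2, 3, 5, 4, 3, 2, 6, 4, 3, 2, 6, 1, 3, 6, 2, 3, 4, 7, 1, 3],
   [0, 2, 1, 0, 3, 4, 3, 2, 3, 2, 1, 4, 3, 2, 1, 3, 2, 1, 4, 3, 2, 1, 3, 2, 1, 0, 4, 3, 2, 1, 6, 4, 3, 2, 1, 3, 7, 2, 3, 4, 7, 1, 2],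
   [2, 5, 4, 3, 2, 1, 0, 3, 2, 1, 3, 2, 4, 3, 2, 1, 0, 3, 2, 1, 4, 3, 2, 1, 3, 2, 4, 5, 6, 1, 2, 3, 2, 4, 3, 6, 1, 2, 6, 1, 4],
   [1, 0, 2, 1, 0, 3, 2, 1, 0, 3, 4, 3, 2, 1, 0, 3, 2, 1, 4, 3, 5, 4, 3, 2, 3, 2, 1, 0, 6, 1, 2, 3, 2, 6, 4, 6, 3, 2, 6],
   [0, 1, 2, 1, 0, 3, 2, 3, 4, 3, 2, 1, 3, 2, 1, 3, 2, 1, 4, 3, 2, 1, 3, 2, 1, 3, 4, 3, 2, 5, 4, 6, 1, 2, 3, 4, 3, 6, 2, 1, 0],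
   [2, 1, 3, 2, 1, 0, 4, 3, 2, 1, 0, 3, 2, 3, 4, 3, 2, 3, 2, 1, 0, 6, 4, 3, 6, 2, 1, 3, 2, 4, 3, 2, 7, 1, 4, 3],
   [2, 1, 5, 4, 3, 2, 1, 3, 2, 3, 4, 3, 2, 1, 3, 2, 3, 4, 3, 2, 1, 3, 2, 1, 0, 3, 4, 5, 6, 4, 3, 2, 3, 6, 1, 7, 2, 3, 4, 6, 3],
   [2, 3, 2, 1, 0, 3, 4, 3, 2, 1, 0, 3, 2, 1, 3, 4, 3, 2, 1, 0, 3, 2, 1, 3, 4, 5, 6, 1, 2, 3, 4, 3, 2, 1, 6, 2, 3, 4],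
   [0, 3, 2, 3, 4, 3, 2, 1, 3, 2, 1, 3, 4, 3, 2, 3, 5, 4, 3, 6, 1, 4, 3, 2, 7, 1, 3, 2, 3, 4, 7, 2, 3, 4],
   [0, 4, 3, 2, 1, 3, 2, 1, 4, 3, 2, 1, 0, 5, 4, 3, 2, 1, 0, 3, 2, 1, 4, 3, 5, 6, 1, 0, 4, 3, 2, 1, 3, 2, 7, 1, 7, 2, 4],
   [0, 2, 1, 0, 3, 2, 1, 0, 3, 2, 1, 4, 3, 2, 1, 0, 3, 5, 4, 3, 2, 1, 3, 2, 1, 0, 4, 3, 5, 4, 6, 1, 4, 3, 2, 3, 4, 7, 3, 4],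
   [3, 2, 4, 3, 2, 1, 3, 2, 4, 3, 2, 1, 0, 3, 2, 3, 4, 3, 2, 1, 3, 2, 3, 4, 5, 4, 3, 2, 6, 1, 0, 4, 3, 2, 1, 3, 2, 3, 4, 7, 2, 1],
   [2, 3, 2, 5, 4, 3, 2, 1, 0, 3, 2, 1, 3, 2, 3, 4, 3, 2, 1, 3, 2, 1, 3, 4, 5, 6, 1, 2, 3, 7, 2, 1, 0, 4, 3, 2, 1, 3, 2],
   [0, 1, 0, 4, 3, 2, 1, 3, 2, 1, 0, 4, 3, 2, 1, 5, 4, 3, 2, 1, 3, 2, 1, 4, 3, 2, 1, 5, 4, 3, 2, 1, 0, 6, 1, 2, 3, 2, 1, 4, 3, 2, 7, 1, 3, 6, 4, 5],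
   [0, 3, 2, 1, 3, 2, 1, 3, 2, 4, 3, 2, 1, 3, 2, 3, 4, 3, 2, 1, 3, 2, 1, 0, 6, 1, 4, 6, 3, 2, 3, 4, 3, 6],
   [1, 3, 2, 1, 3, 4, 3, 2, 1, 3, 2, 3, 2, 4, 3, 2, 1, 3, 2, 3, 2, 1, 4, 3, 2, 3, 2, 4, 6, 1, 0, 2, 1, 4, 3, 2, 3, 4, 6, 3, 6, 2, 4],
   [0, 1, 0, 2, 1, 3, 2, 1, 3, 4, 3, 2, 1, 0, 3, 2, 1, 0, 3, 4, 3, 2, 1, 5, 6, 1, 2, 3, 2, 4, 6, 1, 3, 6, 2, 4, 7, 1, 0]]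

def tWords2 : List (List Nat) :=
  [[3, 2, 1, 3, 2, 1, 3, 4, 3, 2, 1, 3, 5, 4, 3, 2, 3, 6, 1, 2, 3, 2, 4, 3, 7, 1, 0, 2, 1, 7, 4],
   [1, 0, 2, 3, 2, 1, 0, 3, 2, 4, 3, 2, 1, 5, 4, 3, 2, 1, 3, 2, 1, 4, 3, 2, 5, 4, 6, 1, 2, 3, 2, 4, 6, 3, 7, 2, 1, 0, 4],
   [2, 1, 4, 3, 2, 1, 3, 5, 4, 3, 2, 3, 2, 1, 0, 4, 3, 2, 1, 3, 2, 3, 4, 3, 2, 3, 2, 1, 4, 6, 1, 0, 4, 3, 2, 3, 6, 4, 3, 2, 3, 5],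
   [1, 3, 2, 3, 4, 3, 2, 1, 0, 3, 2, 1, 3, 2, 4, 3, 2, 1, 0, 5, 4, 3, 2, 1, 0, 3, 4, 5, 6, 1, 3, 4, 7, 2, 3, 4, 5],
   [1, 0, 3, 2, 4, 3, 2, 1, 5, 4, 3, 2, 1, 3, 2, 1, 3, 4, 3, 2, 1, 3, 2, 3, 4, 5, 4, 3, 6, 1, 4, 3, 2, 3, 7, 4, 3, 2, 7, 1],
   [0, 1, 0, 2, 1, 3, 2, 3, 4, 3, 2, 1, 3, 2, 4, 3, 2, 1, 5, 4, 3, 2, 1, 3, 2, 4, 3, 5, 6, 1, 2, 4, 3, 2, 7, 1, 7, 2, 3, 4, 6],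
   [3, 2, 1, 0, 3, 2, 1, 5, 4, 3, 2, 1, 3, 2, 4, 3, 2, 1, 3, 2, 3, 2, 4, 3, 2, 3, 4, 6, 1, 0, 2, 1, 0, 3, 4, 3, 2, 3, 7, 4, 3, 6],
   [0, 2, 1, 4, 3, 2, 1, 0, 3, 2, 1, 0, 4, 3, 2, 1, 5, 4, 3, 2, 1, 3, 2, 3, 4, 3, 2, 1, 6, 1, 0, 4, 3, 2, 1, 3, 2, 3, 2, 1, 6, 1, 4],
   [0, 4, 3, 2, 1, 3, 2, 3, 4, 3, 2, 1, 0, 3, 2, 1, 3, 4, 3, 2, 3, 2, 1, 4, 3, 2, 1, 3, 4, 6, 1, 2, 3, 2, 4, 6, 3, 6, 2, 1, 0, 3],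
   [0, 1, 0, 2, 1, 3, 2, 4, 3, 2, 1, 3, 2, 3, 4, 3, 2, 1, 3, 2, 1, 3, 4, 3, 2, 3, 2, 1, 0, 4, 3, 2, 1, 6, 1, 4, 6, 3, 6, 2, 1, 4, 3, 2, 3, 6, 1],
   [0, 1, 0, 2, 1, 0, 3, 4, 3, 2, 1, 0, 3, 2, 1, 3, 4, 3, 2, 1, 3, 2, 1, 3, 4, 3, 2, 3, 6, 1, 2, 3, 7, 2, 4, 6, 1, 3, 2, 1, 0],
   [3, 2, 1, 3, 2, 5, 4, 3, 2, 1, 3, 2, 3, 2, 4, 3, 2, 1, 3, 2, 3, 4, 3, 2, 5, 6, 1, 2, 3, 4, 6, 2, 1, 3, 2, 1, 3, 2, 4],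
   [1, 0, 3, 5, 4, 3, 2, 1, 3, 2, 1, 3, 4, 3, 2, 1, 3, 2, 1, 3, 2, 4, 3, 2, 1, 3, 2, 3, 4, 5, 6, 4, 3, 2, 1, 0, 3, 4, 6, 2, 3, 6, 4, 6, 1],
   [3, 2, 1, 0, 3, 2, 1, 0, 3, 4, 3, 2, 1, 3, 2, 1, 0, 4, 3, 2, 1, 5, 4, 6, 1, 0, 4, 3, 2, 1, 3, 2, 4, 7, 1, 4, 7],
   [0, 2, 1, 4, 3, 2, 3, 2, 4, 3, 2, 1, 3, 2, 3, 2, 4, 3, 2, 1, 0, 5, 4, 3, 2, 3, 6, 1, 2, 3, 6, 2, 1, 4, 7, 3, 4],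
   [0, 1, 2, 1, 3, 4, 3, 2, 1, 5, 4, 3, 2, 1, 3, 2, 4, 3, 2, 1, 3, 2, 3, 4, 3, 2, 5, 4, 3, 2, 1, 6, 4, 3, 2, 1, 0, 3, 4, 7, 1, 2, 3, 6, 1],
   [2, 1, 3, 2, 1, 4, 3, 2, 1, 3, 2, 4, 3, 2, 1, 5, 4, 3, 2, 3, 2, 1, 4, 3, 2, 1, 3, 2, 3, 5, 6, 1, 2, 1, 0, 3, 2, 1, 7, 4, 3, 2, 3, 4],
   [0, 2, 1, 3, 2, 1, 0, 4, 3, 2, 1, 3, 2, 4, 3, 2, 1, 3, 2, 3, 4, 3, 2, 1, 0, 3, 2, 1, 0, 4, 3, 2, 1, 5, 6, 1, 4, 3, 2, 3, 4, 6, 1, 4, 6, 2, 1],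
   [0, 1, 0, 4, 3, 2, 1, 0, 3, 2, 1, 3, 4, 3, 2, 1, 0, 3, 2, 1, 4, 3, 2, 6, 1, 2, 4, 3, 2, 1, 3, 2, 3, 2, 1],
   [0, 3, 2, 1, 3, 2, 1, 3, 4, 3, 2, 1, 0, 3, 2, 5, 4, 3, 2, 1, 3, 6, 1, 2, 3, 2, 1, 0, 4, 6, 3, 4, 7, 3, 2, 3],
   [1, 0, 2, 1, 3, 2, 1, 3, 2, 3, 4, 3, 2, 1, 5, 4, 3, 2, 1, 0, 3, 2, 1, 4, 6, 1, 6, 2, 1, 3, 2, 4, 3, 2, 1, 0, 6, 4],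
   [0, 1, 2, 1, 0, 4, 3, 2, 1, 0, 3, 2, 1, 4, 3, 2, 1, 3, 2, 4, 3, 2, 1, 5, 4, 3, 2, 1, 3, 2, 1, 4, 3, 6, 1, 0, 2, 1, 4, 3, 6, 2, 4, 3, 2, 1, 3, 6],
   [3, 2, 1, 3, 2, 1, 3, 4, 3, 2, 1, 3, 2, 1, 0, 4, 3, 2, 3, 6, 1, 2, 3, 2, 7, 4, 3, 2, 1, 7, 2, 4, 3],
   [2, 1, 0, 3, 2, 1, 5, 4, 3, 2, 3, 2, 1, 0, 4, 3, 2, 1, 3, 2, 6, 4, 3, 2, 3, 4, 7, 1, 2, 3, 6, 1, 0],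
   [0, 1, 0, 2, 3, 4, 3, 2, 1, 3, 2, 1, 4, 3, 2, 1, 0, 5, 4, 3, 2, 1, 3, 2, 3, 2, 4, 3, 2, 1, 3, 2, 4, 3, 5, 4, 6, 1, 4, 3, 6, 2, 1, 4, 6, 4],
   [1, 0, 2, 3, 2, 3, 4, 3, 2, 1, 3, 2, 3, 2, 1, 4, 3, 2, 1, 3, 2, 4, 3, 2, 1, 3, 2, 3, 2, 4, 3, 2, 1, 6, 4, 3, 2, 3, 4, 6, 1, 3, 2],
   [0, 1, 2, 1, 4, 3, 5, 4, 3, 2, 1, 3, 2, 3, 2, 4, 3, 2, 1, 3, 2, 3, 2, 1, 0, 4, 3, 6, 1, 4, 3, 2, 7, 3, 4, 7, 3, 2, 1, 7],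
   [2, 1, 3, 2, 1, 0, 5, 4, 3, 2, 1, 3, 2, 4, 3, 2, 1, 0, 3, 2, 1, 3, 4, 3, 2, 3, 4, 5, 4, 6, 1, 0, 4, 6, 3, 2, 4, 3, 7, 1, 0, 4],
   [1, 0, 3, 2, 1, 3, 2, 1, 0, 3, 4, 3, 2, 1, 3, 2, 3, 2, 4, 3, 2, 1, 0, 3, 2, 6, 1, 2, 3, 2, 1, 4, 6, 3, 7, 2, 1, 4, 7, 1, 7],
   [2, 3, 2, 3, 4, 3, 2, 1, 0, 3, 2, 1, 3, 2, 4, 3, 2, 1, 5, 4, 3, 2, 1, 0, 3, 2, 1, 4, 3, 2, 1, 6, 4, 3, 2, 3, 6, 1, 2, 3, 6, 4, 3, 6, 2],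
   [0, 3, 2, 1, 0, 3, 4, 3, 2, 1, 3, 2, 3, 4, 3, 2, 1, 5, 4, 6, 3, 4, 3, 2, 3, 4, 7, 1, 7, 2, 1],
   [2, 3, 2, 1, 4, 3, 2, 5, 4, 3, 2, 1, 3, 2, 3, 2, 1, 0, 4, 3, 5, 6, 3, 4, 3, 2, 1, 3, 6, 2, 4, 7, 3, 2, 4],
   [1, 2, 3, 2, 4, 3, 2, 1, 3, 2, 4, 3, 2, 1, 3, 2, 4, 3, 2, 1, 3, 2, 4, 3, 2, 5, 4, 3, 2, 3, 6, 1, 4, 3, 7, 2, 1, 6, 3, 2, 3],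
   [0, 3, 4, 3, 2, 3, 2, 1, 4, 3, 2, 1, 3, 2, 4, 3, 2, 1, 0, 3, 2, 1, 3, 2, 4, 3, 6, 1, 2, 3, 2, 1, 3, 4, 3, 2, 1, 0, 7, 1, 7],
   [1, 3, 2, 1, 0, 3, 5, 4, 3, 2, 1, 3, 2, 1, 4, 3, 2, 1, 0, 3, 2, 5, 4, 3, 2, 3, 4, 6, 1, 0, 2, 4, 3, 2, 6, 1, 4, 3, 7],
   [4, 3, 2, 1, 3, 2, 1, 4, 3, 2, 1, 0, 3, 5, 4, 3, 2, 1, 3, 2, 1, 4, 3, 2, 1, 3, 4, 5, 4, 3, 6, 1, 2, 3, 6, 2, 1, 4, 3, 6, 2, 4, 7, 1],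
   [1, 0, 2, 1, 0, 3, 2, 3, 4, 3, 2, 1, 0, 3, 2, 1, 0, 3, 4, 3, 2, 1, 3, 2, 4, 5, 4, 3, 6, 4, 3, 2, 1, 3, 2, 1, 7, 3, 4, 7],
   [0, 1, 0, 2, 1, 3, 2, 1, 3, 2, 3, 4, 3, 2, 1, 3, 2, 3, 2, 4, 3, 2, 1, 0, 3, 2, 6, 3, 4, 3, 2, 1, 3, 6, 1, 0, 4],
   [1, 2, 1, 0, 3, 4, 5, 4, 3, 2, 1, 3, 2, 3, 4, 3, 2, 1, 3, 2, 3, 2, 4, 3, 2, 1, 5, 4, 6, 4, 3, 7, 2, 1, 7, 3, 2, 1, 4, 3, 6],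
   [0, 3, 5, 4, 3, 2, 1, 3, 2, 1, 0, 4, 3, 2, 5, 4, 3, 2, 6, 4, 3, 2, 1, 6, 3, 2, 1, 4, 7, 1, 3, 7]]

def tWords3 : List (List Nat) :=
  [[0, 1, 3, 2, 3, 5, 4, 3, 2, 1, 3, 2, 4, 3, 2, 5, 4, 3, 2, 1, 0, 3, 2, 1, 3, 2, 4, 3, 5, 4, 6, 1, 4, 3, 2, 1, 0, 3, 2, 1, 4, 7, 2],
   [0, 1, 2, 5, 4, 3, 2, 1, 0, 3, 2, 1, 4, 3, 2, 1, 3, 2, 4, 3, 2, 1, 5, 4, 3, 2, 3, 2, 4, 3, 6, 1, 3, 2, 3, 2, 4, 6, 1, 3, 2, 1, 3, 4, 3],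
   [0, 1, 0, 3, 2, 1, 3, 2, 1, 3, 4, 3, 2, 1, 3, 2, 3, 2, 1, 4, 3, 2, 1, 3, 2, 5, 6, 4, 3, 2, 1, 5, 4, 3, 2, 3, 4, 6, 4, 7],
   [0, 4, 3, 2, 3, 2, 4, 3, 2, 1, 3, 2, 3, 2, 1, 0, 4, 3, 2, 1, 0, 3, 2, 1, 4, 6, 4, 3, 2, 1, 3, 2, 4, 7, 1, 2, 4, 3, 6],
   [2, 3, 2, 1, 3, 4, 3, 2, 1, 3, 2, 5, 4, 3, 2, 1, 3, 2, 3, 2, 1, 6, 1, 2, 3, 2, 1, 4, 7, 1, 3, 4, 6],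
   [0, 2, 3, 5, 4, 3, 2, 1, 3, 2, 3, 4, 3, 2, 1, 3, 2, 4, 3, 2, 1, 5, 4, 3, 2, 3, 4, 6, 1, 3, 2, 3, 2, 4, 3, 2, 1, 6, 2, 7],
   [1, 0, 2, 1, 4, 3, 2, 1, 3, 2, 1, 4, 3, 2, 1, 3, 2, 1, 0, 4, 3, 5, 4, 6, 1, 4, 7, 2, 3, 2, 1, 4, 6, 3, 4, 6],
   [0, 1, 5, 4, 3, 2, 1, 0, 3, 2, 1, 0, 3, 4, 3, 2, 1, 0, 3, 2, 3, 4, 3, 2, 1, 3, 2, 3, 5, 6, 1, 2, 3, 7, 4, 7, 1, 3, 2, 3, 2, 1, 0],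
   [1, 2, 5, 4, 3, 2, 1, 3, 2, 3, 2, 1, 4, 3, 2, 1, 3, 2, 3, 4, 3, 2, 1, 0, 6, 1, 2, 3, 2, 4, 7, 1, 3, 2, 6, 1, 4, 3, 5],
   [0, 2, 3, 4, 3, 2, 1, 3, 2, 1, 4, 3, 2, 1, 3, 2, 3, 5, 4, 3, 2, 1, 3, 2, 3, 2, 4, 3, 2, 1, 6, 1, 2, 3, 2, 4, 7, 1, 3, 2, 7, 4, 7, 1, 3],
   [0, 2, 3, 2, 1, 0, 3, 2, 4, 3, 2, 1, 3, 2, 4, 3, 2, 1, 0, 3, 2, 1, 3, 4, 3, 2, 1, 3, 2, 1, 4, 3, 2, 1, 3, 2, 4, 3, 6, 1, 4, 3, 2, 1, 3, 2, 4, 5],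
   [1, 2, 3, 2, 5, 4, 3, 2, 1, 3, 2, 3, 2, 4, 3, 2, 1, 0, 3, 2, 3, 4, 3, 2, 6, 1, 0, 2, 1, 3, 2, 4, 3, 2, 1, 6, 3, 6],
   [0, 1, 0, 3, 2, 1, 3, 4, 3, 2, 1, 3, 2, 1, 3, 4, 3, 2, 1, 3, 2, 1, 3, 4, 3, 2, 1, 0, 3, 2, 5, 4, 3, 6, 4, 3, 2, 6, 1, 3, 2, 4, 3, 7, 1, 6, 2, 7],
   [0, 1, 3, 2, 1, 3, 4, 3, 2, 1, 3, 2, 3, 5, 4, 3, 2, 1, 3, 2, 3, 2, 4, 3, 2, 1, 5, 4, 6, 1, 0, 4, 3, 2, 3, 2, 1, 4, 3, 2, 5, 4, 3],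
   [0, 1, 2, 1, 3, 2, 1, 4, 3, 2, 1, 0, 3, 5, 4, 3, 2, 1, 3, 2, 1, 4, 3, 2, 1, 3, 5, 4, 3, 2, 3, 2, 4, 3, 2, 1, 0, 6, 1, 2, 3, 6, 2, 4, 7, 3, 2, 1, 4, 6, 2, 4],
   [1, 0, 3, 2, 1, 3, 4, 3, 2, 1, 0, 3, 4, 5, 4, 3, 2, 1, 0, 6, 1, 4, 3, 6, 2, 6, 1, 4, 3, 7, 1, 4],
   [4, 3, 2, 1, 3, 2, 3, 2, 4, 3, 2, 1, 0, 3, 2, 3, 4, 3, 2, 1, 0, 6, 4, 3, 2, 1, 3, 2, 1, 3, 4, 3, 2, 6, 4],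
   [0, 2, 1, 4, 3, 2, 1, 5, 4, 3, 2, 1, 3, 2, 1, 0, 4, 3, 2, 1, 5, 4, 3, 2, 3, 2, 1, 4, 5, 6, 1, 2, 1, 4, 3, 2, 1, 3, 6, 2, 1, 0],
   [2, 1, 3, 2, 1, 0, 4, 3, 2, 1, 5, 4, 3, 2, 3, 2, 1, 4, 3, 2, 3, 6, 1, 2, 3, 2, 4, 3, 2, 7, 1, 3, 4, 7, 3],
   [0, 1, 0, 3, 4, 3, 2, 1, 3, 5, 4, 3, 2, 1, 3, 2, 1, 4, 3, 2, 1, 3, 2, 4, 5, 4, 3, 6, 1, 2, 3, 2, 4, 3, 6, 1, 0, 2, 1, 3, 2, 6],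
   [0, 1, 3, 2, 1, 0, 3, 2, 4, 3, 2, 1, 0, 3, 2, 1, 4, 3, 2, 1, 3, 2, 4, 3, 2, 1, 0, 3, 2, 4, 3, 2, 6, 1, 2, 3, 2, 6, 4, 7, 3, 4, 5],
   [0, 1, 2, 1, 3, 4, 5, 4, 3, 2, 1, 3, 2, 3, 4, 3, 2, 1, 3, 2, 4, 3, 6, 1, 3, 2, 3, 4, 3, 2, 1, 6, 3, 2, 4, 5],
   [3, 5, 4, 3, 2, 3, 2, 1, 0, 4, 3, 2, 1, 3, 2, 3, 2, 4, 3, 5, 4, 6, 1, 7, 2, 3, 2, 1, 0, 4, 3, 2, 6, 1, 4, 7],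
   [5, 4, 3, 2, 1, 3, 2, 3, 4, 3, 2, 1, 3, 2, 1, 0, 3, 4, 3, 2, 1, 3, 2, 1, 0, 3, 6, 1, 0, 4, 3, 2, 3, 2, 1, 6, 4, 3, 2],
   [2, 3, 2, 4, 3, 5, 4, 3, 2, 1, 3, 2, 3, 2, 4, 3, 2, 1, 3, 2, 3, 2, 1, 0, 4, 3, 6, 1, 2, 3, 2, 1, 4, 6, 1, 3, 2, 1, 4, 3, 5],
   [0, 1, 2, 1, 4, 3, 2, 1, 5, 4, 3, 2, 3, 2, 4, 3, 5, 6, 4, 3, 2, 1, 6, 2, 6, 3, 2],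
   [2, 3, 2, 3, 4, 3, 2, 1, 3, 2, 3, 4, 3, 2, 1, 3, 2, 3, 4, 3, 2, 1, 3, 5, 4, 3, 2, 6, 4, 3, 2, 1, 7, 3, 2, 4, 6, 3, 4, 7, 2],
   [1, 0, 2, 3, 2, 3, 4, 3, 2, 1, 0, 3, 2, 1, 0, 3, 4, 3, 2, 3, 2, 1, 4, 3, 2, 3, 5, 4, 6, 1, 2, 3, 2, 3, 4, 3, 2, 1, 7, 3, 2],
   [0, 1, 0, 2, 1, 4, 3, 2, 1, 3, 2, 4, 3, 5, 4, 3, 2, 1, 0, 3, 2, 1, 3, 2, 4, 5, 6, 1, 2, 3, 2, 1, 4, 7, 3, 2, 4, 3, 7, 4, 6],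
   [3, 2, 4, 3, 2, 1, 0, 3, 2, 1, 3, 2, 3, 4, 3, 2, 1, 3, 5, 4, 3, 2, 3, 2, 1, 0, 4, 3, 2, 3, 4, 6, 1, 2, 3, 2, 4, 3, 6, 1, 2, 1, 0, 3],
   [2, 3, 2, 1, 3, 2, 3, 2, 1, 0, 4, 3, 2, 1, 3, 2, 4, 3, 2, 5, 4, 6, 1, 0, 2, 3, 4, 3, 2, 1, 3, 2, 6, 1],
   [0, 2, 1, 3, 2, 1, 3, 2, 1, 3, 4, 3, 2, 1, 0, 3, 2, 1, 0, 4, 3, 2, 3, 4, 6, 1, 0, 2, 3, 2, 4, 3, 2, 3, 7, 1, 6],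
   [0, 1, 2, 3, 2, 1, 4, 3, 2, 1, 0, 3, 5, 4, 3, 2, 1, 3, 2, 3, 4, 3, 2, 1, 5, 4, 3, 2, 3, 4, 6, 1, 2, 1, 0, 3, 2, 1, 4, 3, 7, 4, 6],
   [2, 3, 2, 1, 5, 4, 3, 2, 1, 3, 2, 1, 4, 3, 2, 1, 0, 5, 4, 3, 2, 1, 0, 3, 4, 5, 6, 4, 3, 7, 2, 1, 3, 4, 7, 2, 1, 6, 1, 3],
   [2, 1, 0, 3, 2, 1, 3, 2, 4, 3, 2, 1, 3, 2, 3, 2, 1, 4, 3, 2, 5, 4, 3, 2, 1, 0, 6, 1, 2, 3, 7, 4],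
   [0, 1, 2, 1, 0, 5, 4, 3, 2, 1, 3, 2, 4, 3, 2, 1, 3, 2, 3, 4, 3, 2, 1, 0, 3, 2, 1, 4, 3, 6, 1, 2, 3, 2, 1, 0, 4, 6, 3, 2, 4, 7],
   [0, 4, 3, 2, 1, 3, 2, 4, 3, 5, 4, 3, 2, 1, 0, 3, 2, 1, 3, 2, 3, 4, 3, 2, 6, 1, 2, 3, 4, 3, 2, 1, 6, 1, 0, 3],
   [2, 3, 2, 3, 4, 3, 2, 1, 0, 3, 2, 1, 3, 2, 4, 3, 2, 1, 0, 3, 2, 1, 3, 4, 3, 2, 1, 5, 6, 1, 0, 4, 3, 2, 1, 0, 3, 6, 2, 1, 4],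
   [0, 2, 3, 2, 1, 3, 2, 4, 3, 2, 1, 5, 4, 3, 2, 3, 2, 4, 3, 2, 1, 0, 3, 2, 1, 3, 2, 4, 3, 2, 1, 5, 4, 3, 2, 3, 6, 1, 2, 3, 4, 6, 2, 1, 3, 2, 7, 4, 7],
   [3, 2, 1, 0, 3, 4, 3, 2, 3, 2, 1, 4, 3, 2, 1, 3, 2, 1, 0, 4, 3, 5, 4, 6, 4, 3, 2, 7, 1, 3, 6, 2, 1, 4, 3, 2, 7, 1]]

def tWords4 : List (List Nat) :=
  [[0, 1, 2, 5, 4, 3, 2, 1, 3, 2, 4, 3, 2, 1, 3, 2, 4, 3, 2, 1, 0, 3, 2, 3, 4, 3, 5, 6, 1, 0, 2, 1, 3, 2, 3, 4, 3, 2, 1, 3, 2, 7],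
   [2, 1, 3, 2, 1, 3, 2, 1, 0, 3, 4, 3, 2, 1, 3, 2, 1, 4, 3, 2, 1, 3, 5, 4, 3, 2, 3, 2, 4, 3, 6, 1, 7, 2, 1, 3, 2, 4, 3, 7, 4, 7, 3, 2, 1],
   [1, 0, 2, 1, 3, 2, 3, 5, 4, 3, 2, 1, 0, 3, 2, 1, 3, 2, 3, 4, 3, 2, 1, 5, 4, 3, 2, 3, 4, 5, 6, 1, 2, 3, 4, 3, 2, 3, 4, 7, 1, 7, 4],
   [0, 1, 2, 1, 0, 3, 4, 3, 2, 1, 3, 2, 3, 4, 3, 2, 1, 3, 2, 4, 3, 2, 5, 4, 3, 2, 1, 3, 2, 6, 4, 7, 3, 2, 1, 3, 2, 4, 3, 2, 1, 7],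
   [1, 3, 2, 1, 0, 3, 5, 4, 3, 2, 3, 2, 1, 0, 4, 3, 2, 1, 3, 2, 3, 4, 6, 1, 0, 2, 3, 2, 1, 7, 1, 4, 6, 3, 2, 1, 6],
   [0, 1, 3, 2, 4, 3, 2, 1, 3, 2, 4, 3, 2, 1, 3, 2, 3, 2, 4, 3, 2, 1, 0, 3, 2, 3, 4, 3, 6, 1, 0, 2, 4, 3, 2, 3, 6, 1, 4, 6, 2],
   [0, 1, 0, 3, 2, 1, 4, 3, 5, 4, 3, 2, 3, 2, 1, 0, 4, 3, 2, 1, 3, 2, 3, 4, 3, 2, 5, 4, 3, 6, 1, 2, 3, 2, 1, 4, 3, 2, 6, 1, 3, 6, 4],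
   [0, 1, 0, 5, 4, 3, 2, 1, 3, 2, 1, 4, 3, 2, 1, 3, 2, 4, 3, 2, 1, 5, 4, 3, 2, 1, 3, 2, 3, 6, 1, 0, 4, 3, 2, 1, 3, 2, 7, 1, 4, 7, 2, 4],
   [2, 1, 0, 3, 2, 1, 3, 2, 4, 3, 2, 5, 4, 3, 2, 1, 3, 2, 3, 4, 3, 2, 1, 3, 2, 3, 2, 4, 6, 1, 2, 3, 4, 3, 2, 1, 0, 3, 7, 1, 0],
   [3, 4, 5, 4, 3, 2, 1, 3, 2, 3, 4, 3, 2, 1, 3, 2, 3, 4, 3, 2, 1, 5, 4, 3, 2, 1, 3, 2, 3, 6, 1, 2, 6, 3, 2, 4, 3, 2, 7, 1, 2, 3],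
   [0, 2, 3, 2, 4, 3, 2, 1, 5, 4, 3, 2, 3, 2, 1, 4, 5, 6, 1, 4, 3, 2, 3, 4, 6, 1, 2, 4],
   [0, 1, 3, 2, 1, 3, 2, 5, 4, 3, 2, 1, 0, 3, 2, 3, 4, 3, 2, 1, 0, 3, 2, 1, 3, 4, 5, 6, 1, 2, 3, 2, 1, 0, 4, 6, 3, 2, 4, 3],
   [1, 0, 2, 1, 5, 4, 3, 2, 1, 3, 2, 1, 4, 3, 2, 1, 3, 2, 3, 4, 3, 2, 1, 5, 4, 6, 1, 0, 4, 3, 2, 3, 2, 1, 4, 3, 6, 1, 2, 4],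
   [1, 0, 2, 1, 0, 3, 2, 1, 0, 4, 3, 2, 1, 3, 2, 4, 3, 2, 1, 3, 2, 3, 4, 3, 2, 1, 3, 4, 5, 4, 6, 4, 3, 2, 3, 2, 1, 6, 2, 4, 7, 3, 2],
   [1, 0, 2, 3, 2, 1, 3, 2, 3, 4, 3, 2, 3, 2, 1, 4, 3, 2, 1, 3, 2, 4, 3, 2, 1, 0, 3, 6, 1, 0, 2, 3, 4, 3, 2, 6, 1, 0, 3, 2, 1, 3],
   [2, 1, 0, 3, 2, 1, 0, 3, 2, 1, 4, 3, 2, 1, 3, 5, 4, 3, 2, 3, 2, 1, 4, 3, 2, 5, 4, 3, 2, 6, 1, 0, 2, 1, 4, 3, 6, 2, 1, 6, 1, 3],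
   [2, 1, 0, 3, 2, 1, 0, 3, 2, 3, 4, 3, 2, 1, 0, 3, 2, 4, 3, 5, 4, 3, 2, 1, 0, 3, 2, 3, 4, 5, 6, 1, 0, 2, 1, 4, 3, 2, 3, 2, 4, 6, 3, 2, 4, 3],
   [2, 1, 3, 5, 4, 3, 2, 1, 3, 2, 1, 4, 3, 2, 1, 3, 2, 4, 3, 5, 4, 3, 2, 1, 0, 3, 2, 1, 3, 2, 6, 1, 2, 3, 2, 6, 1, 4, 7, 3, 2, 1, 7, 1],
   [2, 1, 4, 3, 2, 1, 3, 2, 1, 3, 4, 3, 2, 1, 3, 2, 1, 3, 4, 3, 2, 3, 6, 1, 2, 3, 2, 4, 3, 7, 1, 4, 3, 2, 1, 7],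
   [0, 1, 0, 2, 1, 4, 3, 2, 1, 0, 5, 4, 3, 2, 1, 3, 2, 4, 3, 2, 1, 3, 2, 4, 3, 2, 1, 0, 6, 1, 2, 3, 7, 2, 1, 4, 3, 2, 5, 4, 7, 1],
   [0, 1, 3, 2, 1, 5, 4, 3, 2, 1, 3, 2, 4, 3, 2, 1, 0, 5, 4, 3, 2, 1, 0, 3, 2, 1, 4, 3, 2, 6, 1, 4, 6, 3, 2, 3, 4, 3, 6, 1, 2],
   [0, 3, 2, 1, 0, 3, 2, 1, 3, 4, 3, 2, 1, 3, 2, 1, 3, 4, 3, 2, 1, 3, 2, 1, 4, 3, 2, 1, 3, 2, 4, 5, 6, 1, 2, 1, 4, 3, 2, 1, 3, 2, 4, 3, 2, 6],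
   [0, 1, 0, 3, 4, 3, 2, 1, 3, 2, 1, 3, 4, 3, 2, 1, 3, 2, 1, 0, 4, 3, 2, 3, 4, 5, 6, 1, 2, 4, 3, 2, 7, 1, 2, 4, 6, 3, 2, 6],
   [0, 3, 2, 1, 4, 3, 2, 1, 3, 2, 1, 4, 3, 2, 1, 0, 3, 5, 4, 3, 2, 3, 2, 1, 4, 3, 2, 3, 2, 1, 0, 4, 3, 6, 1, 2, 3, 7, 2, 1, 4, 6, 1, 3, 7, 4],
   [1, 3, 2, 3, 4, 3, 2, 1, 5, 4, 3, 2, 1, 0, 3, 2, 1, 4, 3, 2, 5, 4, 3, 6, 1, 0, 3, 2, 1, 3, 4, 3, 2, 1, 7, 1],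
   [0, 1, 0, 2, 1, 3, 2, 1, 3, 2, 4, 3, 2, 1, 3, 2, 3, 4, 3, 2, 1, 0, 3, 2, 5, 4, 3, 2, 1, 6, 4, 3, 2, 1, 3, 4, 6, 2, 3, 4, 3, 7, 2, 1],
   [0, 1, 3, 2, 1, 3, 4, 3, 2, 1, 3, 2, 1, 0, 4, 3, 2, 1, 5, 4, 3, 2, 1, 0, 3, 6, 1, 4, 3, 6, 2, 6, 1, 0, 4, 3, 2, 1, 6, 3],
   [0, 1, 0, 3, 2, 5, 4, 3, 2, 1, 3, 2, 3, 4, 3, 2, 1, 3, 2, 4, 3, 5, 4, 3, 2, 1, 0, 6, 4, 3, 2, 3, 4, 6, 1, 4, 6, 2, 6, 1],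
   [4, 3, 2, 1, 3, 2, 1, 4, 3, 2, 1, 3, 2, 4, 3, 5, 4, 3, 2, 1, 3, 2, 3, 2, 4, 3, 2, 3, 6, 1, 2, 3, 2, 1, 7, 4, 6, 3, 2, 1, 4],
   [0, 1, 0, 3, 2, 1, 0, 3, 2, 4, 3, 2, 1, 0, 3, 2, 1, 4, 3, 2, 3, 5, 4, 3, 2, 1, 0, 3, 2, 3, 6, 4, 3, 2, 1, 0, 3, 6, 2, 3, 4, 6, 3, 4],
   [0, 1, 2, 1, 0, 3, 2, 1, 0, 3, 2, 3, 4, 3, 2, 1, 0, 3, 2, 4, 5, 4, 3, 2, 6, 1, 2, 3, 2, 1, 4, 7, 4, 3, 2, 3, 2, 4, 6],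
   [3, 2, 1, 0, 3, 2, 1, 4, 3, 2, 1, 3, 2, 1, 4, 3, 2, 1, 3, 2, 3, 4, 3, 2, 6, 1, 0, 4, 6, 2, 1, 3, 2, 4, 3, 6, 4, 6],
   [0, 1, 0, 2, 1, 3, 2, 3, 5, 4, 3, 2, 1, 0, 3, 2, 3, 4, 3, 2, 1, 3, 2, 3, 4, 5, 4, 3, 6, 1, 2, 3, 4, 3, 2, 1, 6, 3, 6],
   [1, 2, 1, 0, 3, 2, 1, 4, 3, 5, 4, 3, 2, 1, 0, 3, 4, 5, 6, 4, 3, 2, 1, 3, 2, 3, 2, 1, 4, 6],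
   [1, 0, 2, 1, 4, 3, 2, 1, 0, 3, 2, 5, 4, 3, 2, 1, 0, 3, 2, 1, 4, 3, 2, 1, 3, 2, 4, 3, 2, 1, 5, 4, 3, 6, 2, 4, 3, 2, 1, 6, 3, 2, 1, 4, 7, 3, 2],
   [3, 2, 1, 0, 3, 4, 3, 2, 1, 0, 3, 2, 1, 3, 4, 3, 2, 5, 4, 3, 2, 6, 1, 2, 3, 4, 3, 2, 6, 1, 7],
   [0, 1, 3, 5, 4, 3, 2, 1, 3, 2, 1, 4, 3, 2, 1, 0, 3, 5, 4, 3, 2, 3, 2, 4, 3, 5, 6, 4, 3, 2, 1, 3, 2, 1, 0, 4, 3, 6, 1, 0, 4],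
   [0, 2, 3, 2, 3, 4, 3, 2, 1, 0, 3, 2, 1, 3, 4, 3, 2, 3, 5, 4, 3, 2, 1, 3, 2, 3, 2, 1, 4, 6, 4, 3, 2, 1, 0, 3, 4, 6, 2, 1, 0, 3, 2, 3],
   [0, 3, 2, 4, 3, 2, 5, 4, 3, 2, 1, 3, 2, 3, 2, 1, 0, 4, 3, 2, 1, 3, 2, 4, 3, 2, 6, 1, 4, 3, 2, 1, 5, 4, 3, 2, 1, 3, 7, 1, 4],
   [0, 1, 0, 3, 2, 4, 3, 2, 1, 3, 2, 3, 2, 4, 3, 2, 1, 3, 2, 3, 4, 3, 2, 3, 5, 6, 4, 3, 2, 1, 7, 2, 3, 2, 1, 4, 7, 2]]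

def tWords5 : List (List Nat) :=
  [[3, 5, 4, 3, 2, 1, 3, 2, 1, 0, 4, 3, 2, 1, 5, 4, 3, 2, 1, 0, 3, 6, 1, 4, 6, 2, 3, 6, 1, 4, 6, 2, 3, 2],
   [3, 2, 3, 5, 4, 3, 2, 1, 0, 3, 2, 1, 3, 2, 3, 4, 3, 2, 1, 0, 3, 2, 1, 4, 3, 2, 5, 6, 1, 2, 4, 3, 2, 6, 1, 0, 3, 4, 3, 2, 3, 4],
   [0, 2, 3, 2, 1, 0, 4, 3, 2, 1, 3, 2, 4, 3, 2, 1, 3, 2, 4, 3, 2, 1, 0, 3, 2, 3, 6, 1, 2, 7, 3, 2, 4, 7, 3, 4, 7, 1],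
   [3, 2, 1, 3, 2, 3, 2, 1, 4, 3, 2, 1, 3, 2, 5, 4, 3, 2, 1, 0, 3, 2, 3, 4, 6, 4, 3, 2, 1, 0, 3, 7, 4, 3, 2, 1, 3],
   [3, 5, 4, 3, 2, 1, 3, 2, 4, 3, 2, 5, 4, 3, 2, 1, 3, 2, 3, 2, 1, 0, 4, 3, 2, 1, 0, 3, 2, 3, 4, 6, 1, 2, 3, 2, 4, 3, 2, 1, 6, 1, 0, 2],
   [0, 1, 0, 2, 3, 2, 1, 0, 3, 2, 4, 3, 2, 1, 3, 2, 3, 2, 4, 3, 2, 1, 3, 2, 3, 4, 3, 2, 3, 5, 6, 1, 2, 3, 4, 6, 2, 3, 7, 1, 2, 7, 1, 0, 4, 3],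
   [2, 1, 0, 3, 4, 3, 2, 1, 0, 3, 2, 3, 4, 3, 2, 1, 3, 2, 1, 3, 2, 4, 3, 6, 1, 2, 3, 2, 4, 3, 2, 1, 3, 2, 4, 7, 1, 4],
   [0, 4, 3, 2, 1, 0, 3, 2, 1, 3, 4, 3, 2, 1, 3, 2, 1, 0, 3, 4, 3, 2, 1, 0, 3, 2, 1, 4, 6, 1, 2, 3, 4, 6, 2, 3, 6, 1, 2, 4, 7, 4],
   [0, 2, 3, 4, 3, 2, 1, 3, 2, 1, 0, 3, 4, 3, 2, 1, 3, 2, 4, 3, 5, 4, 3, 2, 1, 0, 3, 2, 1, 3, 4, 5, 6, 4, 3, 2, 1, 6, 3, 2, 1, 4, 6, 2, 3, 6, 2],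
   [3, 2, 1, 4, 3, 2, 1, 0, 3, 5, 4, 3, 2, 1, 0, 3, 2, 1, 3, 4, 3, 2, 1, 3, 6, 1, 0, 4, 3, 2, 1, 5, 4, 3, 2, 1, 3, 4],
   [1, 0, 2, 3, 2, 1, 3, 2, 3, 4, 3, 2, 1, 5, 4, 3, 2, 1, 0, 3, 2, 1, 4, 3, 2, 5, 4, 3, 6, 1, 4, 3, 2, 3, 4, 6, 2, 1, 3, 2, 6, 3, 4],
   [1, 0, 3, 2, 1, 3, 4, 3, 2, 1, 5, 4, 3, 2, 3, 6, 2, 4, 3, 2, 1, 3, 7, 2, 4, 7, 1, 3, 4, 6],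
   [1, 2, 1, 3, 2, 3, 2, 1, 4, 3, 2, 1, 0, 3, 2, 1, 4, 3, 2, 1, 3, 2, 1, 4, 3, 5, 6, 1, 2, 4, 3, 2, 3, 7, 4, 6, 3, 6, 1],
   [2, 1, 0, 4, 3, 2, 1, 5, 4, 3, 2, 1, 3, 2, 4, 3, 2, 1, 0, 3, 2, 3, 6, 1, 2, 3, 2, 1, 4, 3, 6, 1, 4, 3],
   [2, 1, 3, 2, 5, 4, 3, 2, 1, 3, 2, 3, 4, 3, 2, 1, 0, 3, 5, 4, 3, 2, 1, 3, 2, 1, 3, 4, 6, 1, 4, 6, 3, 6, 2, 1, 3, 2, 4, 7, 3],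
   [2, 3, 4, 3, 2, 1, 3, 2, 3, 2, 1, 4, 3, 2, 1, 0, 3, 5, 4, 3, 2, 1, 0, 6, 1, 2, 3, 2, 4, 3, 2, 1, 0, 6, 1, 4, 6],
   [1, 2, 1, 4, 3, 2, 1, 3, 2, 1, 4, 3, 2, 1, 0, 5, 4, 3, 2, 3, 4, 6, 4, 3, 2, 1, 3, 2, 6, 1, 4, 6, 3, 7],
   [1, 2, 1, 4, 3, 2, 3, 5, 4, 3, 2, 1, 0, 3, 2, 1, 3, 4, 3, 2, 1, 0, 3, 2, 3, 4, 6, 1, 2, 3, 2, 7, 1, 4, 7, 3, 2, 4, 7, 1],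
   [0, 1, 0, 3, 2, 3, 4, 3, 2, 1, 3, 2, 5, 4, 3, 2, 1, 3, 2, 4, 3, 2, 5, 4, 3, 2, 1, 0, 3, 6, 1, 2, 4, 3, 5, 4, 6, 2, 3, 7, 1, 2, 4],
   [0, 2, 1, 4, 3, 2, 1, 3, 2, 4, 3, 5, 4, 3, 2, 1, 3, 2, 3, 2, 1, 0, 4, 3, 2, 1, 3, 2, 3, 6, 1, 0, 3, 4, 3, 2, 1, 7, 4, 3, 2, 6, 1, 3, 2],
   [2, 3, 2, 4, 3, 2, 1, 3, 2, 4, 3, 2, 1, 3, 2, 3, 4, 3, 2, 1, 3, 2, 3, 4, 5, 4, 3, 2, 6, 4, 3, 2, 1, 3, 2, 5, 4, 6, 3, 4, 7],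
   [0, 1, 0, 5, 4, 3, 2, 1, 3, 2, 1, 4, 3, 2, 1, 3, 2, 1, 4, 3, 2, 1, 5, 4, 3, 2, 1, 0, 3, 6, 1, 2, 4, 3, 2, 1, 3, 4, 7, 2, 3, 4, 7, 1],
   [1, 2, 3, 2, 1, 5, 4, 3, 2, 1, 3, 2, 4, 3, 2, 6, 1, 0, 4, 3, 2, 1, 3, 6, 2, 4, 7, 3, 2],
   [0, 3, 2, 1, 4, 3, 2, 5, 4, 3, 2, 1, 0, 3, 2, 1, 3, 4, 3, 2, 3, 2, 4, 5, 6, 1, 0, 2, 3, 2, 4, 3, 2, 7, 1, 4, 3, 7],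
   [0, 2, 3, 2, 3, 4, 3, 2, 1, 3, 2, 3, 2, 1, 4, 3, 2, 1, 3, 2, 1, 0, 3, 4, 3, 5, 4, 6, 1, 2, 1, 3, 2, 1, 7, 4, 3, 7, 2, 1, 3, 4],
   [3, 2, 3, 2, 1, 4, 3, 2, 1, 3, 2, 1, 3, 4, 3, 2, 1, 3, 2, 3, 4, 3, 2, 1, 3, 4, 6, 1, 2, 4, 3, 7, 2, 1, 7, 4, 3, 2, 1, 7],
   [1, 0, 3, 4, 3, 2, 1, 3, 2, 5, 4, 3, 2, 1, 3, 2, 3, 4, 3, 2, 1, 3, 5, 4, 3, 2, 3, 4, 6, 4, 3, 2, 7, 1, 3, 2, 3, 2, 1, 0],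
   [1, 0, 5, 4, 3, 2, 1, 3, 2, 1, 4, 3, 2, 1, 5, 4, 3, 2, 1, 0, 3, 6, 1, 2, 3, 2, 7, 1, 4, 6, 3, 2, 1],
   [3, 5, 4, 3, 2, 1, 3, 2, 1, 3, 2, 1, 4, 3, 2, 1, 5, 6, 4, 3, 6, 2, 1, 3, 2, 3, 6],
   [1, 0, 4, 3, 2, 1, 0, 3, 2, 5, 4, 3, 2, 1, 0, 3, 2, 3, 4, 3, 2, 3, 5, 6, 1, 4, 3, 2, 3, 7, 1, 2, 7],
   [2, 1, 3, 4, 3, 2, 1, 0, 3, 2, 1, 5, 4, 3, 2, 1, 3, 2, 4, 3, 2, 1, 3, 2, 4, 5, 6, 1, 4, 3, 2, 1, 0, 3, 2, 6, 4, 3, 2, 3, 4],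
   [0, 5, 4, 3, 2, 1, 3, 2, 1, 3, 4, 3, 2, 1, 0, 3, 2, 1, 3, 4, 3, 2, 1, 3, 4, 5, 6, 1, 3, 2, 3, 4, 7, 2, 3, 2, 4],
   [0, 1, 2, 1, 0, 3, 2, 1, 4, 3, 2, 1, 3, 2, 3, 4, 3, 2, 1, 0, 3, 2, 3, 4, 3, 2, 1, 3, 2, 3, 4, 6, 4, 3, 2, 7, 1, 3, 2, 4, 3, 2, 1, 5, 4],
   [0, 1, 2, 1, 3, 2, 4, 3, 2, 1, 3, 2, 4, 3, 2, 1, 0, 3, 2, 1, 4, 3, 2, 1, 0, 3, 4, 5, 6, 1, 0, 2, 4, 3, 6, 2, 1, 3, 4, 3, 2, 3, 7],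
   [2, 1, 3, 2, 1, 3, 4, 5, 4, 3, 2, 1, 0, 3, 2, 1, 4, 3, 2, 1, 3, 2, 4, 3, 2, 1, 3, 4, 5, 6, 1, 2, 3, 2, 6, 4, 3, 2, 6, 1, 0, 4, 6],
   [0, 1, 0, 5, 4, 3, 2, 3, 2, 1, 4, 3, 2, 3, 2, 1, 4, 3, 2, 1, 0, 3, 2, 5, 4, 3, 2, 3, 6, 1, 2, 1, 3, 2, 1, 7, 1, 4, 6, 3, 4, 3],
   [0, 1, 0, 3, 2, 3, 2, 1, 4, 3, 2, 1, 3, 2, 4, 3, 2, 1, 0, 3, 2, 3, 4, 3, 2, 1, 5, 6, 1, 0, 2, 1, 4, 3, 6, 2, 3],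
   [0, 2, 1, 3, 2, 1, 3, 2, 1, 3, 2, 4, 3, 2, 1, 3, 2, 4, 3, 2, 5, 4, 3, 2, 1, 0, 3, 2, 6, 1, 2, 3, 2, 1, 4, 6, 3, 2, 1, 7, 2, 3, 2],
   [0, 1, 2, 5, 4, 3, 2, 1, 3, 2, 4, 3, 2, 1, 0, 5, 4, 3, 2, 1, 3, 2, 3, 2, 4, 3, 2, 1, 0, 3, 2, 4, 5, 6, 1, 2, 3, 4, 3, 2, 1, 3, 2, 3, 7, 4],
   [1, 0, 2, 1, 3, 2, 1, 3, 2, 3, 4, 3, 2, 1, 5, 4, 3, 2, 1, 3, 2, 4, 3, 2, 1, 0, 6, 1, 0, 2, 3, 2, 1, 4, 3, 6, 1, 4]]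

def tWords6 : List (List Nat) :=
  [[1, 3, 4, 3, 2, 1, 3, 5, 4, 3, 2, 1, 3, 2, 1, 4, 3, 2, 1, 3, 2, 4, 5, 6, 1, 0, 2, 1, 3, 6, 4, 3, 2, 3, 6, 4, 6],
   [0, 1, 0, 2, 1, 3, 2, 1, 0, 3, 4, 3, 2, 1, 3, 2, 1, 3, 4, 3, 2, 1, 3, 2, 1, 3, 4, 3, 2, 1, 0, 3, 2, 6, 1, 2, 3, 4, 3, 7, 2, 1, 3, 4, 7, 3, 2],
   [0, 1, 0, 2, 3, 4, 3, 2, 1, 3, 2, 3, 2, 4, 3, 2, 1, 0, 5, 4, 3, 2, 1, 3, 6, 1, 0, 2, 3, 2, 1, 0, 4, 7, 3, 2, 1, 3, 4],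
   [0, 1, 0, 3, 2, 1, 3, 2, 1, 4, 3, 2, 1, 0, 5, 4, 3, 2, 1, 0, 3, 2, 6, 1, 6, 2, 1, 3, 4, 7, 2, 3, 2, 4, 3],
   [0, 1, 4, 3, 2, 1, 3, 2, 1, 3, 4, 3, 2, 3, 2, 1, 4, 3, 2, 3, 2, 1, 0, 4, 3, 2, 1, 3, 2, 6, 1, 0, 2, 3, 2, 1, 0, 4, 3, 7, 2, 4, 6],
   [0, 3, 2, 1, 3, 4, 3, 2, 1, 0, 3, 2, 5, 4, 3, 2, 1, 3, 2, 3, 2, 4, 3, 2, 1, 0, 5, 6, 1, 0, 2, 4, 3, 2, 1, 0, 6, 4, 3, 2, 5, 4],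
   [0, 2, 1, 0, 3, 2, 1, 3, 2, 3, 4, 3, 2, 1, 3, 2, 1, 4, 3, 2, 1, 3, 2, 1, 3, 6, 1, 2, 3, 2, 4, 7, 1, 2, 3, 2],
   [0, 3, 4, 3, 2, 3, 2, 1, 0, 4, 3, 2, 1, 3, 2, 3, 4, 3, 2, 1, 3, 2, 5, 4, 3, 2, 1, 0, 3, 4, 5, 6, 1, 4, 3, 2, 1, 3, 2, 4, 3, 2],
   [3, 4, 3, 2, 1, 3, 2, 1, 3, 4, 3, 2, 1, 3, 2, 1, 3, 4, 3, 2, 1, 0, 3, 2, 1, 5, 4, 6, 1, 2, 1, 3, 2, 4, 3, 2, 3, 4, 5],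
   [4, 3, 2, 1, 0, 3, 2, 1, 3, 2, 3, 4, 3, 2, 1, 3, 2, 4, 3, 2, 1, 0, 3, 2, 3, 4, 6, 3, 4, 3, 2, 1, 3, 2, 1, 4, 7, 1, 4],
   [1, 0, 3, 2, 3, 4, 3, 2, 1, 3, 2, 4, 3, 5, 4, 3, 2, 1, 0, 3, 2, 1, 3, 2, 6, 4, 3, 2, 3, 2, 1, 4, 3, 2, 3, 5],
   [0, 1, 0, 2, 3, 4, 5, 4, 3, 2, 1, 3, 2, 3, 4, 3, 2, 1, 3, 2, 3, 4, 3, 2, 1, 3, 2, 3, 4, 6, 1, 2, 1, 0, 4, 3, 2, 1, 3, 6, 1, 4],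
   [4, 3, 2, 1, 3, 2, 3, 4, 3, 2, 1, 3, 2, 3, 4, 3, 2, 1, 3, 2, 3, 4, 3, 2, 1, 3, 2, 3, 2, 4, 5, 6, 4, 3, 2, 1, 3, 2, 1, 4, 7, 1, 3, 2, 1],
   [0, 1, 5, 4, 3, 2, 1, 3, 2, 1, 4, 3, 2, 1, 3, 2, 4, 3, 2, 1, 3, 2, 3, 4, 3, 5, 4, 6, 1, 4, 3, 2, 7, 1, 3, 4, 7, 4, 3],
   [0, 2, 1, 0, 3, 4, 3, 2, 3, 5, 4, 3, 2, 1, 3, 2, 3, 2, 1, 4, 3, 2, 1, 0, 3, 2, 4, 5, 6, 1, 2, 3, 4, 3, 2, 6, 1, 0, 3, 4, 6, 2, 6],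
   [2, 1, 4, 3, 2, 1, 3, 2, 1, 0, 4, 3, 2, 1, 5, 4, 3, 2, 1, 3, 2, 1, 0, 4, 3, 2, 1, 0, 6, 1, 4, 3, 2, 1, 0, 3, 6, 2, 4, 3, 5],
   [2, 1, 3, 2, 1, 0, 3, 2, 1, 4, 3, 2, 1, 3, 2, 3, 4, 3, 2, 1, 0, 5, 4, 3, 2, 6, 1, 0, 2, 1, 6, 3, 2, 4, 3, 2, 1, 0],
   [1, 0, 2, 1, 3, 2, 5, 4, 3, 2, 1, 3, 2, 4, 3, 2, 1, 0, 3, 2, 3, 4, 3, 2, 1, 3, 2, 1, 6, 1, 6, 2, 3, 2, 4, 3, 5, 4, 6, 1, 3],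
   [1, 3, 2, 1, 3, 2, 3, 2, 1, 4, 3, 2, 1, 3, 5, 4, 3, 2, 1, 0, 3, 2, 1, 4, 3, 2, 3, 2, 4, 3, 2, 6, 1, 0, 2, 3, 2, 4, 7, 1, 3, 6, 4, 6],
   [0, 1, 4, 3, 2, 1, 3, 2, 3, 4, 3, 2, 1, 3, 2, 1, 4, 3, 2, 1, 0, 5, 4, 3, 2, 1, 0, 3, 2, 3, 4, 6, 1, 2, 7, 3, 2, 4, 6, 1, 3, 4, 7, 2, 1],
   [0, 2, 1, 0, 3, 2, 1, 4, 3, 2, 1, 3, 2, 5, 4, 3, 2, 1, 3, 2, 4, 3, 2, 1, 0, 5, 4, 3, 2, 1, 6, 2, 1, 4, 3, 2, 1, 3, 6, 4, 3, 2, 3, 2],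
   [2, 1, 3, 2, 4, 3, 2, 1, 5, 4, 3, 2, 1, 3, 2, 1, 3, 2, 4, 3, 2, 1, 3, 2, 4, 3, 2, 5, 6, 1, 4, 7, 2, 3, 4, 7, 2, 1, 0, 3],
   [0, 1, 4, 5, 4, 3, 2, 1, 3, 2, 3, 4, 3, 2, 1, 3, 2, 3, 4, 3, 2, 1, 3, 2, 1, 4, 3, 2, 6, 1, 4, 3, 6, 2, 1, 3, 6, 2, 1, 0, 4],
   [0, 1, 2, 1, 3, 2, 1, 0, 3, 4, 3, 2, 1, 3, 2, 3, 5, 4, 3, 2, 1, 3, 2, 4, 3, 2, 5, 6, 2, 4, 3, 2, 1, 3, 4, 6, 2, 1, 3, 4, 7],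
   [1, 3, 2, 1, 4, 3, 2, 1, 0, 3, 2, 1, 0, 4, 3, 2, 1, 3, 2, 4, 3, 2, 1, 3, 2, 3, 2, 6, 1, 2, 3, 6, 2, 1, 4, 6, 3, 6, 2, 1],
   [0, 1, 0, 4, 3, 2, 1, 0, 3, 5, 4, 3, 2, 3, 2, 1, 4, 3, 2, 3, 2, 1, 0, 4, 3, 2, 1, 3, 4, 6, 1, 2, 3, 2, 3, 4, 3, 7, 1, 2, 1, 4, 3],
   [1, 4, 3, 2, 1, 0, 5, 4, 3, 2, 1, 3, 2, 4, 3, 2, 1, 0, 3, 2, 1, 3, 4, 3, 2, 3, 2, 1, 0, 6, 1, 3, 2, 3, 2, 4, 6, 1, 3, 2, 1, 0],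
   [0, 1, 2, 4, 3, 2, 1, 3, 2, 3, 2, 4, 3, 2, 1, 3, 2, 3, 2, 1, 4, 3, 2, 1, 0, 3, 6, 1, 4, 3, 2, 5, 4, 3, 6, 2, 1, 6, 2, 3, 7],
   [1, 2, 3, 2, 1, 0, 3, 2, 1, 4, 3, 2, 1, 0, 3, 4, 5, 4, 3, 2, 1, 3, 2, 4, 3, 2, 1, 3, 2, 3, 4, 3, 2, 6, 1, 4, 6, 2, 6, 1, 3, 2, 4, 7, 3, 2, 1],
   [0, 2, 3, 2, 1, 3, 4, 3, 2, 1, 5, 4, 3, 2, 1, 0, 3, 2, 6, 2, 1, 7],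
   [1, 0, 2, 1, 0, 3, 2, 1, 3, 4, 3, 2, 1, 0, 3, 2, 1, 3, 4, 6, 2, 4, 3, 2, 1, 3, 4, 7, 3, 2, 1, 6, 3],
   [4, 3, 2, 1, 3, 2, 4, 3, 2, 5, 4, 3, 2, 1, 0, 3, 2, 1, 3, 2, 3, 4, 3, 2, 1, 3, 2, 3, 4, 3, 2, 5, 4, 3, 2, 1, 6, 4, 3, 2, 6, 1, 0, 3, 2, 1, 4, 3, 2, 3, 6],
   [0, 2, 1, 3, 2, 1, 0, 3, 5, 4, 3, 2, 1, 3, 2, 1, 0, 4, 3, 2, 1, 0, 5, 4, 3, 2, 3, 6, 1, 4, 3, 2, 3, 7, 1, 2, 4, 6, 1, 6],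
   [0, 1, 3, 2, 3, 5, 4, 3, 2, 1, 0, 3, 2, 1, 3, 2, 3, 4, 3, 2, 1, 3, 2, 1, 0, 4, 3, 2, 1, 0, 5, 4, 6, 4, 3, 2, 1, 7, 3, 4],
   [1, 0, 2, 3, 2, 1, 0, 3, 2, 3, 4, 3, 2, 1, 3, 2, 1, 4, 3, 2, 1, 3, 2, 3, 4, 3, 5, 4, 6, 1, 2, 3, 2, 1, 3, 4, 3, 2, 6, 3, 4, 3, 7],
   [2, 1, 3, 2, 4, 3, 5, 4, 3, 2, 1, 0, 3, 2, 1, 3, 2, 3, 4, 3, 2, 1, 0, 3, 2, 4, 3, 6, 1, 2, 3, 4, 3, 2, 1, 3, 2, 4, 7, 2, 4],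
   [1, 3, 2, 5, 4, 3, 2, 1, 3, 2, 4, 3, 2, 1, 0, 3, 2, 1, 3, 4, 3, 2, 3, 2, 1, 4, 3, 6, 4, 3, 2, 1, 0, 3, 2, 6, 4, 3],
   [0, 2, 3, 2, 1, 0, 3, 2, 1, 3, 4, 3, 2, 1, 3, 2, 1, 0, 4, 3, 2, 1, 5, 4, 3, 6, 1, 0, 2, 1, 4, 3, 2, 5, 4, 6, 3, 7, 2, 4],
   [1, 3, 2, 5, 4, 3, 2, 1, 3, 2, 3, 2, 1, 4, 3, 2, 1, 5, 4, 3, 2, 1, 0, 3, 2, 4, 3, 6, 1, 2, 3, 4, 7, 4, 3, 2, 1, 3, 2],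
   [0, 2, 3, 2, 1, 4, 3, 2, 1, 0, 3, 2, 1, 0, 4, 6, 1, 2, 1, 4, 3, 2, 3, 5, 4, 3, 2, 1, 3]]

def tWords7 : List (List Nat) :=
  [[0, 3, 2, 3, 4, 3, 2, 3, 2, 1, 4, 3, 2, 3, 4, 5, 6, 4, 7, 3, 2, 4, 3, 2, 1, 6, 1],
   [0, 3, 5, 4, 3, 2, 1, 3, 2, 1, 0, 4, 3, 2, 1, 5, 4, 3, 2, 1, 3, 2, 4, 3, 2, 1, 0, 5, 4, 6, 1, 0, 2, 4, 3, 2, 6, 1, 4, 3, 2, 3, 4, 6],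
   [0, 3, 2, 3, 4, 3, 2, 1, 3, 2, 3, 4, 3, 2, 1, 3, 5, 4, 3, 2, 3, 2, 1, 0, 4, 3, 2, 1, 3, 2, 3, 4, 6, 1, 0, 4, 3, 2, 1, 3, 2, 4, 3, 7, 2, 1, 4, 6],
   [1, 0, 2, 1, 5, 4, 3, 2, 1, 3, 2, 1, 4, 3, 2, 1, 3, 2, 3, 4, 3, 2, 3, 6, 1, 2, 1, 3, 2, 4, 3, 2],
   [0, 3, 4, 3, 2, 1, 0, 3, 2, 1, 0, 3, 4, 3, 2, 1, 3, 2, 3, 2, 4, 3, 2, 1, 3, 2, 6, 4, 3, 6, 2, 1, 3, 2, 7, 3, 4, 3],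
   [1, 2, 1, 3, 2, 1, 4, 3, 2, 1, 0, 3, 2, 5, 4, 3, 2, 1, 3, 2, 4, 3, 2, 1, 3, 2, 3, 4, 6, 1, 2, 3, 6, 1, 2],
   [0, 1, 2, 3, 2, 1, 0, 5, 4, 3, 2, 1, 3, 2, 4, 3, 2, 1, 3, 2, 3, 4, 5, 6, 1, 2, 3, 2, 1, 3, 4, 3, 7, 2, 1, 4, 3],
   [0, 1, 2, 1, 3, 5, 4, 3, 2, 1, 3, 2, 1, 3, 2, 4, 3, 2, 1, 3, 2, 4, 3, 2, 1, 5, 4, 3, 2, 1, 3, 4, 5, 6, 1, 0, 2, 3, 2, 4, 6, 3, 6, 2, 1, 4, 5],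
   [1, 0, 3, 2, 3, 2, 1, 4, 3, 2, 1, 3, 2, 1, 4, 3, 2, 3, 4, 5, 4, 3, 6, 1, 4, 3, 2, 1, 5, 4, 3, 2, 3, 7, 4, 7, 3],
   [1, 0, 2, 1, 0, 3, 2, 1, 4, 3, 2, 1, 0, 3, 5, 4, 3, 2, 1, 3, 2, 1, 0, 4, 3, 2, 1, 0, 6, 1, 2, 3, 4, 7, 2, 1, 3, 4, 3, 2, 3, 4],
   [2, 3, 2, 3, 4, 3, 2, 1, 0, 3, 2, 1, 0, 4, 3, 2, 5, 4, 3, 2, 1, 6, 1, 2, 3, 4, 6, 2, 3, 7, 1, 2, 3, 7, 1, 0],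
   [0, 3, 2, 1, 5, 4, 3, 2, 3, 2, 1, 4, 3, 2, 3, 2, 1, 4, 3, 2, 3, 2, 4, 3, 5, 6, 1, 0, 2, 3, 4, 3, 7, 1],
   [0, 1, 0, 3, 2, 1, 3, 2, 5, 4, 3, 2, 1, 3, 2, 4, 3, 2, 1, 0, 3, 2, 1, 4, 3, 5, 4, 6, 1, 2, 3, 2, 6, 4, 3, 7, 2, 1, 4, 7, 1, 2, 3],
   [1, 0, 2, 1, 0, 3, 2, 1, 5, 4, 3, 2, 3, 2, 1, 4, 3, 2, 1, 0, 3, 2, 1, 4, 5, 4, 6, 1, 0, 2, 3, 2, 4, 7, 3, 2, 1, 7, 2, 1, 4, 5],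
   [5, 4, 3, 2, 1, 3, 2, 1, 3, 4, 3, 2, 1, 3, 2, 3, 5, 4, 3, 2, 1, 0, 3, 2, 1, 3, 4, 3, 2, 3, 2, 6, 1, 2, 3, 7, 2, 4, 3, 7, 1, 2, 4, 6, 4],
   [0, 3, 2, 1, 0, 3, 2, 1, 4, 3, 2, 1, 5, 4, 3, 2, 1, 3, 2, 4, 3, 2, 1, 5, 4, 3, 2, 6, 1, 0, 3, 2, 3, 4, 6, 2, 3, 2, 1, 7, 2],
   [3, 2, 1, 3, 4, 3, 2, 1, 3, 2, 1, 0, 3, 4, 3, 2, 1, 3, 2, 1, 0, 3, 4, 3, 5, 6, 4, 3, 2, 1, 7, 3, 4, 7, 2, 1, 4, 6, 2, 6],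
   [1, 0, 3, 2, 1, 3, 2, 1, 0, 3, 4, 3, 2, 1, 3, 2, 3, 2, 4, 3, 2, 1, 0, 3, 2, 6, 1, 0, 2, 3, 4, 7, 2, 1, 3, 4, 6, 2, 1],
   [0, 2, 3, 2, 1, 4, 3, 2, 1, 3, 2, 3, 4, 6, 1, 2, 4, 6, 3, 2, 6, 1, 4, 7, 4],
   [2, 1, 3, 4, 3, 2, 3, 2, 1, 0, 4, 3, 2, 1, 3, 2, 3, 4, 3, 2, 1, 0, 3, 5, 4, 3, 2, 6, 1, 2, 3, 4, 3, 7, 2, 1, 3, 2, 4, 3],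
   [0, 1, 3, 2, 1, 3, 2, 4, 3, 2, 1, 3, 2, 4, 3, 2, 1, 3, 2, 3, 2, 4, 3, 2, 1, 3, 4, 5, 6, 1, 0, 2, 1, 4, 3, 2, 6, 1, 4, 3, 2, 7],
   [1, 2, 3, 2, 4, 3, 2, 1, 5, 4, 3, 2, 1, 3, 2, 1, 4, 5, 6, 1, 0, 4, 3, 2, 3, 7, 4, 3, 2, 1, 6, 1, 4],
   [1, 0, 3, 2, 1, 3, 2, 1, 3, 2, 4, 3, 2, 1, 3, 2, 3, 4, 5, 6, 1, 2, 3, 2, 4, 6, 1, 2, 3, 2, 1, 6, 2, 4],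
   [0, 1, 2, 3, 5, 4, 3, 2, 1, 3, 2, 1, 3, 2, 1, 4, 3, 2, 1, 0, 3, 2, 4, 3, 2, 1, 0, 6, 1, 2, 4, 3, 2, 1, 3, 2, 3, 4, 7, 3, 2, 4, 7],
   [0, 2, 3, 2, 3, 4, 3, 2, 1, 3, 2, 1, 3, 4, 3, 2, 1, 3, 2, 3, 2, 4, 3, 2, 1, 0, 3, 2, 1, 3, 2, 3, 6, 1, 2, 1, 3, 2, 1, 4, 6, 3, 2, 6, 1, 6],
   [0, 1, 3, 2, 3, 4, 3, 2, 1, 3, 2, 3, 2, 4, 3, 2, 1, 0, 5, 4, 3, 6, 1, 4, 3, 2, 3, 7, 1, 6, 2, 1],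
   [0, 1, 2, 1, 0, 3, 2, 1, 0, 5, 4, 3, 2, 1, 3, 2, 4, 3, 2, 5, 4, 3, 2, 6, 3, 4, 3, 2, 1, 3, 2, 4, 6, 3, 4],
   [1, 3, 2, 1, 3, 2, 5, 4, 3, 2, 1, 3, 2, 3, 4, 3, 2, 1, 5, 4, 3, 2, 3, 4, 6, 1, 2, 4, 3, 2, 5, 4, 3, 6, 4],
   [0, 1, 2, 1, 3, 2, 1, 0, 3, 5, 4, 3, 2, 1, 0, 3, 2, 1, 4, 3, 2, 3, 2, 1, 4, 5, 6, 1, 2, 3, 2, 1, 4, 6, 3, 7, 2, 4, 7, 1, 0],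
   [3, 2, 1, 0, 4, 3, 2, 1, 5, 4, 3, 2, 1, 3, 2, 4, 3, 2, 6, 1, 2, 3, 2, 1, 0, 3, 4, 7, 3, 2],
   [0, 1, 2, 1, 3, 2, 1, 3, 4, 3, 2, 3, 2, 1, 4, 3, 2, 1, 3, 2, 1, 4, 3, 2, 5, 6, 1, 2, 7, 3, 4, 6, 2, 1, 3, 4, 7],
   [0, 1, 2, 1, 3, 2, 3, 4, 3, 2, 1, 3, 5, 4, 3, 2, 3, 2, 1, 4, 3, 2, 3, 2, 1, 4, 3, 5, 6, 1, 0, 4, 3, 2, 1, 7, 3, 2, 1, 4, 3, 7, 4, 6],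
   [1, 3, 2, 1, 3, 2, 3, 2, 4, 3, 2, 1, 3, 2, 3, 4, 3, 2, 3, 2, 6, 1, 6, 2, 3, 2, 1, 0, 4, 3, 2, 1, 3, 2],
   [1, 2, 3, 2, 1, 3, 4, 3, 2, 1, 3, 2, 1, 3, 2, 4, 3, 2, 1, 3, 2, 4, 3, 2, 1, 5, 4, 3, 6, 1, 2, 3, 2, 4, 3, 2, 6, 1, 0, 2, 4, 7, 1, 7],
   [1, 0, 3, 4, 3, 2, 1, 3, 2, 3, 4, 3, 2, 1, 3, 2, 3, 5, 4, 3, 2, 1, 0, 3, 2, 3, 6, 4, 7, 3, 2, 1, 3, 2, 4, 7, 1, 3, 6, 4],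
   [0, 2, 3, 2, 1, 0, 3, 2, 3, 4, 3, 2, 1, 3, 2, 1, 4, 3, 2, 1, 3, 4, 5, 4, 6, 1, 0, 2, 1, 4, 3, 2, 1, 0, 3, 7, 4],
   [1, 0, 2, 1, 3, 2, 4, 3, 2, 1, 0, 3, 2, 3, 4, 3, 2, 1, 3, 2, 3, 2, 1, 0, 4, 3, 2, 6, 1, 2, 3, 7, 2, 1, 4, 6, 3, 2, 3, 4, 5],
   [1, 0, 3, 4, 5, 4, 3, 2, 1, 3, 2, 4, 3, 2, 1, 3, 2, 4, 3, 2, 1, 3, 2, 3, 4, 3, 2, 5, 4, 6, 1, 2, 3, 4, 6, 2, 1, 3, 4, 3, 2, 3, 5],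
   [0, 3, 2, 1, 4, 3, 2, 1, 3, 2, 1, 3, 4, 3, 2, 1, 0, 3, 5, 4, 3, 2, 3, 2, 6, 1, 4, 3, 2, 3, 2, 1, 7, 2, 4, 3, 7, 1],
   [0, 1, 0, 2, 1, 3, 4, 3, 2, 1, 0, 3, 2, 1, 3, 4, 3, 2, 1, 3, 2, 1, 0, 4, 3, 2, 1, 5, 4, 3, 6, 1, 2, 3, 7, 2, 4, 7, 3, 2, 1, 6]]

def tWords8 : List (List Nat) :=
  [[0, 1, 0, 2, 1, 3, 2, 1, 5, 4, 3, 2, 3, 2, 4, 3, 2, 1, 3, 2, 3, 2, 4, 3, 2, 1, 3, 2, 6, 1, 4, 3, 2, 1, 3, 6, 2, 3, 4, 3],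
   [0, 2, 1, 0, 3, 2, 1, 3, 2, 3, 2, 4, 3, 2, 1, 3, 2, 4, 3, 2, 1, 0, 5, 4, 3, 2, 1, 0, 6, 1, 2, 3, 2, 4, 6, 3, 6, 1, 2, 7],
   [1, 0, 2, 3, 2, 1, 4, 3, 2, 1, 3, 2, 4, 3, 5, 4, 3, 2, 1, 3, 2, 1, 3, 2, 6, 1, 2, 3, 6, 4, 3, 2, 3, 5, 4, 7, 1, 4],
   [1, 3, 2, 3, 4, 3, 2, 1, 3, 2, 5, 4, 3, 2, 1, 3, 2, 3, 4, 5, 6, 1, 2, 6, 3, 2, 4, 7, 1, 3, 7, 2, 1, 0],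
   [0, 1, 0, 3, 2, 1, 0, 3, 2, 3, 4, 3, 2, 3, 2, 1, 0, 4, 3, 2, 1, 3, 2, 4, 3, 2, 1, 6, 4, 3, 2, 3, 2, 4, 7, 1, 2, 3, 2, 1],
   [2, 3, 2, 1, 4, 3, 2, 3, 2, 1, 4, 3, 2, 3, 5, 4, 3, 2, 1, 3, 2, 3, 2, 1, 4, 3, 2, 3, 2, 1, 6, 1, 0, 2, 1, 3, 2, 4, 3, 7, 2, 3, 4, 6],
   [1, 0, 2, 3, 4, 3, 2, 1, 0, 3, 2, 1, 3, 2, 4, 3, 5, 6, 3, 4, 3, 2, 3, 4, 7, 1, 2, 3, 6, 1, 2],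
   [1, 0, 3, 2, 1, 3, 2, 4, 3, 2, 1, 5, 4, 3, 2, 1, 3, 2, 1, 4, 3, 2, 5, 4, 3, 2, 3, 4, 6, 1, 0, 2, 3, 2, 1, 0, 4, 3, 7, 2, 1, 4, 6, 4],
   [1, 3, 2, 1, 3, 2, 1, 3, 2, 4, 3, 2, 1, 5, 4, 3, 2, 1, 0, 3, 2, 1, 0, 4, 3, 2, 1, 3, 6, 2, 4, 3, 2, 1, 3, 7, 2, 1, 4, 3, 2, 5],
   [4, 3, 2, 5, 4, 3, 2, 1, 3, 2, 3, 2, 1, 0, 4, 3, 2, 1, 3, 2, 3, 4, 3, 2, 1, 3, 6, 1, 2, 1, 3, 4, 3, 2, 1, 0, 7, 3, 2, 3, 4],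
   [0, 1, 0, 3, 4, 3, 2, 1, 5, 4, 3, 2, 1, 3, 2, 3, 4, 3, 2, 1, 3, 2, 3, 4, 3, 2, 6, 1, 2, 3, 2, 4, 7, 1, 3, 2, 4, 6, 1, 0],
   [2, 1, 0, 3, 2, 1, 4, 3, 2, 1, 3, 2, 1, 3, 4, 3, 2, 1, 0, 3, 2, 1, 4, 3, 2, 1, 3, 2, 4, 3, 6, 1, 2, 3, 2, 4, 7, 1, 3, 4, 6, 2, 3, 7],
   [0, 1, 0, 2, 1, 0, 3, 2, 1, 4, 3, 2, 3, 2, 1, 4, 3, 2, 1, 3, 2, 1, 4, 3, 2, 3, 5, 6, 1, 0, 2, 3, 2, 1, 4, 3, 7, 2, 1, 3, 6, 4],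
   [0, 4, 3, 2, 1, 3, 2, 3, 2, 1, 4, 3, 2, 1, 3, 2, 1, 0, 3, 4, 3, 2, 1, 3, 4, 6, 4, 3, 2, 1, 3, 2, 1, 7, 4, 3, 7, 2, 1],
   [1, 2, 3, 5, 4, 3, 2, 1, 3, 2, 3, 4, 3, 2, 1, 0, 3, 2, 1, 3, 4, 3, 2, 3, 2, 1, 6, 1, 0, 2, 1, 4, 6, 3, 2, 4, 3, 5],
   [0, 1, 0, 3, 2, 1, 3, 2, 4, 3, 5, 4, 3, 2, 1, 0, 3, 2, 1, 3, 2, 3, 4, 3, 2, 1, 3, 2, 1, 4, 6, 1, 2, 3, 2, 4, 3, 6, 1, 2, 1, 4, 7, 1, 0, 3],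
   [0, 1, 2, 1, 4, 3, 2, 3, 2, 4, 3, 2, 1, 0, 3, 2, 1, 3, 2, 4, 3, 2, 1, 5, 4, 3, 6, 1, 0, 2, 1, 3, 4, 6, 3, 2, 1, 3, 4],
   [5, 4, 3, 2, 1, 3, 2, 3, 4, 3, 2, 1, 3, 2, 1, 3, 2, 4, 3, 2, 1, 0, 3, 2, 1, 3, 2, 4, 3, 6, 4, 3, 2, 1, 3, 2, 1, 4],
   [0, 2, 3, 2, 1, 0, 3, 4, 3, 2, 1, 5, 4, 3, 2, 1, 3, 2, 4, 3, 2, 1, 3, 2, 4, 3, 2, 5, 6, 3, 4, 3, 2, 1, 3, 6, 2, 4, 6, 3, 4, 5],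
   [2, 4, 3, 2, 1, 3, 2, 4, 3, 2, 1, 5, 4, 3, 2, 3, 2, 4, 3, 2, 1, 3, 2, 3, 2, 1, 0, 6, 1, 0, 2, 3, 4, 3, 2, 1, 3, 6, 2, 6, 4, 3, 7],
   [1, 3, 2, 3, 2, 1, 4, 3, 2, 1, 3, 2, 1, 4, 3, 2, 3, 4, 5, 4, 6, 1, 2, 3, 6, 4, 3, 2, 7, 1, 0, 2],
   [2, 4, 3, 2, 1, 5, 4, 3, 2, 1, 0, 3, 2, 4, 5, 6, 1, 0, 2, 1, 0, 3, 4, 7, 2, 1, 3, 4, 6],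
   [0, 3, 2, 4, 3, 2, 1, 0, 5, 4, 3, 2, 1, 0, 3, 2, 1, 4, 3, 5, 4, 6, 1, 2, 3, 2, 6, 4, 3, 2, 1, 6, 2, 6],
   [0, 2, 1, 3, 4, 3, 2, 1, 0, 5, 6, 1, 2, 3, 4, 7, 2, 4, 6],
   [0, 1, 0, 2, 3, 2, 1, 4, 3, 2, 1, 0, 3, 5, 4, 3, 2, 1, 3, 2, 4, 3, 2, 1, 5, 6, 1, 2, 3, 2, 1, 4, 3, 7, 2, 1, 4, 6, 1, 4],
   [0, 2, 1, 4, 3, 2, 1, 0, 3, 2, 5, 4, 3, 2, 3, 4, 6, 4, 3, 2, 7, 1, 3, 2, 4, 6, 3, 2, 4, 6],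
   [2, 1, 4, 3, 2, 1, 3, 2, 1, 0, 3, 4, 3, 2, 3, 2, 1, 4, 3, 2, 3, 2, 1, 4, 3, 2, 5, 4, 3, 2, 6, 1, 0, 2, 1, 3, 2, 6, 4, 3, 7, 2, 4, 3, 6],
   [2, 1, 3, 2, 5, 4, 3, 2, 1, 0, 3, 2, 1, 4, 3, 2, 1, 3, 2, 1, 4, 3, 2, 3, 4, 5, 6, 1, 4, 7, 3, 2, 3, 4, 7, 2, 1, 7, 2],
   [0, 3, 4, 3, 2, 3, 2, 1, 0, 4, 3, 2, 1, 3, 2, 4, 3, 2, 1, 3, 2, 3, 2, 4, 3, 6, 1, 4, 6, 3, 2, 4, 3, 7, 1, 6, 2, 1, 0, 3],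
   [0, 3, 2, 3, 2, 1, 0, 4, 3, 2, 1, 3, 2, 3, 4, 3, 2, 1, 3, 2, 1, 0, 4, 5, 6, 1, 2, 4, 3, 2, 1, 3, 7, 1, 2, 4],
   [3, 2, 1, 0, 4, 3, 2, 1, 5, 4, 3, 2, 3, 2, 1, 4, 3, 2, 1, 0, 3, 2, 1, 5, 6, 1, 2, 4, 3, 7, 2, 1, 7, 2, 4, 3, 2, 1],
   [3, 4, 3, 2, 1, 0, 3, 2, 1, 0, 3, 4, 3, 2, 1, 3, 2, 3, 2, 1, 4, 3, 2, 1, 3, 4, 5, 6, 4, 3, 2, 1, 3, 2, 3, 6, 4, 6],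
   [2, 1, 3, 2, 1, 4, 3, 2, 3, 5, 4, 3, 2, 1, 3, 2, 3, 4, 3, 2, 1, 0, 3, 2, 4, 6, 1, 0, 4, 3, 2, 1, 0, 3, 2, 6, 1, 4, 3, 7],
   [0, 1, 0, 2, 3, 2, 1, 3, 2, 3, 2, 4, 3, 2, 1, 0, 3, 2, 1, 4, 3, 2, 3, 5, 4, 3, 2, 6, 4, 3, 6, 2, 1, 3, 6, 2, 1, 4, 7, 3],
   [4, 3, 2, 3, 5, 4, 3, 2, 1, 0, 3, 2, 1, 3, 2, 4, 3, 2, 5, 4, 6, 4, 6, 3, 2, 4, 7, 1, 0, 3],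
   [4, 3, 5, 4, 3, 2, 1, 0, 3, 2, 3, 4, 3, 2, 1, 0, 3, 2, 3, 6, 1, 2, 3, 6, 2, 4, 6, 1, 3, 2, 7, 1, 6, 1],
   [0, 2, 1, 3, 2, 1, 0, 3, 2, 1, 0, 4, 3, 2, 1, 3, 2, 4, 3, 2, 5, 4, 3, 2, 1, 3, 2, 3, 2, 4, 3, 6, 1, 2, 3, 2, 3, 4, 3, 6, 1, 4, 7, 4],
   [0, 1, 3, 2, 1, 4, 3, 2, 3, 5, 4, 3, 2, 1, 3, 2, 4, 3, 2, 1, 5, 4, 3, 2, 1, 3, 2, 1, 4, 6, 4, 3, 7, 2, 3, 4, 7, 1, 2, 3, 4, 7, 1],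
   [1, 0, 4, 3, 2, 3, 2, 1, 4, 3, 2, 1, 3, 2, 1, 4, 3, 2, 3, 2, 1, 4, 3, 2, 5, 6, 4, 3, 2, 1, 3, 2, 4, 7, 1, 7, 4],
   [3, 2, 1, 3, 2, 1, 4, 3, 2, 1, 3, 2, 3, 4, 3, 2, 1, 0, 3, 2, 1, 4, 5, 6, 1, 0, 4, 3, 2, 1, 0, 3, 2, 1, 6, 4]]

def tWords9 : List (List Nat) :=
  [[1, 2, 1, 0, 3, 2, 1, 4, 3, 2, 1, 3, 5, 4, 3, 2, 1, 3, 2, 1, 4, 3, 2, 1, 3, 2, 1, 3, 4, 3, 2, 3, 4, 5, 6, 1, 2, 1, 3, 2, 4, 3, 7, 1, 2, 4, 6, 3, 7],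
   [0, 2, 1, 0, 3, 2, 3, 4, 3, 2, 1, 3, 2, 1, 3, 2, 4, 3, 2, 1, 3, 2, 3, 2, 1, 4, 3, 6, 1, 2, 3, 4, 7, 2, 1, 3, 6, 2, 1, 4, 3, 6, 2],
   [5, 4, 3, 2, 1, 3, 2, 1, 3, 2, 4, 3, 2, 1, 0, 5, 4, 3, 2, 1, 3, 2, 6, 1, 2, 1, 3, 2, 1, 3, 6, 4, 3, 2, 1],
   [2, 1, 0, 4, 3, 2, 1, 5, 4, 3, 2, 3, 2, 1, 4, 3, 2, 3, 2, 1, 4, 3, 2, 3, 2, 4, 6, 1, 3, 2, 3, 2, 4, 7, 1, 3, 2, 1, 0, 3, 4],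
   [0, 2, 1, 3, 2, 3, 2, 4, 3, 2, 1, 0, 3, 2, 1, 3, 2, 3, 4, 3, 2, 1, 3, 2, 5, 4, 3, 2, 1, 0, 3, 2, 6, 1, 3, 2, 3, 2, 4, 7, 1, 3, 4, 7, 2],
   [1, 2, 1, 3, 2, 1, 0, 5, 4, 3, 2, 1, 3, 2, 4, 3, 2, 1, 0, 3, 2, 4, 3, 5, 4, 6, 1, 2, 4, 3, 2, 7, 1, 0, 2, 3, 2, 1, 7, 4],
   [1, 2, 3, 4, 3, 2, 1, 3, 5, 4, 3, 2, 1, 3, 2, 1, 4, 3, 2, 1, 3, 6, 1, 2, 4, 3, 5, 4, 6, 2, 3, 4, 6],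
   [0, 3, 2, 1, 3, 2, 3, 2, 1, 4, 3, 2, 1, 0, 3, 2, 5, 4, 3, 2, 1, 3, 6, 1, 0, 2, 3, 2, 1, 7, 1, 4, 6, 3, 2, 1, 0],
   [1, 0, 5, 4, 3, 2, 1, 3, 2, 1, 3, 2, 4, 3, 2, 1, 0, 3, 2, 1, 3, 4, 3, 2, 1, 0, 5, 6, 1, 3, 4, 3, 2, 1, 7, 1, 4, 3, 6, 2, 3, 4],
   [0, 2, 3, 2, 5, 4, 3, 2, 1, 3, 2, 3, 2, 4, 3, 2, 5, 4, 3, 6, 1, 0, 4, 3, 2, 3, 4, 7, 1, 6, 2],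
   [2, 1, 4, 3, 2, 1, 0, 3, 2, 4, 3, 5, 4, 3, 2, 1, 0, 3, 2, 1, 3, 2, 4, 3, 6, 4, 3, 2, 1, 3, 2, 1, 0, 4, 3, 2, 7, 4],
   [1, 0, 2, 1, 0, 3, 2, 1, 3, 4, 3, 2, 1, 3, 2, 3, 5, 4, 3, 2, 1, 3, 2, 3, 4, 3, 2, 3, 4, 6, 4, 3, 2, 1, 5, 4, 7, 2, 1, 3, 2, 1, 0],
   [0, 1, 4, 3, 5, 4, 3, 2, 3, 2, 1, 4, 3, 2, 3, 2, 1, 4, 3, 2, 3, 2, 1, 6, 4, 3, 2, 1, 3, 7, 2, 4, 3, 7, 2, 4, 7],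
   [0, 2, 4, 3, 2, 1, 3, 2, 4, 3, 2, 1, 3, 2, 3, 4, 3, 2, 1, 3, 5, 4, 3, 2, 3, 2, 1, 0, 6, 1, 4, 3, 2, 7, 1, 3, 2, 4, 3, 2, 6],
   [0, 2, 3, 5, 4, 3, 2, 1, 3, 2, 1, 3, 2, 1, 4, 3, 2, 1, 0, 3, 5, 4, 3, 2, 6, 3, 4, 3, 2, 1, 3, 5, 4, 7, 3, 2, 1, 3],
   [0, 4, 3, 2, 1, 0, 3, 5, 4, 3, 2, 1, 3, 2, 1, 4, 3, 2, 1, 3, 2, 4, 3, 5, 4, 3, 2, 1, 0, 3, 2, 1, 3, 2, 3, 4, 3, 2, 3, 5, 6, 3, 4, 3, 2, 1, 3, 2, 1, 4, 6, 1, 3],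
   [0, 3, 2, 1, 3, 2, 1, 0, 3, 4, 3, 2, 1, 3, 2, 3, 4, 3, 2, 1, 3, 2, 4, 3, 2, 5, 6, 1, 0, 2, 1, 3, 7, 4, 3, 2, 1, 3, 7],
   [1, 4, 3, 2, 3, 2, 1, 0, 4, 3, 2, 1, 3, 2, 3, 4, 3, 2, 1, 0, 3, 2, 1, 4, 5, 6, 1, 0, 2, 1, 4, 3, 2, 1, 3, 4, 5, 4, 3, 2],
   [0, 3, 2, 3, 4, 3, 2, 1, 3, 2, 3, 2, 1, 4, 3, 2, 1, 0, 3, 5, 4, 3, 2, 1, 0, 6, 1, 0, 4, 7, 3, 2, 3, 4, 6, 3],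
   [1, 3, 2, 1, 3, 2, 1, 3, 4, 3, 2, 1, 3, 2, 1, 4, 3, 2, 1, 3, 2, 3, 5, 4, 3, 2, 1, 0, 3, 6, 1, 2, 7, 3, 2, 1, 4, 3, 2, 3, 5, 4, 7, 3],
   [2, 1, 3, 2, 3, 4, 3, 2, 1, 3, 2, 1, 3, 2, 1, 4, 3, 2, 1, 0, 3, 2, 4, 3, 5, 6, 4, 3, 2, 1, 7, 3, 2, 4, 3, 7, 2, 4],
   [0, 1, 3, 4, 3, 2, 1, 3, 2, 4, 3, 2, 1, 3, 2, 4, 3, 2, 1, 0, 5, 4, 3, 2, 6, 1, 2, 3, 2, 1, 0, 4, 6, 4, 3, 2, 6, 4],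
   [0, 4, 3, 2, 1, 3, 2, 1, 0, 3, 4, 3, 2, 1, 0, 3, 2, 3, 4, 3, 2, 1, 0, 3, 2, 5, 4, 6, 4, 3, 2, 1, 3, 2, 5, 4, 3, 2, 7, 1],
   [0, 2, 1, 0, 3, 2, 1, 3, 4, 3, 2, 1, 3, 5, 4, 3, 2, 1, 3, 2, 4, 3, 6, 1, 2, 3, 7, 2, 1, 4, 3, 2, 5, 4, 6, 4],
   [1, 0, 4, 3, 5, 4, 3, 2, 3, 2, 1, 0, 4, 3, 2, 1, 3, 2, 3, 4, 3, 2, 3, 2, 4, 6, 1, 2, 4, 6, 3, 2, 1, 7, 3, 4, 6],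
   [1, 5, 4, 3, 2, 1, 3, 2, 3, 2, 1, 4, 3, 2, 1, 3, 2, 1, 3, 4, 3, 2, 3, 2, 1, 0, 4, 5, 6, 1, 2, 3, 2, 7, 1, 4, 3, 6, 2, 4, 3, 2, 1],
   [1, 0, 3, 2, 1, 4, 3, 5, 4, 3, 2, 1, 0, 3, 2, 1, 4, 3, 2, 3, 2, 1, 4, 3, 2, 1, 6, 1, 2, 3, 2, 3, 4, 6, 1, 3, 2, 6, 1, 0, 3],
   [0, 2, 1, 0, 3, 5, 4, 3, 2, 1, 3, 2, 1, 3, 2, 4, 3, 2, 1, 3, 2, 4, 3, 2, 3, 4, 6, 4, 3, 2, 1, 3, 7, 4, 3, 2, 3, 4, 7, 3],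
   [0, 1, 3, 5, 4, 3, 2, 1, 3, 2, 3, 4, 3, 2, 1, 0, 3, 2, 1, 5, 4, 3, 2, 3, 6, 1, 2, 4, 3, 2, 1, 5, 4, 3, 2, 3, 4, 7, 2],
   [0, 2, 3, 2, 1, 5, 4, 3, 2, 1, 3, 2, 4, 3, 2, 1, 0, 3, 2, 1, 3, 4, 3, 2, 3, 2, 1, 4, 6, 1, 2, 4, 3, 2, 1, 6, 3, 2, 1, 4, 3],
   [2, 4, 3, 2, 1, 0, 3, 2, 3, 4, 3, 2, 1, 3, 2, 5, 4, 3, 2, 1, 6, 1, 2, 1, 3, 2, 1, 3, 7, 2, 4, 3],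
   [1, 2, 4, 3, 5, 4, 3, 2, 1, 3, 2, 1, 3, 2, 1, 4, 3, 2, 1, 3, 2, 4, 3, 2, 1, 0, 6, 1, 0, 4, 3, 2, 1, 3, 6, 2, 6],
   [0, 1, 2, 3, 2, 1, 4, 3, 2, 1, 0, 3, 5, 4, 3, 2, 1, 3, 2, 1, 4, 3, 2, 1, 3, 2, 4, 3, 5, 4, 3, 2, 3, 2, 6, 1, 2, 3, 4, 3, 2, 6, 1, 0, 3, 2, 3, 4, 7],
   [4, 3, 2, 1, 3, 2, 4, 3, 5, 4, 3, 2, 1, 3, 2, 3, 2, 1, 4, 3, 2, 1, 3, 4, 5, 4, 6, 2, 4, 3, 2, 1, 3, 4, 7, 1, 4, 6],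
   [0, 2, 1, 3, 2, 1, 0, 4, 3, 5, 6, 1, 0, 2, 3, 2, 1, 6, 4, 3, 6, 4],
   [1, 2, 1, 0, 3, 2, 1, 5, 4, 3, 2, 1, 3, 2, 4, 3, 2, 1, 0, 3, 2, 1, 4, 3, 2, 3, 4, 6, 2, 3, 4, 3, 2, 1, 3, 6, 2, 4, 3, 6, 1, 4],
   [3, 2, 1, 4, 3, 2, 1, 3, 2, 3, 4, 3, 2, 1, 3, 2, 3, 4, 3, 2, 1, 3, 2, 5, 6, 1, 4, 6, 3, 2, 4, 3, 2, 6, 1, 2, 6, 4],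
   [1, 3, 2, 1, 0, 3, 5, 4, 3, 2, 3, 2, 1, 0, 4, 3, 2, 1, 3, 2, 3, 4, 3, 2, 1, 5, 4, 3, 2, 1, 0, 3, 2, 4, 3, 2, 6, 1, 2, 3, 2, 1, 6, 2, 4, 6, 3, 7],
   [0, 2, 4, 3, 5, 4, 3, 2, 1, 3, 2, 3, 2, 4, 3, 2, 1, 3, 2, 3, 2, 1, 0, 4, 3, 2, 1, 0, 6, 1, 0, 4, 3, 2, 3, 4, 7, 2, 3, 2, 1, 7],
   [0, 2, 1, 3, 2, 3, 2, 1, 4, 3, 2, 3, 4, 5, 4, 3, 6, 1, 6, 2, 1, 3, 2, 4, 3, 6, 4]]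

def tWords10 : List (List Nat) :=
  [[1, 0, 5, 4, 3, 2, 1, 3, 2, 1, 3, 4, 3, 2, 1, 3, 2, 1, 4, 3, 2, 1, 0, 3, 2, 4, 3, 5, 4, 6, 4, 3, 7, 2, 1, 3, 2, 3, 4, 3, 2, 3, 7],
   [2, 1, 3, 4, 3, 2, 1, 3, 2, 1, 3, 4, 3, 2, 1, 3, 2, 1, 0, 3, 4, 3, 2, 1, 6, 1, 0, 3, 2, 4, 3, 2, 3, 4, 7, 1, 3],
   [3, 2, 1, 4, 3, 2, 1, 3, 2, 5, 4, 3, 2, 1, 3, 2, 3, 2, 4, 3, 5, 6, 1, 2, 3, 2, 7, 4, 7, 3, 2, 1, 6, 1, 7],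
   [4, 3, 2, 1, 5, 4, 3, 2, 1, 3, 2, 3, 4, 3, 2, 1, 3, 2, 3, 4, 3, 2, 1, 3, 2, 3, 4, 5, 4, 3, 6, 1, 4, 7, 2, 1, 3, 2, 4, 6],
   [1, 3, 2, 3, 4, 3, 2, 1, 3, 2, 1, 4, 3, 2, 1, 3, 2, 3, 5, 4, 3, 2, 1, 0, 3, 2, 3, 4, 3, 2, 6, 1, 2, 3, 2, 4, 3, 2, 1, 6, 3, 6, 2, 3],
   [2, 1, 3, 2, 1, 0, 3, 4, 3, 2, 1, 3, 2, 5, 4, 3, 2, 1, 0, 3, 2, 3, 6, 4, 3, 2, 3, 2, 1, 0, 4, 3, 7, 2, 1, 3],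
   [1, 0, 2, 3, 4, 3, 2, 1, 5, 4, 3, 2, 1, 0, 3, 2, 1, 4, 3, 2, 5, 4, 3, 2, 1, 6, 4, 3, 2, 3, 4, 7, 1, 2, 3, 2, 1, 3, 6, 4],
   [1, 2, 3, 5, 4, 3, 2, 1, 3, 2, 1, 4, 3, 2, 1, 0, 3, 4, 5, 4, 3, 6, 1, 2, 3, 2, 6, 4, 3, 2, 1, 3, 6, 1, 4, 6],
   [1, 2, 1, 3, 2, 1, 3, 2, 1, 4, 3, 2, 1, 0, 3, 2, 4, 3, 2, 1, 6, 1, 2, 3, 2, 1, 4, 3, 6, 2, 3, 6, 1, 6],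
   [2, 1, 0, 3, 2, 1, 3, 2, 4, 3, 2, 1, 3, 2, 3, 4, 3, 2, 1, 0, 3, 2, 1, 0, 4, 3, 5, 6, 1, 4, 3, 2, 3, 5, 4, 6, 3, 6, 2],
   [0, 1, 0, 2, 1, 3, 2, 1, 3, 2, 4, 3, 5, 4, 3, 2, 1, 0, 3, 2, 1, 3, 2, 3, 4, 3, 2, 1, 0, 3, 2, 5, 4, 6, 4, 3, 2, 7, 1, 3, 2, 7, 4, 3, 2],
   [0, 1, 3, 2, 1, 3, 2, 4, 3, 2, 1, 0, 3, 2, 1, 3, 4, 3, 2, 1, 3, 2, 3, 4, 3, 2, 6, 4, 3, 2, 6, 1, 3, 2, 3, 4, 6, 3, 7],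
   [0, 4, 3, 2, 1, 3, 2, 1, 3, 4, 3, 2, 1, 3, 2, 5, 4, 3, 2, 1, 3, 2, 4, 3, 2, 1, 5, 4, 3, 2, 1, 0, 6, 1, 2, 3, 2, 1, 0, 3, 4, 3, 2, 3, 7, 1, 7],
   [0, 5, 4, 3, 2, 1, 0, 3, 2, 1, 4, 3, 2, 1, 3, 2, 4, 3, 2, 1, 3, 2, 3, 2, 1, 4, 3, 5, 4, 6, 4, 3, 2, 1, 3, 2, 6, 1, 4, 7],
   [0, 1, 3, 2, 3, 2, 4, 3, 2, 1, 3, 2, 4, 3, 2, 5, 4, 3, 2, 1, 3, 2, 6, 1, 0, 2, 1, 3, 2, 4, 3, 2, 1, 6, 4, 3],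
   [0, 1, 2, 3, 2, 1, 0, 4, 3, 2, 1, 5, 4, 3, 2, 1, 3, 2, 3, 4, 3, 2, 1, 0, 3, 2, 3, 6, 1, 0, 2, 4, 6, 3, 2, 1, 3, 4, 7, 1, 4],
   [0, 1, 2, 1, 0, 3, 2, 1, 0, 4, 3, 2, 1, 5, 4, 3, 2, 1, 3, 2, 1, 4, 3, 2, 3, 2, 6, 1, 6, 2, 3, 4, 6, 4, 5],
   [0, 1, 3, 2, 3, 4, 3, 2, 1, 3, 2, 3, 4, 3, 2, 1, 0, 3, 2, 1, 4, 5, 4, 6, 3, 4, 3, 2, 1, 3, 4, 6, 2, 3, 6, 1, 4],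
   [3, 4, 3, 2, 1, 3, 2, 3, 2, 1, 4, 3, 2, 3, 2, 4, 3, 2, 1, 3, 2, 4, 3, 2, 1, 6, 1, 0, 4, 3, 2, 3, 6, 1, 2, 3, 4, 7, 1],
   [3, 2, 1, 3, 2, 1, 0, 3, 4, 3, 2, 1, 3, 2, 3, 2, 1, 4, 3, 2, 1, 5, 6, 1, 0, 4, 3, 2, 1, 3, 2, 7, 1, 4, 6, 4],
   [0, 3, 2, 1, 0, 3, 2, 1, 4, 3, 2, 3, 2, 1, 4, 3, 2, 3, 2, 1, 0, 4, 3, 2, 1, 3, 2, 3, 2, 4, 3, 6, 1, 0, 2, 3, 2, 1, 4, 7, 3, 4, 3, 7, 2, 1],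
   [0, 4, 3, 2, 1, 3, 2, 1, 4, 3, 2, 1, 0, 5, 4, 3, 2, 1, 0, 3, 2, 1, 4, 3, 5, 6, 1, 4, 3, 2, 1, 0, 3, 2, 1, 7, 1, 7, 4],
   [1, 0, 2, 1, 3, 2, 1, 3, 4, 3, 2, 1, 3, 2, 3, 5, 4, 3, 2, 1, 0, 3, 2, 3, 4, 3, 5, 6, 4, 3, 2, 1, 6, 3, 2, 1, 7, 4, 3, 7, 2],
   [0, 2, 3, 4, 3, 2, 1, 5, 4, 3, 2, 1, 0, 3, 2, 1, 4, 3, 2, 5, 4, 6, 1, 4, 3, 2, 3, 2, 4, 3, 7, 1, 3, 2],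
   [0, 1, 0, 2, 1, 3, 4, 3, 2, 1, 0, 3, 2, 1, 4, 3, 2, 3, 2, 1, 4, 3, 2, 1, 3, 2, 1, 4, 6, 1, 2, 3, 7, 2, 4, 7, 3, 2, 1, 0],
   [4, 3, 2, 1, 3, 2, 3, 2, 1, 0, 4, 3, 2, 1, 3, 2, 4, 3, 2, 1, 3, 6, 1, 0, 2, 1, 0, 3, 4, 3, 2, 6, 3, 4],
   [1, 0, 2, 1, 0, 3, 2, 1, 4, 3, 2, 3, 2, 1, 4, 3, 2, 3, 2, 1, 4, 3, 2, 3, 2, 1, 6, 1, 0, 2, 3, 2, 4, 6, 1, 3, 2, 1, 4, 6],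
   [0, 1, 3, 2, 1, 3, 2, 1, 4, 3, 2, 1, 5, 4, 3, 2, 3, 2, 1, 4, 3, 2, 1, 3, 2, 1, 0, 4, 3, 2, 6, 2, 4, 3, 2, 1, 3, 2, 4, 6, 3, 2, 6],
   [0, 3, 2, 1, 3, 2, 4, 3, 2, 1, 0, 3, 2, 1, 3, 2, 4, 3, 2, 1, 3, 2, 4, 3, 6, 1, 2, 6, 3, 4, 6, 2, 1, 3, 2, 1, 7, 1],
   [0, 3, 2, 1, 0, 3, 2, 1, 3, 2, 3, 4, 3, 2, 1, 3, 5, 4, 3, 2, 1, 3, 2, 4, 3, 2, 1, 3, 6, 1, 3, 2, 4, 3, 2, 1, 3, 2, 4, 5],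
   [1, 2, 3, 2, 1, 4, 3, 2, 3, 2, 4, 3, 2, 1, 3, 2, 3, 2, 1, 4, 3, 2, 3, 2, 1, 0, 4, 6, 1, 3, 2, 3, 2, 4, 3, 7, 2, 1, 4, 6],
   [0, 1, 0, 4, 3, 2, 1, 5, 4, 3, 2, 1, 3, 2, 4, 3, 2, 1, 3, 2, 3, 4, 3, 2, 1, 0, 3, 2, 5, 4, 3, 6, 1, 4, 6, 2, 1, 3, 2, 3, 4, 6, 3, 2, 3],
   [3, 2, 1, 0, 3, 4, 3, 2, 1, 3, 2, 1, 0, 3, 4, 3, 2, 1, 3, 2, 1, 4, 3, 2, 3, 6, 1, 2, 3, 4, 3, 2, 6, 1, 2, 7],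
   [1, 2, 3, 2, 1, 4, 3, 2, 1, 3, 5, 4, 3, 2, 1, 3, 2, 1, 3, 2, 4, 3, 2, 1, 0, 5, 4, 3, 2, 3, 6, 1, 0, 2, 4, 3, 2, 1, 7, 3, 4, 6, 2],
   [0, 3, 2, 3, 5, 4, 3, 2, 1, 3, 2, 3, 4, 3, 2, 1, 3, 6, 4, 6, 3, 2, 4, 7, 1, 7, 2],
   [0, 5, 4, 3, 2, 3, 2, 1, 4, 3, 2, 3, 2, 1, 4, 3, 2, 1, 3, 5, 4, 3, 2, 1, 6, 1, 2, 3, 2, 4, 3, 6, 1, 2, 3, 4, 6, 1, 3],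
   [0, 1, 2, 3, 4, 5, 4, 3, 2, 1, 3, 2, 3, 4, 3, 2, 1, 0, 3, 2, 3, 4, 3, 2, 1, 0, 3, 6, 1, 2, 4, 3, 7, 2, 3, 4, 7, 1, 3, 7],
   [0, 2, 1, 3, 2, 1, 3, 2, 4, 3, 2, 1, 0, 5, 4, 3, 2, 1, 3, 2, 3, 4, 3, 2, 1, 3, 2, 1, 4, 3, 2, 6, 1, 2, 3, 2, 1, 6, 1, 4, 6, 3, 6, 2, 4],
   [0, 1, 3, 2, 4, 3, 2, 1, 3, 2, 4, 3, 2, 5, 4, 3, 2, 1, 0, 3, 2, 3, 4, 6, 1, 4, 3, 2, 1, 3, 2, 4, 6, 3, 2, 6],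
   [2, 1, 3, 2, 1, 4, 3, 2, 1, 3, 2, 3, 4, 3, 2, 1, 5, 4, 3, 2, 1, 0, 3, 2, 1, 4, 3, 2, 3, 4, 6, 4, 3, 2, 1, 3, 6, 2, 4, 3, 2, 1, 7]]

def tWords11 : List (List Nat) :=
  [[0, 1, 0, 5, 4, 3, 2, 1, 0, 3, 2, 1, 4, 3, 2, 5, 4, 3, 2, 1, 0, 6, 1, 2, 3, 2, 3, 4, 7, 1, 3, 2, 4, 3, 2, 5],
   [0, 1, 3, 2, 4, 3, 2, 1, 3, 2, 3, 2, 1, 0, 4, 3, 2, 1, 3, 2, 3, 2, 4, 3, 2, 1, 0, 5, 4, 3, 2, 3, 4, 5, 6, 1, 2, 3, 2, 4, 6, 3, 2, 1, 7, 1],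
   [2, 3, 2, 1, 5, 4, 3, 2, 1, 0, 3, 2, 1, 0, 4, 3, 2, 1, 3, 2, 4, 3, 2, 5, 4, 3, 2, 1, 0, 3, 2, 6, 4, 3, 2, 1, 3, 2, 7, 3, 4, 6, 3, 7],
   [2, 1, 3, 2, 3, 4, 3, 2, 1, 3, 2, 5, 4, 3, 2, 1, 3, 2, 4, 3, 2, 1, 0, 3, 2, 1, 4, 3, 5, 6, 1, 2, 3, 4, 3, 2, 1, 3, 2, 1, 7, 1, 3],
   [0, 1, 3, 4, 3, 2, 1, 3, 2, 4, 3, 2, 1, 3, 2, 3, 2, 4, 3, 2, 1, 3, 2, 4, 3, 2, 5, 4, 3, 2, 1, 3, 6, 1, 0, 4, 3, 2, 1, 7, 3, 2, 4, 3, 7, 4, 7],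
   [2, 1, 0, 3, 2, 1, 4, 3, 2, 1, 3, 2, 4, 3, 2, 1, 3, 2, 3, 4, 3, 2, 5, 6, 4, 3, 2, 3, 7, 4, 7, 1, 2, 3, 2, 4, 3, 5],
   [1, 3, 2, 1, 3, 2, 4, 3, 5, 4, 3, 2, 1, 3, 2, 3, 2, 4, 3, 2, 1, 3, 2, 3, 2, 1, 0, 4, 3, 5, 6, 4, 3, 2, 1, 3, 2, 5, 4, 6, 3, 2, 4, 7],
   [1, 0, 2, 3, 5, 4, 3, 2, 1, 3, 2, 3, 2, 1, 0, 4, 3, 2, 1, 3, 2, 3, 4, 3, 2, 1, 0, 5, 6, 3, 4, 3, 2, 1, 3, 7, 2, 4, 6, 1, 6],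
   [0, 1, 0, 3, 2, 1, 0, 3, 2, 4, 3, 2, 1, 5, 4, 3, 2, 1, 3, 2, 1, 0, 3, 4, 3, 2, 3, 2, 1, 0, 4, 5, 6, 1, 2, 3, 7, 2, 4, 6, 3, 2, 1, 7, 2, 4, 7],
   [0, 1, 0, 2, 5, 4, 3, 2, 1, 3, 2, 3, 4, 3, 2, 1, 3, 2, 1, 3, 4, 3, 2, 1, 3, 2, 1, 3, 6, 1, 2, 3, 6, 4, 3, 2, 1, 7, 1, 6],
   [1, 2, 1, 4, 3, 2, 1, 5, 4, 3, 2, 1, 3, 2, 1, 4, 3, 2, 1, 0, 3, 2, 5, 4, 3, 2, 1, 3, 4, 6, 1, 4, 3, 2, 1, 0, 3, 4, 7, 2, 1, 0],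
   [1, 2, 1, 4, 3, 2, 1, 5, 4, 3, 2, 3, 2, 1, 4, 3, 2, 1, 3, 2, 1, 3, 4, 3, 2, 3, 2, 1, 4, 3, 2, 6, 4, 3, 2, 1, 3, 2, 3, 4, 7, 1, 4, 3],
   [0, 2, 3, 2, 1, 4, 3, 2, 1, 3, 2, 1, 0, 3, 4, 3, 2, 1, 3, 2, 4, 3, 2, 5, 4, 3, 2, 1, 0, 3, 2, 1, 3, 6, 4, 6, 3, 2, 1, 4, 3, 2, 7, 1],
   [0, 2, 3, 2, 1, 3, 2, 4, 3, 2, 1, 5, 4, 3, 2, 1, 0, 3, 2, 1, 0, 4, 3, 2, 1, 3, 2, 4, 3, 2, 1, 5, 4, 6, 1, 2, 6, 3, 4, 6, 1, 2, 6, 3, 4, 7, 3],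
   [0, 1, 2, 1, 0, 3, 2, 1, 0, 3, 4, 3, 2, 1, 0, 3, 2, 1, 3, 4, 3, 2, 1, 3, 2, 3, 4, 3, 5, 6, 1, 4, 7, 2, 3, 2, 1, 4, 6, 2],
   [1, 0, 2, 1, 0, 3, 2, 3, 4, 3, 2, 1, 0, 3, 2, 1, 3, 2, 3, 4, 3, 2, 1, 3, 5, 4, 3, 2, 3, 2, 1, 0, 6, 1, 0, 4, 3, 2, 7, 3, 4, 7, 1, 2, 4],
   [5, 4, 3, 2, 1, 3, 2, 3, 2, 4, 3, 2, 1, 3, 2, 4, 3, 2, 1, 5, 4, 3, 2, 1, 3, 2, 1, 3, 4, 6, 1, 2, 1, 4, 3, 2, 1, 5, 4, 6, 3, 2, 1],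
   [1, 3, 2, 3, 4, 3, 2, 1, 3, 2, 3, 5, 4, 3, 2, 1, 0, 3, 2, 1, 3, 2, 3, 4, 3, 2, 1, 5, 6, 4, 3, 6, 2, 1, 7, 3, 2, 4, 3, 6, 2],
   [2, 3, 2, 1, 4, 3, 5, 4, 3, 2, 1, 0, 3, 2, 1, 4, 3, 2, 3, 2, 1, 4, 3, 6, 4, 3, 2, 1, 3, 2, 3, 7, 1, 2, 4, 5],
   [0, 2, 1, 0, 3, 2, 1, 0, 3, 2, 3, 4, 3, 2, 1, 3, 2, 4, 3, 2, 1, 5, 4, 6, 1, 0, 2, 1, 4, 3, 5, 4, 7, 3, 2, 1, 7],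
   [0, 1, 0, 3, 4, 3, 2, 1, 3, 2, 3, 5, 4, 3, 2, 1, 3, 2, 3, 4, 3, 2, 1, 5, 4, 3, 2, 6, 4, 3, 2, 1, 6, 3, 2, 1, 0, 4, 7, 3],
   [3, 2, 1, 3, 2, 3, 4, 3, 2, 1, 0, 3, 2, 1, 4, 5, 6, 1, 2, 1, 3, 2, 1, 6, 4, 3, 2, 6, 4, 7, 4],
   [0, 2, 1, 0, 4, 3, 2, 1, 3, 2, 3, 4, 3, 2, 1, 3, 2, 4, 3, 2, 1, 5, 4, 3, 2, 1, 3, 2, 3, 6, 1, 4, 3, 2, 3, 4, 6, 1, 3, 2, 3, 2, 1, 6],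
   [1, 3, 2, 1, 3, 2, 1, 4, 3, 2, 1, 3, 2, 3, 5, 4, 3, 2, 1, 3, 2, 3, 2, 4, 3, 2, 5, 4, 6, 1, 0, 2, 1, 4, 3, 6, 2, 3, 4, 7, 1, 3, 2, 7],
   [1, 2, 1, 3, 4, 3, 2, 1, 3, 2, 1, 4, 3, 2, 1, 0, 3, 2, 4, 3, 5, 4, 3, 2, 1, 3, 2, 3, 4, 6, 1, 2, 3, 2, 4, 3, 5, 4, 7, 1, 0, 3],
   [2, 3, 2, 1, 0, 5, 4, 3, 2, 1, 3, 2, 4, 3, 2, 1, 3, 2, 3, 4, 3, 2, 1, 3, 2, 3, 4, 6, 1, 2, 3, 4, 3, 2, 1, 7, 3, 4, 7, 3],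
   [1, 2, 3, 5, 4, 3, 2, 1, 0, 3, 2, 1, 0, 3, 2, 3, 4, 3, 2, 1, 3, 2, 4, 3, 2, 5, 4, 3, 2, 1, 0, 3, 2, 3, 6, 4, 3, 2, 7, 1, 3, 6, 2, 3, 4, 7, 1],
   [1, 2, 3, 4, 3, 2, 1, 3, 2, 3, 5, 4, 3, 2, 1, 3, 2, 3, 4, 3, 2, 1, 3, 5, 4, 6, 1, 2, 3, 4, 3, 2, 7, 1, 3, 6, 1, 2, 4],
   [1, 2, 3, 2, 1, 4, 3, 2, 3, 2, 1, 4, 3, 2, 1, 3, 2, 4, 3, 2, 1, 3, 2, 3, 2, 4, 3, 2, 3, 6, 1, 2, 3, 2, 1, 0, 3, 4, 3, 2, 7, 1, 4, 6, 2],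
   [0, 1, 2, 1, 0, 3, 4, 3, 2, 1, 3, 2, 3, 4, 3, 2, 1, 3, 2, 4, 3, 2, 5, 4, 3, 2, 1, 3, 6, 4, 3, 7, 2, 1, 6, 3, 2, 1, 4, 3, 7, 2, 4],
   [0, 2, 1, 3, 2, 3, 2, 4, 3, 2, 1, 5, 4, 3, 2, 3, 2, 1, 4, 3, 2, 1, 3, 2, 1, 4, 3, 2, 3, 2, 6, 1, 2, 4, 3, 2, 1, 6, 1, 3, 6, 4, 3, 5],
   [1, 3, 2, 3, 4, 3, 2, 1, 0, 3, 2, 1, 0, 3, 4, 3, 2, 3, 2, 1, 4, 3, 2, 1, 3, 2, 6, 1, 0, 2, 4, 3, 2, 6, 4, 5],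
   [0, 2, 3, 2, 4, 3, 2, 1, 0, 3, 2, 1, 4, 3, 2, 3, 2, 1, 4, 3, 2, 1, 0, 3, 2, 4, 5, 4, 6, 4, 6, 3, 2, 1, 4, 3, 2, 3, 6, 1, 0, 2],
   [3, 4, 3, 2, 3, 2, 1, 4, 3, 2, 3, 2, 1, 0, 4, 3, 2, 1, 3, 2, 3, 2, 4, 3, 2, 1, 0, 5, 4, 3, 2, 3, 4, 6, 3, 4, 3, 2, 1, 3, 4, 6, 2, 4, 3, 2],
   [0, 1, 2, 3, 2, 1, 4, 3, 2, 3, 2, 1, 4, 3, 2, 1, 3, 5, 4, 3, 2, 1, 3, 2, 4, 3, 2, 1, 0, 6, 1, 2, 4, 3, 2, 7, 1, 4, 6, 3, 6, 2],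
   [0, 3, 5, 4, 3, 2, 1, 0, 3, 2, 1, 3, 2, 3, 4, 3, 2, 1, 3, 2, 5, 4, 3, 2, 1, 0, 6, 1, 2, 3, 4, 3, 2, 1, 6, 1, 6, 4],
   [0, 3, 2, 4, 3, 5, 4, 3, 2, 1, 3, 2, 3, 2, 4, 3, 2, 1, 3, 2, 3, 2, 1, 4, 3, 5, 6, 1, 4, 7, 3, 4, 7, 2, 1, 3, 2, 6, 4],
   [0, 1, 2, 3, 2, 1, 0, 3, 2, 1, 3, 4, 3, 2, 1, 3, 2, 4, 3, 5, 4, 3, 2, 1, 0, 6, 1, 2, 3, 6, 4, 3, 6, 2, 3, 6, 1],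
   [0, 1, 4, 3, 2, 1, 3, 2, 1, 4, 3, 2, 1, 3, 2, 4, 3, 2, 1, 0, 3, 2, 1, 4, 3, 2, 1, 6, 4, 3, 2, 1, 3, 6, 4, 3, 2, 3, 6, 1],
   [1, 0, 4, 3, 2, 3, 2, 1, 4, 3, 2, 1, 3, 2, 1, 4, 3, 2, 1, 0, 3, 2, 1, 4, 3, 5, 4, 3, 2, 6, 1, 2, 3, 2, 4, 6, 1, 3, 2, 6, 1, 3]]

def tWords12 : List (List Nat) :=
  [[0, 1, 0, 2, 3, 2, 1, 0, 3, 2, 4, 3, 2, 1, 5, 4, 3, 2, 3, 2, 1, 4, 3, 2, 1, 3, 4, 5, 6, 1, 2, 3, 2, 1, 4, 3, 6, 2, 6, 1, 3, 4, 3],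
   [1, 0, 5, 4, 3, 2, 3, 2, 1, 4, 3, 2, 3, 2, 4, 3, 2, 1, 3, 2, 3, 4, 3, 2, 3, 6, 1, 2, 3, 7, 4, 6, 3, 2, 1, 0],
   [4, 3, 2, 1, 3, 2, 3, 4, 3, 2, 1, 0, 3, 2, 1, 6, 1, 2, 1, 3, 4, 6, 1, 2, 3, 2, 4, 3, 2, 3, 4],
   [2, 1, 0, 3, 2, 1, 0, 3, 2, 1, 4, 3, 2, 1, 3, 2, 4, 3, 2, 1, 3, 2, 4, 3, 2, 3, 4, 6, 1, 0, 2, 1, 3, 2, 4, 3, 6, 2, 1, 4, 6, 1],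
   [0, 1, 3, 2, 1, 3, 4, 3, 2, 1, 3, 2, 1, 4, 3, 2, 1, 5, 4, 3, 6, 1, 2, 3, 2, 7, 1, 4, 3, 2, 5, 4, 7, 4],
   [0, 1, 3, 2, 3, 4, 3, 2, 1, 3, 2, 1, 3, 2, 4, 3, 2, 1, 0, 3, 2, 3, 4, 5, 6, 1, 2, 4, 3, 2, 1, 5, 4, 3, 2, 3, 7, 1, 2],
   [0, 1, 2, 3, 2, 1, 4, 3, 2, 1, 5, 4, 3, 2, 1, 3, 2, 4, 3, 2, 1, 0, 3, 2, 1, 6, 1, 2, 4, 3, 2, 1, 5, 4, 3],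
   [0, 1, 2, 1, 3, 4, 3, 2, 3, 2, 1, 0, 4, 3, 2, 1, 3, 2, 4, 3, 2, 1, 5, 4, 3, 2, 1, 3, 2, 1, 6, 4, 3, 2, 6, 1, 4, 7, 2],
   [1, 2, 3, 2, 1, 4, 3, 2, 3, 2, 1, 0, 4, 3, 2, 1, 0, 3, 2, 1, 4, 3, 2, 3, 5, 4, 3, 2, 1, 0, 6, 4, 3, 2, 1, 3, 2, 6, 4, 6, 3, 4, 7],
   [0, 1, 0, 2, 3, 5, 4, 3, 2, 1, 3, 2, 3, 4, 3, 2, 1, 3, 2, 4, 3, 2, 5, 4, 3, 2, 1, 6, 1, 2, 3, 6, 2, 4, 7, 1, 3, 4, 6, 2, 1, 0],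
   [1, 4, 3, 2, 5, 4, 3, 2, 1, 3, 2, 3, 4, 3, 2, 1, 3, 2, 3, 4, 3, 2, 1, 3, 5, 6, 1, 0, 2, 4, 7, 3, 2, 4, 3, 7],
   [0, 1, 3, 2, 1, 4, 3, 2, 1, 0, 3, 2, 1, 4, 3, 2, 1, 3, 2, 1, 4, 3, 5, 4, 6, 1, 0, 3, 4, 3, 2, 1, 7, 4, 3, 2, 1, 3, 6],
   [1, 3, 4, 3, 2, 1, 3, 2, 3, 5, 4, 3, 2, 1, 0, 3, 2, 1, 4, 3, 2, 3, 5, 4, 3, 2, 1, 6, 1, 0, 4, 6, 2, 1, 3, 2, 1, 3, 4, 6, 4],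
   [1, 2, 1, 0, 4, 3, 2, 1, 3, 2, 4, 3, 2, 5, 4, 3, 2, 1, 0, 3, 2, 1, 3, 2, 4, 3, 2, 1, 5, 6, 4, 3, 2, 1, 3, 6, 2, 1, 4, 3, 6, 2, 3],
   [0, 1, 0, 2, 3, 5, 4, 3, 2, 1, 3, 2, 1, 3, 2, 4, 3, 2, 1, 0, 5, 4, 3, 2, 1, 3, 2, 4, 6, 1, 3, 4, 3, 2, 5, 4, 3, 2, 1, 7, 4, 7],
   [1, 2, 1, 3, 2, 4, 3, 2, 1, 0, 3, 2, 1, 3, 4, 3, 2, 1, 3, 2, 1, 0, 4, 3, 2, 1, 5, 6, 1, 2, 1, 4, 3, 2, 1, 6, 4, 3, 2, 1],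
   [0, 1, 2, 3, 2, 1, 0, 3, 2, 1, 3, 4, 3, 2, 1, 3, 2, 3, 2, 1, 4, 3, 2, 1, 3, 2, 1, 3, 6, 1, 0, 2, 4, 3, 2, 7, 1, 3, 2, 3, 2, 1],
   [0, 1, 0, 3, 2, 3, 4, 3, 2, 1, 0, 3, 2, 1, 3, 4, 3, 2, 3, 4, 5, 4, 3, 6, 1, 7, 2, 3, 2, 1, 6, 4, 3, 2, 1, 3, 7],
   [0, 2, 1, 4, 3, 2, 3, 2, 1, 0, 4, 3, 2, 1, 0, 3, 2, 1, 4, 3, 2, 3, 2, 1, 4, 3, 2, 6, 1, 2, 3, 2, 4, 6, 1, 0, 2, 4, 7],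
   [0, 2, 1, 3, 2, 4, 3, 2, 1, 3, 2, 3, 4, 3, 2, 1, 3, 2, 1, 0, 4, 3, 2, 1, 5, 4, 3, 6, 1, 2, 1, 3, 4, 7, 1, 0, 3, 2, 4],
   [2, 3, 2, 1, 5, 4, 3, 2, 1, 3, 2, 1, 4, 3, 2, 1, 3, 2, 4, 3, 2, 1, 0, 3, 2, 1, 3, 4, 5, 6, 4, 3, 2, 6, 1, 6, 4, 3, 2, 6, 1, 3],
   [2, 3, 2, 3, 4, 3, 2, 1, 3, 2, 1, 3, 4, 3, 2, 1, 0, 3, 2, 1, 3, 4, 3, 2, 1, 3, 2, 1, 0, 4, 6, 1, 2, 3, 2, 6, 1, 4, 6, 3, 6, 2, 4, 3, 7],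
   [0, 1, 5, 4, 3, 2, 1, 3, 2, 3, 2, 1, 4, 3, 2, 1, 3, 5, 4, 3, 2, 1, 0, 3, 2, 1, 0, 6, 1, 0, 2, 3, 2, 1, 4, 3, 2, 5, 4, 3, 2, 6],
   [0, 5, 4, 3, 2, 1, 3, 2, 1, 4, 3, 2, 1, 3, 2, 3, 4, 3, 2, 1, 0, 3, 2, 3, 4, 5, 6, 1, 2, 3, 2, 1, 4, 3, 2, 3, 6, 1, 4, 6, 2],
   [0, 1, 3, 2, 1, 4, 3, 2, 1, 0, 5, 4, 3, 2, 1, 3, 2, 3, 4, 3, 2, 1, 0, 5, 6, 1, 4, 3, 2, 1, 0, 3, 2, 7, 4, 3, 7],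
   [0, 2, 3, 5, 4, 3, 2, 1, 3, 2, 4, 3, 2, 1, 3, 2, 3, 2, 4, 3, 2, 1, 0, 5, 4, 3, 2, 1, 3, 4, 5, 6, 4, 3, 2, 6, 1, 3, 7, 2, 3, 4, 6, 3],
   [1, 0, 2, 1, 3, 2, 4, 3, 2, 1, 5, 4, 3, 2, 1, 3, 2, 1, 3, 4, 3, 2, 1, 3, 2, 3, 4, 3, 5, 4, 3, 6, 4, 3, 2, 1, 3, 2, 6, 1, 3, 4, 3, 2, 5],
   [0, 1, 2, 1, 4, 3, 2, 1, 3, 5, 4, 3, 2, 1, 3, 2, 1, 4, 3, 2, 1, 3, 2, 1, 3, 4, 3, 2, 1, 3, 2, 6, 3, 4, 3, 2, 1, 3, 2, 1, 4, 3, 2, 3],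
   [0, 1, 0, 3, 2, 1, 0, 3, 2, 4, 3, 2, 1, 5, 4, 3, 2, 1, 3, 2, 1, 0, 4, 3, 2, 1, 5, 4, 6, 1, 2, 4, 3, 2, 1, 0, 6, 3, 2, 1, 4, 3, 6],
   [1, 2, 1, 0, 3, 2, 1, 4, 3, 2, 1, 3, 2, 1, 4, 3, 2, 1, 3, 2, 1, 4, 3, 2, 1, 3, 2, 3, 4, 3, 5, 6, 2, 1, 4, 3, 2, 3, 2, 1, 4, 3, 6, 1, 4],
   [0, 1, 0, 3, 2, 1, 4, 3, 2, 1, 3, 2, 1, 4, 3, 2, 1, 3, 2, 1, 3, 4, 3, 2, 1, 3, 2, 3, 4, 3, 2, 1, 0, 3, 6, 4, 3, 2, 3, 2, 1, 7, 4, 3, 2, 1],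
   [2, 3, 2, 1, 0, 3, 2, 4, 3, 2, 1, 3, 2, 3, 2, 4, 3, 2, 1, 0, 5, 4, 3, 2, 3, 4, 6, 1, 2, 3, 2, 1, 4, 3, 6, 2, 6, 3, 2, 1, 0],
   [0, 5, 4, 3, 2, 1, 3, 2, 1, 4, 3, 2, 1, 0, 3, 5, 4, 3, 2, 1, 3, 4, 5, 6, 1, 4, 6, 3, 2, 7, 1, 3, 4],
   [0, 1, 0, 2, 1, 0, 3, 4, 3, 2, 1, 3, 2, 1, 3, 2, 4, 3, 2, 1, 3, 2, 3, 2, 4, 3, 2, 5, 6, 1, 2, 3, 2, 7, 4, 6, 3, 6, 1, 2, 4, 3, 2],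
   [0, 1, 3, 5, 4, 3, 2, 3, 2, 1, 0, 4, 3, 2, 1, 3, 2, 3, 4, 3, 2, 1, 3, 5, 4, 3, 2, 3, 2, 1, 6, 1, 2, 4, 3, 2, 6, 4, 6, 1, 2, 3],
   [1, 0, 2, 1, 0, 3, 2, 1, 3, 4, 3, 2, 1, 3, 2, 3, 2, 1, 4, 3, 2, 1, 5, 4, 3, 2, 1, 3, 2, 3, 4, 3, 5, 6, 4, 3, 7, 2, 1, 3, 2, 3, 4, 3, 6, 2, 6, 1],
   [0, 1, 0, 2, 4, 3, 2, 1, 3, 2, 4, 3, 2, 1, 3, 2, 3, 2, 4, 3, 2, 1, 0, 5, 4, 6, 4, 3, 2, 1, 5, 4, 6, 3, 2, 1, 6, 3],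
   [1, 3, 2, 1, 3, 4, 3, 2, 3, 4, 5, 4, 3, 2, 1, 0, 6, 3, 4, 3, 2, 3, 4, 6, 1, 2, 3, 4, 7, 2, 4],
   [0, 2, 1, 0, 3, 5, 4, 3, 2, 1, 3, 2, 3, 4, 3, 2, 1, 0, 3, 2, 1, 4, 5, 4, 6, 1, 4, 3, 6, 2, 3, 6],
   [1, 2, 3, 4, 3, 2, 1, 3, 2, 1, 4, 3, 2, 1, 0, 3, 5, 4, 3, 2, 3, 2, 1, 0, 4, 3, 5, 6, 1, 2, 3, 2, 1, 6, 4, 3, 7, 2, 1, 3, 2, 4]]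

def tWords13 : List (List Nat) :=
  [[0, 1, 0, 3, 2, 1, 0, 3, 4, 3, 2, 3, 2, 1, 4, 3, 2, 1, 3, 2, 1, 4, 6, 1, 2, 3, 2, 1, 0, 4, 6, 3, 2, 7, 1, 7, 2],
   [0, 1, 2, 1, 0, 3, 2, 1, 3, 4, 3, 2, 1, 3, 2, 1, 0, 3, 4, 3, 2, 3, 2, 1, 0, 6, 1, 0, 2, 1, 4, 3, 2, 6, 4, 3, 2, 5, 4],
   [1, 0, 5, 4, 3, 2, 1, 3, 2, 1, 4, 3, 2, 1, 3, 2, 4, 3, 5, 4, 3, 2, 1, 3, 2, 3, 2, 4, 6, 1, 4, 6, 2, 1, 3, 2, 1, 4, 6, 3],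
   [2, 1, 3, 2, 3, 4, 3, 2, 1, 0, 3, 2, 1, 3, 4, 3, 2, 1, 3, 2, 5, 4, 3, 2, 1, 3, 2, 3, 2, 4, 6, 1, 2, 4, 3, 2, 1, 3, 6, 2, 4, 7],
   [1, 2, 1, 3, 2, 1, 4, 3, 2, 3, 2, 1, 4, 3, 2, 1, 0, 3, 4, 5, 4, 3, 2, 1, 3, 2, 4, 6, 1, 2, 3, 7, 2, 4, 7, 3, 2, 1, 4, 6, 4],
   [1, 3, 2, 1, 0, 3, 2, 1, 4, 3, 2, 3, 2, 1, 4, 3, 2, 3, 2, 4, 3, 5, 6, 4, 3, 2, 1, 3, 4, 6, 2, 3, 6, 4, 6, 1, 2],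
   [0, 2, 5, 4, 3, 2, 1, 3, 2, 3, 4, 3, 2, 1, 3, 2, 1, 4, 3, 2, 1, 3, 2, 5, 4, 3, 2, 1, 0, 3, 2, 4, 3, 6, 1, 4, 6, 2, 1, 3, 2, 3, 2, 1, 7, 4, 3],
   [1, 0, 3, 2, 1, 3, 2, 1, 0, 4, 3, 2, 1, 0, 5, 4, 3, 2, 3, 4, 6, 1, 2, 3, 4, 3, 2, 3, 7, 1, 4, 7, 3, 4],
   [2, 3, 4, 3, 2, 1, 0, 3, 2, 1, 3, 4, 3, 2, 1, 3, 2, 1, 3, 2, 1, 4, 3, 2, 5, 4, 6, 1, 2, 1, 3, 2, 1, 4, 7, 4, 7, 3, 2],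
   [3, 2, 1, 3, 2, 3, 2, 1, 4, 3, 2, 1, 3, 2, 1, 4, 3, 2, 1, 0, 3, 2, 1, 0, 4, 3, 2, 1, 5, 4, 3, 2, 6, 1, 2, 3, 2, 1, 3, 4, 3, 2, 3],
   [3, 2, 1, 3, 2, 3, 2, 1, 0, 4, 3, 2, 3, 4, 5, 6, 1, 0, 2, 1, 3, 7, 2, 4, 3, 2, 1, 0, 6],
   [0, 1, 0, 3, 2, 1, 3, 2, 3, 4, 3, 2, 1, 3, 2, 5, 4, 3, 2, 1, 3, 2, 4, 3, 6, 2, 3, 4, 3, 2, 1, 3, 2, 4, 3, 2, 6, 1, 2],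
   [0, 3, 2, 1, 3, 2, 3, 2, 1, 4, 3, 2, 1, 3, 2, 1, 3, 4, 3, 2, 1, 3, 2, 3, 4, 3, 5, 6, 1, 0, 4, 3, 2, 1, 0, 3, 2, 1, 6, 2, 4],
   [2, 4, 3, 2, 1, 3, 2, 4, 3, 2, 1, 3, 2, 3, 2, 4, 3, 2, 1, 0, 5, 4, 3, 2, 1, 3, 2, 3, 4, 3, 5, 6, 1, 4, 7, 2, 3, 2, 1, 4, 3, 7, 4],
   [0, 1, 0, 2, 1, 0, 3, 2, 1, 4, 3, 2, 1, 3, 2, 1, 4, 3, 2, 1, 0, 3, 5, 4, 6, 2, 4, 3, 2, 1, 3, 2, 4, 3, 6, 1, 2, 1],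
   [2, 1, 4, 3, 2, 3, 2, 1, 0, 4, 3, 2, 1, 0, 6, 4, 3, 2, 3, 7, 1, 2, 3, 4, 7, 1, 3],
   [1, 0, 2, 1, 3, 2, 1, 4, 5, 4, 3, 2, 1, 3, 2, 3, 4, 3, 2, 1, 3, 2, 4, 3, 5, 4, 6, 1, 0, 3, 2, 3, 4, 3, 2, 1, 0, 6, 2, 3, 2],
   [0, 1, 2, 1, 4, 3, 2, 1, 3, 5, 4, 3, 2, 3, 2, 1, 4, 3, 2, 3, 2, 1, 4, 3, 2, 3, 2, 6, 2, 4, 3, 2, 1, 3, 2, 4, 6, 1, 7, 1],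
   [1, 0, 3, 2, 3, 4, 3, 2, 1, 3, 2, 3, 5, 4, 3, 2, 1, 0, 3, 2, 1, 3, 4, 3, 2, 1, 0, 3, 2, 1, 3, 6, 1, 4, 3, 2, 1, 3, 2, 4, 3, 7, 4, 5],
   [2, 1, 3, 5, 4, 3, 2, 1, 3, 2, 3, 4, 3, 2, 1, 0, 3, 2, 1, 3, 2, 3, 4, 3, 2, 3, 4, 6, 1, 4, 7, 2, 1, 3, 2, 1, 3, 4, 3, 7, 1],
   [0, 4, 3, 2, 3, 2, 1, 4, 3, 2, 3, 5, 4, 3, 2, 1, 3, 2, 3, 2, 1, 4, 3, 2, 1, 5, 4, 6, 1, 2, 4, 3, 6, 2, 3, 7, 1],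
   [1, 3, 2, 1, 3, 5, 4, 3, 2, 1, 3, 2, 1, 0, 3, 4, 3, 2, 1, 3, 2, 1, 0, 4, 3, 5, 6, 1, 2, 3, 4, 3, 2, 1, 0, 3, 2, 1],
   [0, 2, 1, 3, 2, 1, 0, 4, 3, 2, 1, 3, 2, 4, 3, 2, 1, 3, 2, 3, 4, 3, 2, 1, 0, 3, 2, 1, 0, 4, 3, 2, 1, 5, 6, 1, 0, 2, 4, 3, 2, 3, 6, 1, 4, 7, 1, 4],
   [2, 1, 0, 4, 3, 2, 1, 3, 2, 4, 3, 2, 1, 3, 2, 3, 4, 3, 2, 1, 3, 2, 3, 5, 4, 3, 2, 1, 3, 6, 4, 3, 2, 3, 7, 1, 2, 7, 1, 3, 6, 4, 6],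
   [4, 3, 2, 1, 3, 2, 3, 4, 3, 2, 1, 3, 2, 4, 3, 5, 4, 3, 2, 1, 3, 2, 3, 2, 1, 0, 4, 6, 1, 4, 7, 3, 2, 4, 3, 6, 1, 4, 6, 2],
   [0, 3, 2, 1, 3, 2, 3, 2, 1, 0, 4, 3, 2, 1, 3, 2, 3, 4, 3, 2, 1, 0, 3, 2, 1, 0, 6, 4, 3, 2, 6, 1, 3, 7, 2, 4, 7, 1, 3, 7, 2],
   [1, 3, 4, 3, 2, 1, 3, 2, 1, 3, 4, 3, 2, 1, 0, 3, 2, 3, 4, 5, 6, 1, 2, 3, 2, 4, 3, 6, 1, 0, 2, 3, 4, 5],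
   [0, 1, 0, 2, 1, 3, 2, 3, 4, 3, 2, 1, 3, 2, 3, 4, 3, 2, 1, 0, 3, 2, 4, 3, 2, 6, 1, 4, 3, 2, 1, 3, 2, 1, 7],
   [0, 1, 4, 3, 2, 1, 3, 5, 4, 3, 2, 3, 2, 1, 4, 3, 2, 3, 2, 1, 4, 3, 2, 1, 0, 3, 2, 4, 3, 2, 1, 6, 1, 2, 4, 3, 2, 1, 5, 4, 7, 4],
   [1, 0, 2, 1, 0, 3, 2, 3, 4, 3, 2, 1, 3, 2, 3, 4, 3, 2, 1, 3, 2, 3, 2, 4, 3, 2, 5, 4, 6, 1, 2, 3, 2, 4, 7, 1, 3, 6, 2, 4, 3, 6, 4],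
   [1, 2, 1, 3, 2, 4, 3, 2, 5, 4, 3, 2, 1, 0, 3, 2, 1, 3, 2, 4, 3, 2, 1, 3, 2, 4, 3, 2, 3, 6, 4, 3, 2, 6, 1, 2, 6, 3, 2, 4, 3, 2, 1, 6],
   [0, 1, 2, 3, 4, 3, 2, 3, 2, 1, 4, 3, 2, 3, 2, 1, 4, 3, 2, 1, 3, 2, 1, 0, 4, 3, 2, 3, 6, 1, 2, 3, 4, 3, 2, 1, 0, 3, 5, 4, 7, 4],
   [0, 1, 4, 3, 2, 1, 3, 2, 1, 3, 4, 3, 2, 1, 0, 3, 2, 5, 4, 3, 2, 1, 0, 3, 4, 6, 1, 6, 2, 3, 2, 1, 6, 4, 3, 2, 1, 7, 2, 4, 3],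
   [1, 0, 2, 3, 4, 3, 2, 1, 3, 5, 4, 3, 2, 1, 0, 3, 2, 1, 0, 4, 3, 5, 6, 1, 0, 2, 4, 3, 2, 1, 3, 4, 6, 3, 2, 6, 3, 4],
   [0, 4, 3, 2, 1, 0, 3, 5, 4, 3, 2, 1, 3, 2, 3, 4, 3, 2, 1, 3, 2, 3, 4, 3, 5, 4, 3, 2, 1, 3, 2, 3, 4, 6, 1, 3, 4, 3, 2, 7, 1, 0, 4, 5],
   [2, 1, 0, 3, 2, 1, 4, 3, 2, 1, 3, 2, 4, 3, 2, 1, 3, 2, 3, 2, 1, 0, 4, 3, 2, 3, 6, 3, 4, 3, 2, 1, 3, 2, 4, 6, 3, 2],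
   [0, 1, 3, 2, 1, 3, 2, 3, 4, 3, 2, 1, 3, 5, 4, 3, 2, 1, 3, 2, 1, 4, 3, 2, 3, 6, 1, 3, 2, 3, 2, 1, 6, 2, 4, 3],
   [0, 1, 0, 2, 3, 2, 1, 3, 4, 3, 2, 3, 2, 1, 4, 3, 2, 3, 5, 4, 3, 2, 1, 3, 2, 3, 2, 1, 4, 6, 1, 0, 2, 1, 4, 3, 2, 1, 6, 3, 2, 6, 1],
   [0, 5, 4, 3, 2, 1, 3, 2, 1, 3, 2, 1, 4, 3, 2, 1, 0, 3, 2, 5, 6, 1, 2, 7, 3, 2, 4, 3, 6, 4, 7],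
   [0, 1, 2, 3, 2, 3, 4, 3, 2, 1, 3, 2, 3, 2, 1, 4, 3, 2, 3, 2, 1, 0, 4, 3, 2, 1, 5, 6, 1, 2, 4, 3, 2, 1, 5, 4, 3, 2, 7, 4, 7]]

def tWords14 : List (List Nat) :=
  [[1, 4, 3, 2, 1, 3, 2, 3, 4, 3, 2, 1, 3, 2, 3, 2, 4, 3, 2, 1, 3, 2, 3, 2, 1, 0, 4, 6, 1, 2, 4, 3, 2, 1, 6, 1, 3, 2, 4, 7, 3],
   [2, 5, 4, 3, 2, 1, 3, 2, 3, 2, 4, 3, 2, 1, 0, 5, 4, 3, 2, 1, 3, 2, 4, 3, 2, 1, 3, 4, 6, 4, 3, 2, 1, 3, 6, 2, 3, 4, 6],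
   [1, 2, 1, 0, 4, 3, 2, 1, 5, 4, 3, 2, 1, 3, 2, 3, 4, 3, 2, 1, 0, 3, 2, 3, 4, 3, 2, 1, 5, 6, 1, 2, 3, 2, 4, 3, 2, 1, 3, 2, 3, 4, 6, 2, 3],
   [1, 0, 2, 1, 3, 2, 4, 3, 2, 1, 5, 4, 3, 2, 3, 2, 4, 3, 2, 1, 3, 2, 3, 6, 1, 2, 1, 3, 2, 1, 4, 6, 3, 2, 6, 1, 0, 4],
   [3, 5, 4, 3, 2, 1, 0, 3, 2, 1, 0, 3, 2, 3, 4, 3, 2, 1, 3, 2, 4, 3, 2, 5, 4, 3, 2, 1, 0, 6, 4, 6, 3, 2, 1, 6, 1, 7],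
   [2, 1, 3, 2, 4, 3, 5, 4, 3, 2, 1, 3, 2, 3, 2, 1, 4, 3, 2, 5, 4, 3, 2, 1, 6, 1, 0, 3, 2, 1, 3, 2, 4, 3, 2, 1, 0, 5],
   [1, 0, 2, 5, 4, 3, 2, 1, 3, 2, 3, 4, 3, 2, 1, 3, 2, 1, 0, 4, 3, 2, 1, 5, 6, 4, 3, 2, 1, 3, 7, 2, 4, 7, 1, 3, 4, 7],
   [0, 1, 0, 2, 3, 2, 1, 3, 4, 3, 2, 1, 3, 2, 5, 4, 3, 2, 1, 3, 2, 4, 3, 2, 1, 0, 5, 6, 1, 2, 4, 7, 3, 4, 6, 2, 3],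
   [1, 0, 4, 3, 2, 1, 3, 2, 1, 3, 4, 3, 2, 3, 2, 1, 0, 4, 3, 2, 1, 3, 2, 3, 4, 3, 2, 1, 0, 5, 4, 6, 1, 2, 4, 3, 2, 1, 0, 3, 2, 4, 7, 3, 2, 1, 4],
   [1, 0, 5, 4, 3, 2, 3, 2, 1, 4, 3, 2, 1, 3, 2, 1, 0, 3, 4, 3, 2, 5, 6, 1, 2, 4, 6, 3, 2, 6, 1, 3, 4, 5],
   [3, 2, 1, 3, 2, 4, 3, 2, 5, 4, 3, 2, 1, 3, 2, 3, 4, 3, 2, 1, 3, 2, 1, 0, 3, 4, 5, 6, 1, 2, 3, 4, 6, 2, 3, 7, 1, 2, 7, 1, 7],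
   [2, 4, 3, 2, 1, 5, 4, 3, 2, 1, 3, 2, 1, 0, 3, 4, 3, 2, 1, 3, 2, 1, 3, 4, 6, 1, 4, 3, 5, 4, 6, 2, 3, 4, 6, 1],
   [1, 2, 3, 2, 4, 3, 2, 1, 5, 4, 3, 2, 3, 2, 1, 4, 3, 2, 1, 3, 2, 1, 4, 3, 2, 3, 5, 4, 3, 2, 6, 4, 3, 2, 1, 3, 6, 2, 1, 4, 3, 7, 4, 6],
   [1, 0, 5, 4, 3, 2, 1, 3, 2, 1, 3, 4, 3, 2, 1, 3, 2, 1, 4, 3, 2, 6, 1, 0, 4, 3, 2, 1, 3, 6, 2, 3, 7],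
   [0, 2, 1, 4, 3, 2, 1, 3, 5, 4, 3, 2, 1, 3, 2, 3, 4, 3, 2, 1, 3, 2, 3, 4, 3, 2, 1, 3, 2, 3, 6, 1, 2, 3, 2, 4, 3, 2, 1, 6, 1, 0, 2, 3],
   [0, 2, 1, 3, 2, 1, 0, 3, 5, 4, 3, 2, 1, 3, 2, 1, 0, 4, 3, 2, 1, 0, 5, 4, 3, 2, 3, 6, 4, 3, 2, 1, 6, 2, 6, 3, 2, 1, 4, 6],
   [0, 1, 0, 2, 3, 4, 5, 4, 3, 2, 1, 3, 2, 4, 3, 2, 1, 5, 4, 3, 2, 3, 2, 1, 0, 4, 3, 2, 1, 3, 2, 6, 1, 2, 3, 2, 4, 6, 1, 2, 3, 2, 7, 1],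
   [0, 1, 2, 1, 0, 3, 5, 4, 3, 2, 1, 3, 2, 1, 4, 3, 2, 1, 0, 3, 5, 4, 3, 2, 3, 2, 1, 0, 4, 3, 2, 3, 4, 6, 1, 2, 3, 7, 4, 3, 2, 1, 3, 7, 1, 2, 1, 4],
   [1, 5, 4, 3, 2, 1, 3, 2, 1, 3, 4, 3, 2, 1, 3, 2, 1, 4, 3, 2, 1, 0, 3, 5, 4, 3, 2, 3, 2, 6, 1, 0, 2, 1, 3, 2, 4, 3, 2, 1, 5, 4, 3, 7],
   [1, 2, 3, 2, 1, 0, 3, 2, 4, 3, 2, 1, 3, 2, 3, 2, 4, 3, 2, 1, 0, 5, 4, 3, 2, 1, 3, 6, 1, 0, 2, 3, 4, 3, 2, 1, 7, 3, 2, 1, 7, 3],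
   [2, 1, 3, 2, 1, 3, 4, 3, 2, 1, 3, 2, 3, 2, 1, 4, 3, 2, 3, 5, 4, 3, 6, 1, 0, 4, 3, 2, 3, 7, 1, 2, 4],
   [0, 1, 0, 3, 2, 3, 5, 4, 3, 2, 1, 3, 2, 3, 2, 4, 3, 2, 1, 0, 3, 2, 1, 6, 1, 4, 3, 2, 6, 1, 6, 4, 3, 2, 1, 7, 4],
   [0, 1, 0, 3, 2, 1, 4, 3, 2, 1, 3, 4, 5, 4, 3, 2, 1, 3, 2, 3, 4, 3, 2, 1, 6, 4, 3, 2, 7, 1, 3, 2, 6, 4, 3, 2, 1, 7, 2],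
   [3, 2, 1, 4, 3, 2, 1, 3, 2, 1, 4, 3, 2, 1, 3, 2, 3, 4, 3, 5, 6, 1, 2, 1, 3, 2, 1, 4, 3, 5, 4, 7, 4],
   [2, 5, 4, 3, 2, 1, 0, 3, 2, 1, 3, 2, 4, 3, 2, 1, 3, 2, 3, 4, 3, 2, 1, 3, 2, 1, 4, 3, 2, 1, 6, 3, 4, 3, 2, 1, 3, 4, 6, 2, 7, 1],
   [0, 1, 0, 3, 2, 1, 4, 3, 2, 1, 3, 2, 3, 5, 4, 3, 2, 1, 3, 2, 3, 4, 3, 2, 1, 3, 2, 3, 4, 3, 2, 1, 5, 6, 1, 0, 2, 1, 4, 6, 3, 2, 1, 0, 3, 2, 1, 4],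
   [1, 2, 1, 3, 2, 1, 4, 3, 2, 1, 0, 3, 5, 4, 3, 2, 3, 2, 1, 0, 4, 3, 2, 1, 3, 2, 4, 3, 2, 5, 4, 3, 2, 1, 3, 2, 3, 2, 6, 1, 2, 1, 3, 2, 1, 4, 3, 5, 4, 7, 3, 2],
   [0, 1, 0, 3, 2, 1, 0, 3, 2, 4, 3, 2, 1, 3, 2, 3, 2, 4, 3, 2, 1, 0, 3, 2, 3, 4, 3, 5, 4, 6, 1, 2, 3, 2, 1, 4, 3, 2, 6, 1, 6, 2],
   [0, 1, 0, 3, 2, 1, 0, 3, 2, 5, 4, 3, 2, 1, 3, 2, 4, 3, 2, 5, 4, 3, 2, 1, 0, 6, 1, 4, 6, 2, 1, 3, 7, 4],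
   [0, 2, 1, 3, 2, 1, 0, 3, 2, 4, 3, 2, 1, 5, 4, 3, 2, 1, 3, 2, 1, 4, 3, 2, 3, 2, 1, 4, 3, 2, 6, 1, 2, 3, 4, 6, 2, 1, 3, 6, 2, 4, 6, 3],
   [0, 2, 3, 2, 5, 4, 3, 2, 1, 3, 2, 3, 4, 3, 2, 1, 3, 2, 3, 4, 3, 6, 3, 4, 3, 2, 1, 0, 3, 2, 1, 0, 4, 5],
   [1, 0, 2, 1, 0, 3, 2, 1, 4, 3, 2, 1, 3, 5, 4, 3, 2, 1, 3, 2, 4, 3, 2, 1, 3, 2, 4, 6, 1, 7, 2, 3, 2, 1, 4, 6, 3, 2, 4, 3, 6, 4],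
   [1, 0, 3, 2, 1, 4, 3, 2, 3, 2, 1, 4, 3, 2, 1, 3, 2, 5, 4, 3, 2, 3, 4, 5, 6, 2, 4, 3, 2, 1, 3, 2, 6, 3, 4, 6],
   [1, 0, 3, 2, 1, 0, 4, 3, 5, 4, 3, 2, 1, 3, 2, 3, 2, 1, 4, 3, 2, 3, 2, 1, 4, 6, 1, 2, 1, 3, 2, 1, 4, 7, 3],
   [5, 4, 3, 2, 1, 3, 2, 1, 0, 4, 3, 2, 1, 3, 2, 4, 3, 2, 1, 0, 3, 2, 4, 5, 6, 4, 3, 2, 7, 1, 3, 2, 4, 3, 2, 1, 7, 2],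
   [4, 3, 2, 1, 0, 3, 2, 1, 3, 4, 3, 2, 1, 3, 2, 1, 4, 3, 2, 3, 2, 4, 3, 6, 1, 0, 2, 3, 2, 4, 6, 1, 3, 7, 2, 4, 3, 2, 3],
   [3, 2, 1, 3, 2, 3, 4, 3, 2, 1, 3, 2, 3, 4, 3, 2, 1, 0, 3, 2, 1, 4, 6, 4, 3, 2, 1, 0, 3, 2, 5, 4, 3, 7, 2, 1],
   [0, 1, 0, 3, 2, 1, 3, 4, 3, 2, 1, 3, 2, 3, 4, 3, 2, 1, 0, 3, 2, 1, 4, 3, 6, 1, 4, 7, 2, 3, 2, 1, 0, 4, 6, 3, 4],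
   [0, 1, 2, 1, 5, 4, 3, 2, 1, 3, 2, 3, 4, 3, 2, 1, 3, 2, 3, 4, 3, 2, 1, 3, 2, 3, 4, 3, 2, 3, 6, 1, 4, 7, 2, 1, 3, 2, 3, 4, 7, 1],
   [0, 2, 1, 3, 2, 1, 0, 3, 2, 1, 4, 3, 2, 1, 0, 3, 4, 5, 4, 3, 2, 1, 0, 3, 2, 4, 3, 6, 1, 0, 2, 1, 3, 4, 7, 4, 3, 2, 3, 2, 4, 5]]

def tWords15 : List (List Nat) :=
  [[0, 1, 2, 3, 2, 1, 3, 4, 3, 2, 1, 0, 3, 2, 1, 5, 4, 3, 2, 1, 3, 2, 4, 3, 2, 6, 4, 3, 2, 7, 1, 3, 2, 3, 2, 4, 7],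
   [0, 1, 0, 3, 2, 1, 4, 3, 2, 1, 3, 2, 4, 3, 2, 1, 0, 3, 2, 3, 4, 3, 2, 1, 3, 2, 3, 5, 6, 4, 3, 2, 1, 3, 2, 4, 6, 2],
   [4, 3, 2, 1, 3, 2, 1, 4, 3, 2, 1, 3, 2, 3, 4, 3, 2, 1, 3, 2, 4, 3, 2, 1, 6, 1, 0, 4, 3, 2, 1, 3, 5, 4, 3, 2, 6, 1],
   [0, 3, 4, 3, 2, 3, 2, 1, 4, 3, 2, 1, 3, 2, 4, 3, 2, 1, 0, 3, 2, 1, 3, 2, 4, 3, 6, 1, 2, 3, 2, 3, 4, 3, 6, 2, 1, 6, 1],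
   [4, 3, 2, 5, 4, 3, 2, 1, 3, 2, 3, 2, 1, 4, 3, 2, 1, 0, 3, 2, 1, 0, 4, 3, 2, 1, 6, 1, 2, 1, 3, 4, 3, 2, 1, 7, 1, 3, 6],
   [2, 1, 3, 5, 4, 3, 2, 1, 0, 3, 2, 1, 3, 4, 3, 2, 1, 3, 2, 1, 4, 3, 2, 1, 3, 2, 4, 5, 6, 1, 0, 2, 1, 3, 4, 7, 3, 2, 1, 3, 2, 6, 1],
   [0, 1, 0, 2, 1, 3, 2, 1, 0, 5, 4, 3, 2, 1, 3, 2, 3, 2, 4, 3, 2, 1, 0, 3, 2, 1, 4, 6, 1, 4, 6, 2, 1, 3, 2, 3, 6, 4, 7],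
   [0, 3, 2, 1, 0, 4, 3, 2, 1, 5, 4, 3, 2, 3, 2, 4, 3, 2, 1, 0, 3, 2, 1, 3, 2, 4, 3, 2, 5, 4, 3, 6, 1, 2, 3, 2, 1, 6, 4, 3, 7, 2, 3, 4, 7, 1],
   [2, 1, 5, 4, 3, 6, 1, 0, 3, 2, 4, 3, 2, 1, 3, 2, 4, 6, 4],
   [1, 0, 2, 4, 3, 5, 4, 3, 2, 1, 3, 2, 3, 2, 1, 4, 3, 2, 1, 0, 3, 2, 1, 5, 4, 3, 2, 1, 6, 1, 2, 3, 2, 1, 3, 4, 3, 6, 2, 3, 6, 1, 6],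
   [1, 0, 2, 3, 4, 3, 2, 1, 3, 2, 3, 5, 4, 3, 2, 1, 3, 2, 3, 4, 3, 2, 1, 3, 2, 1, 3, 4, 3, 2, 1, 3, 2, 1, 3, 4, 6, 4, 3, 7, 2, 3, 4, 7, 1, 2, 4, 7, 1],
   [0, 4, 3, 2, 3, 2, 1, 4, 3, 2, 3, 5, 4, 3, 2, 1, 3, 2, 3, 6, 1, 2, 3, 4, 3, 7, 2, 1, 0],
   [0, 1, 2, 1, 3, 2, 1, 3, 4, 3, 2, 3, 5, 4, 3, 2, 1, 3, 2, 3, 2, 4, 3, 2, 1, 0, 3, 2, 6, 1, 0, 2, 3, 4, 3, 2, 1, 3, 2, 4, 3, 5, 4, 3],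
   [2, 3, 2, 3, 4, 3, 2, 1, 3, 2, 3, 2, 1, 4, 3, 2, 3, 2, 1, 4, 3, 2, 1, 6, 4, 7, 3, 4, 7, 1, 2, 1, 3, 2, 1, 4, 3, 2],
   [0, 3, 2, 1, 0, 3, 2, 1, 4, 3, 2, 1, 3, 2, 1, 3, 4, 3, 2, 5, 4, 3, 2, 6, 2, 4, 3, 2, 1, 3, 6, 4, 5],
   [1, 2, 1, 3, 2, 1, 4, 3, 2, 1, 3, 2, 1, 0, 4, 3, 2, 1, 0, 3, 2, 3, 4, 3, 2, 1, 3, 2, 5, 6, 1, 2, 4, 7, 3, 2, 1, 6, 4, 3, 2, 6, 3],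
   [2, 1, 3, 2, 3, 4, 3, 2, 1, 3, 2, 3, 5, 4, 3, 2, 1, 0, 3, 2, 3, 4, 3, 2, 1, 6, 4, 3, 2, 1, 3, 2, 7, 1, 4, 6, 3, 4, 7],
   [1, 3, 2, 1, 3, 2, 1, 3, 4, 3, 2, 1, 3, 2, 1, 3, 4, 3, 2, 3, 2, 1, 4, 5, 6, 1, 4, 7, 2, 1, 3, 2, 3, 4, 7, 1, 4],
   [0, 2, 1, 0, 3, 4, 3, 2, 1, 3, 2, 3, 5, 4, 3, 2, 1, 0, 3, 2, 1, 4, 3, 5, 4, 6, 1, 2, 6, 3, 4, 6, 1, 2, 3, 2, 4, 3, 6],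
   [0, 2, 1, 3, 2, 1, 3, 2, 1, 0, 4, 3, 2, 1, 5, 4, 3, 2, 6, 4, 3, 2, 1, 7, 3, 2, 3, 4, 6, 3, 2],
   [0, 1, 3, 4, 3, 2, 1, 0, 3, 2, 5, 4, 3, 2, 1, 3, 2, 4, 3, 2, 3, 4, 5, 6, 4, 3, 2, 5, 4, 3, 6, 1, 2, 3, 4, 3, 7, 1],
   [0, 1, 0, 2, 1, 3, 2, 4, 3, 2, 1, 0, 3, 2, 3, 4, 3, 2, 1, 3, 2, 3, 5, 4, 3, 2, 1, 0, 3, 6, 4, 3, 7, 2, 1, 3, 4, 7, 2, 1, 3, 2, 3],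
   [0, 1, 2, 1, 3, 2, 1, 0, 5, 4, 3, 2, 1, 3, 2, 3, 2, 4, 3, 2, 1, 0, 5, 6, 1, 2, 3, 4, 3, 2, 3, 7, 1, 6, 2, 3, 7],
   [0, 1, 0, 2, 1, 3, 2, 4, 3, 2, 1, 0, 3, 2, 1, 4, 3, 2, 5, 4, 3, 2, 1, 0, 6, 4, 3, 2, 1, 7, 3, 2, 4, 3, 7, 2, 4, 5],
   [1, 0, 2, 3, 4, 3, 2, 3, 2, 1, 0, 4, 3, 2, 1, 3, 2, 4, 3, 2, 1, 5, 4, 3, 2, 1, 0, 3, 2, 4, 3, 5, 6, 4, 3, 7, 2, 1, 3, 2, 3, 6, 4, 3, 7, 4],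
   [1, 0, 2, 3, 2, 1, 0, 3, 2, 3, 4, 3, 2, 1, 3, 2, 3, 2, 4, 3, 2, 1, 3, 2, 4, 3, 2, 1, 3, 2, 3, 6, 1, 0, 2, 1, 4, 3, 6, 2, 1, 0, 4, 7, 3, 2],
   [1, 3, 2, 4, 3, 2, 1, 5, 4, 3, 2, 1, 0, 3, 2, 1, 0, 4, 3, 2, 1, 3, 2, 3, 4, 3, 2, 5, 6, 1, 2, 4, 3, 2, 7, 1, 0, 2, 3, 2, 1, 7],
   [1, 2, 1, 5, 4, 3, 2, 1, 3, 2, 4, 3, 2, 1, 0, 3, 2, 3, 4, 3, 2, 6, 1, 0, 2, 1, 3, 2, 3, 4, 3, 2, 1, 3, 4, 6],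
   [0, 1, 3, 2, 1, 4, 3, 2, 3, 2, 4, 3, 2, 1, 3, 2, 3, 2, 1, 4, 3, 2, 1, 0, 3, 6, 4, 3, 2, 3, 6, 1, 4, 3, 2, 5, 4],
   [0, 1, 2, 1, 0, 4, 3, 2, 1, 5, 4, 3, 2, 1, 3, 2, 1, 4, 3, 2, 1, 5, 4, 3, 2, 1, 3, 2, 4, 3, 6, 1, 0, 3, 4, 3, 2, 1, 3, 2, 3, 4, 6, 3, 6],
   [1, 2, 3, 2, 1, 0, 4, 3, 2, 1, 3, 2, 4, 3, 2, 1, 3, 2, 3, 4, 3, 2, 1, 0, 3, 2, 4, 3, 5, 4, 6, 1, 2, 4, 3, 2, 1, 6, 1, 4, 3, 2, 1, 0, 3, 4],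
   [0, 2, 3, 2, 1, 0, 3, 2, 4, 3, 2, 1, 3, 2, 3, 4, 3, 2, 1, 3, 2, 1, 4, 3, 2, 5, 6, 1, 2, 3, 4, 3, 2, 3, 7, 1, 0, 2, 1, 3, 7],
   [1, 4, 3, 2, 1, 3, 2, 3, 4, 3, 2, 1, 3, 2, 1, 3, 4, 3, 2, 1, 3, 2, 4, 3, 2, 1, 5, 6, 4, 3, 2, 1, 3, 2, 1, 4, 3, 7, 2],
   [2, 1, 4, 3, 2, 1, 5, 4, 3, 2, 3, 2, 1, 0, 4, 3, 2, 1, 3, 2, 3, 2, 6, 1, 7, 2, 1, 3, 2, 4, 3, 2, 1, 7, 4, 3],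
   [0, 1, 2, 1, 3, 2, 1, 0, 3, 5, 4, 3, 2, 1, 3, 2, 1, 3, 4, 3, 2, 1, 3, 2, 3, 2, 1, 4, 3, 2, 1, 6, 1, 0, 2, 1, 3, 2, 4, 3, 2, 7, 1, 7, 4],
   [0, 1, 3, 2, 1, 4, 3, 2, 1, 0, 3, 2, 4, 3, 5, 4, 3, 2, 1, 3, 2, 1, 3, 2, 4, 6, 1, 2, 3, 6, 4, 3, 6, 1, 2, 6, 1, 3, 6],
   [0, 3, 4, 3, 2, 3, 2, 1, 4, 3, 2, 1, 3, 2, 1, 4, 3, 2, 3, 2, 1, 4, 3, 2, 3, 4, 5, 6, 1, 4, 6, 3, 2, 4, 3, 7, 1],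
   [1, 0, 3, 2, 1, 3, 2, 1, 4, 3, 2, 1, 3, 5, 4, 3, 2, 3, 2, 1, 0, 4, 3, 2, 1, 3, 2, 3, 2, 4, 3, 2, 5, 4, 3, 6, 1, 0, 4, 3, 2, 1, 3, 2, 4, 3, 2, 6, 1, 7, 1],
   [1, 3, 2, 1, 5, 4, 3, 2, 1, 3, 2, 1, 4, 3, 2, 1, 3, 2, 1, 3, 4, 3, 2, 1, 3, 2, 4, 3, 2, 3, 6, 4, 3, 2, 1, 3, 2, 3, 4, 3, 2, 1, 6, 1],
   [3, 2, 1, 0, 3, 5, 4, 3, 2, 1, 3, 2, 1, 4, 3, 2, 1, 0, 3, 5, 4, 3, 2, 1, 3, 2, 4, 3, 2, 1, 5, 4, 3, 2, 3, 6, 4, 3, 2, 1, 7, 3, 2, 3, 4]]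

def tWords16 : List (List Nat) :=
  [[4, 3, 2, 3, 5, 4, 3, 2, 1, 3, 2, 4, 3, 2, 1, 5, 4, 3, 2, 1, 0, 3, 2, 4, 3, 2, 1, 6, 4, 3, 2, 1, 3, 4, 7, 3, 2, 4, 3],
   [1, 3, 2, 1, 0, 3, 2, 3, 4, 3, 2, 1, 3, 2, 3, 5, 4, 3, 2, 1, 0, 3, 2, 6, 1, 2, 3, 2, 4, 3, 6, 1, 2, 1, 6, 3, 2],
   [0, 2, 3, 4, 3, 2, 1, 3, 2, 4, 3, 5, 4, 3, 2, 1, 3, 2, 1, 3, 2, 1, 0, 4, 3, 2, 1, 3, 2, 3, 2, 6, 4, 3, 2, 3, 7, 1, 0, 2, 1, 4, 3, 7, 2, 3],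
   [1, 2, 4, 3, 2, 1, 3, 2, 3, 4, 3, 2, 1, 3, 2, 3, 5, 4, 3, 2, 1, 0, 3, 2, 1, 3, 4, 3, 2, 6, 1, 2, 3, 2, 6, 4, 3, 2, 7, 1, 4, 3, 2],
   [1, 3, 2, 1, 0, 3, 5, 4, 3, 2, 1, 3, 2, 1, 4, 3, 2, 1, 0, 3, 4, 5, 4, 3, 2, 1, 3, 4, 6, 1, 0, 2, 1, 0, 3, 4, 3, 2, 1, 3, 7, 2, 4],
   [0, 2, 1, 3, 2, 1, 0, 3, 4, 3, 2, 1, 0, 3, 2, 3, 4, 3, 2, 1, 3, 2, 1, 0, 3, 4, 5, 6, 1, 2, 3, 2, 1, 4, 3, 5, 4, 6, 1, 2],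
   [0, 2, 3, 4, 3, 2, 1, 3, 2, 1, 4, 3, 2, 1, 3, 2, 3, 5, 4, 3, 2, 1, 3, 2, 4, 6, 3, 4, 3, 2, 1, 0, 3, 2, 3, 4, 3],
   [0, 1, 0, 3, 2, 1, 0, 3, 2, 4, 3, 2, 1, 3, 2, 3, 2, 4, 3, 2, 1, 0, 3, 2, 3, 4, 3, 5, 4, 6, 1, 2, 3, 2, 1, 0, 4, 3, 6, 2, 6, 1],
   [1, 0, 2, 5, 4, 3, 2, 1, 3, 2, 3, 4, 3, 2, 1, 0, 3, 5, 4, 3, 2, 1, 3, 2, 1, 3, 4, 6, 4, 3, 2, 7, 1, 3, 4, 7, 1, 2, 1, 3, 4],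
   [1, 3, 2, 3, 4, 3, 2, 1, 3, 2, 1, 4, 3, 2, 1, 3, 2, 3, 4, 3, 2, 1, 5, 4, 3, 2, 1, 3, 2, 6, 1, 2, 4, 3, 2, 6, 1, 2, 4, 6, 3, 2],
   [0, 1, 0, 2, 1, 0, 3, 4, 3, 2, 1, 0, 3, 5, 4, 3, 2, 1, 3, 2, 3, 2, 4, 3, 2, 1, 3, 2, 3, 4, 6, 1, 0, 2, 1, 3, 6, 2, 4, 3, 2, 1, 3, 4, 7, 3],
   [0, 2, 3, 4, 3, 2, 1, 3, 5, 4, 3, 2, 1, 0, 3, 2, 1, 4, 3, 2, 5, 4, 3, 2, 1, 3, 2, 3, 4, 6, 1, 7, 2, 1, 7, 3, 4, 3, 2, 3, 2, 1, 6, 4],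
   [0, 2, 3, 2, 1, 4, 3, 2, 5, 4, 3, 2, 1, 3, 2, 3, 2, 1, 0, 4, 3, 2, 1, 0, 5, 6, 1, 0, 2, 1, 3, 2, 4, 7, 4, 6],
   [0, 2, 1, 3, 2, 1, 4, 5, 4, 3, 2, 1, 0, 3, 4, 6, 1, 2, 6, 3, 2, 4, 3, 2, 1, 7, 3, 2, 1, 3],
   [4, 5, 4, 3, 2, 1, 3, 2, 3, 4, 3, 2, 1, 3, 2, 3, 2, 1, 0, 4, 3, 2, 1, 3, 4, 6, 1, 4, 3, 2, 3, 4, 7, 2, 1, 4],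
   [0, 5, 4, 3, 2, 1, 3, 2, 1, 0, 4, 3, 2, 1, 5, 4, 3, 2, 1, 3, 2, 1, 4, 3, 2, 1, 3, 2, 1, 4, 3, 2, 3, 6, 4, 3, 2, 3, 4, 7, 1, 3, 6, 2, 1, 3, 4, 6],
   [1, 0, 5, 4, 3, 2, 1, 3, 2, 3, 4, 3, 2, 1, 3, 2, 4, 3, 5, 4, 3, 2, 1, 0, 3, 2, 1, 3, 4, 5, 6, 1, 0, 4, 3, 2, 3, 2, 1, 0, 4, 3, 2, 1, 7],
   [0, 1, 0, 3, 2, 1, 0, 4, 3, 2, 1, 3, 2, 4, 3, 2, 1, 0, 3, 2, 1, 3, 4, 3, 2, 5, 4, 3, 6, 1, 3, 4, 3, 2, 3, 4, 6, 2, 3, 7, 1, 0],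
   [1, 3, 4, 5, 4, 3, 2, 1, 3, 2, 4, 3, 2, 1, 3, 2, 4, 3, 2, 1, 0, 3, 2, 1, 4, 3, 2, 5, 4, 6, 1, 2, 4, 6, 3, 2, 7, 1, 0, 3, 4, 5],
   [1, 0, 3, 2, 1, 5, 4, 3, 2, 1, 0, 3, 2, 1, 4, 3, 2, 1, 3, 2, 4, 3, 2, 6, 1, 2, 4, 3, 2, 1, 0, 3, 4, 6, 2, 1, 6],
   [0, 1, 0, 4, 3, 2, 1, 3, 2, 1, 3, 4, 3, 2, 1, 3, 2, 1, 3, 4, 3, 2, 1, 3, 2, 1, 3, 4, 3, 2, 5, 6, 1, 2, 3, 2, 3, 4, 3, 2, 1, 7, 2, 4, 3, 7],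
   [1, 0, 3, 5, 4, 3, 2, 1, 3, 2, 4, 3, 2, 1, 0, 3, 2, 3, 4, 3, 2, 1, 0, 3, 2, 1, 5, 6, 4, 3, 2, 1, 3, 6, 1, 2, 4, 3, 2, 5, 4],
   [0, 5, 4, 3, 2, 1, 3, 2, 1, 4, 3, 2, 1, 3, 2, 6, 1, 2, 4, 3, 6, 4, 6, 1, 2, 3, 2, 6, 4, 6],
   [0, 1, 2, 5, 4, 3, 2, 1, 3, 2, 4, 3, 2, 1, 0, 5, 4, 3, 2, 1, 3, 2, 3, 2, 4, 3, 2, 6, 1, 2, 3, 4, 3, 2, 3, 7, 1, 6, 2, 7],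
   [0, 3, 4, 3, 2, 3, 2, 1, 4, 3, 2, 3, 2, 1, 0, 4, 3, 2, 1, 3, 2, 3, 4, 3, 2, 3, 2, 6, 1, 0, 2, 1, 4, 3, 2, 1, 6, 2, 6],
   [1, 2, 1, 5, 4, 3, 2, 1, 3, 2, 4, 3, 2, 1, 3, 2, 4, 3, 2, 1, 0, 3, 4, 5, 6, 1, 4, 6, 3, 2, 1, 7, 1, 6],
   [0, 2, 1, 3, 2, 1, 3, 4, 5, 4, 3, 2, 1, 3, 2, 4, 3, 2, 1, 0, 5, 4, 3, 2, 1, 3, 2, 3, 4, 3, 6, 1, 0, 3, 2, 3, 4, 6, 3],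
   [2, 1, 0, 3, 2, 1, 0, 3, 2, 3, 4, 3, 2, 1, 3, 2, 1, 4, 3, 2, 1, 0, 5, 4, 3, 2, 1, 0, 3, 2, 4, 3, 5, 6, 1, 2, 3, 7, 4, 6, 3, 2, 1, 0],
   [0, 1, 0, 3, 2, 1, 3, 2, 1, 4, 3, 2, 1, 3, 2, 1, 4, 3, 2, 1, 0, 3, 2, 6, 1, 2, 3, 2, 6, 4, 7, 3, 2, 4, 7, 1, 0, 2],
   [1, 2, 1, 0, 3, 4, 3, 2, 1, 3, 2, 4, 3, 5, 4, 3, 2, 1, 3, 2, 3, 2, 1, 4, 3, 2, 1, 0, 3, 2, 1, 4, 3, 2, 1, 6, 1, 0, 4, 3, 2, 3, 6, 1, 4, 3, 2, 1, 5],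
   [5, 4, 3, 2, 1, 3, 2, 1, 3, 2, 1, 4, 3, 2, 1, 0, 3, 4, 5, 4, 3, 2, 1, 6, 4, 3, 2, 1, 3, 5, 4, 6, 2, 1, 3, 7, 3],
   [0, 1, 2, 1, 4, 3, 2, 3, 2, 1, 4, 3, 2, 1, 3, 5, 4, 3, 2, 1, 3, 2, 4, 3, 2, 5, 6, 1, 0, 2, 4, 3, 2, 5, 4, 3, 7, 2, 4, 3],
   [0, 1, 0, 3, 2, 1, 0, 3, 2, 1, 4, 3, 2, 1, 0, 3, 5, 4, 3, 2, 1, 3, 2, 1, 0, 4, 3, 2, 1, 3, 6, 4, 3, 2, 3, 7, 1, 2, 4, 6, 1, 3, 4, 7, 3],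
   [0, 3, 2, 1, 5, 4, 3, 2, 1, 0, 3, 2, 1, 0, 4, 3, 2, 1, 5, 4, 3, 2, 3, 2, 4, 3, 2, 1, 0, 3, 2, 1, 3, 2, 4, 3, 6, 4, 3, 2, 3, 6, 1, 2, 4, 7, 3, 4, 7, 1],
   [3, 2, 1, 0, 3, 4, 3, 2, 1, 0, 3, 5, 4, 3, 2, 3, 6, 1, 2, 3, 4, 6, 2, 3, 2, 1, 6, 4, 3],
   [0, 3, 5, 4, 3, 2, 3, 2, 1, 4, 3, 2, 3, 2, 1, 4, 3, 2, 1, 0, 5, 6, 1, 0, 2, 1, 3, 2, 4, 3, 2, 3, 4, 7, 1, 3],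
   [0, 1, 0, 3, 5, 4, 3, 2, 1, 3, 2, 4, 3, 2, 1, 3, 2, 3, 2, 4, 3, 2, 1, 3, 2, 3, 2, 4, 5, 6, 1, 2, 3, 2, 7, 1, 2, 4, 3, 2, 1, 7, 2],
   [1, 2, 1, 0, 3, 5, 4, 3, 2, 1, 3, 2, 1, 0, 3, 4, 3, 2, 1, 3, 2, 3, 4, 5, 4, 3, 6, 3, 4, 3, 2, 1, 3, 2, 1, 4, 3, 6, 4, 6],
   [0, 1, 2, 1, 3, 2, 4, 3, 2, 1, 3, 2, 3, 2, 1, 0, 4, 3, 5, 4, 6, 1, 0, 2, 4, 3, 2, 3, 7, 1, 4, 6, 2],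
   [2, 3, 4, 3, 2, 1, 3, 2, 1, 4, 3, 2, 5, 4, 3, 2, 1, 0, 3, 2, 1, 3, 2, 4, 3, 2, 3, 6, 1, 2, 3, 2, 1, 4, 3, 7, 1, 6]]

def tWords17 : List (List Nat) :=
  [[2, 1, 0, 3, 2, 3, 4, 3, 2, 1, 5, 4, 3, 2, 1, 0, 3, 2, 4, 3, 2, 1, 6, 1, 4, 3, 2, 1, 3, 2, 5, 4, 3, 6],
   [0, 3, 2, 1, 3, 2, 1, 4, 3, 2, 1, 0, 3, 5, 4, 3, 2, 1, 3, 2, 1, 4, 3, 2, 1, 3, 2, 1, 4, 6, 4, 3, 2, 6, 1, 3, 2, 3, 4, 3, 7, 2, 1, 7],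
   [0, 2, 3, 2, 1, 5, 4, 3, 2, 1, 3, 2, 1, 0, 3, 4, 3, 2, 1, 3, 2, 1, 4, 3, 2, 1, 5, 4, 3, 2, 6, 1, 4, 3, 2, 1, 3, 7, 1, 4, 3, 2],
   [0, 2, 1, 0, 3, 2, 1, 4, 3, 2, 3, 2, 1, 4, 3, 2, 1, 3, 5, 4, 3, 2, 1, 3, 2, 4, 3, 2, 1, 3, 4, 6, 1, 2, 3, 4, 7, 2, 1, 4, 3, 2, 3, 4],
   [1, 4, 3, 2, 1, 5, 4, 3, 2, 1, 3, 2, 1, 0, 4, 3, 2, 1, 0, 3, 2, 3, 4, 3, 2, 3, 2, 1, 0, 6, 1, 2, 7, 3, 2, 1, 4, 3, 2, 3, 4, 6, 1, 4],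
   [0, 4, 3, 2, 1, 0, 3, 2, 1, 5, 4, 3, 2, 1, 3, 2, 4, 3, 2, 1, 3, 2, 3, 2, 4, 6, 1, 0, 2, 3, 2, 4, 3, 2, 1, 6, 1, 4, 7],
   [1, 3, 2, 1, 0, 3, 2, 1, 4, 3, 2, 1, 5, 4, 3, 2, 1, 0, 3, 2, 4, 6, 1, 2, 1, 3, 4, 6, 1, 3, 2, 3, 2, 4, 5],
   [0, 1, 0, 3, 5, 4, 3, 2, 1, 3, 2, 1, 4, 3, 2, 3, 2, 1, 4, 3, 2, 3, 4, 5, 6, 1, 4, 3, 2, 1, 0, 3, 2, 4, 7, 3, 2],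
   [1, 2, 3, 4, 3, 2, 1, 0, 3, 2, 1, 4, 3, 2, 3, 2, 1, 4, 3, 2, 1, 6, 1, 0, 2, 1, 3, 6, 2, 4, 3, 7, 4, 7, 1, 3],
   [1, 0, 3, 4, 3, 5, 4, 3, 2, 1, 3, 2, 4, 3, 2, 1, 3, 2, 4, 3, 2, 1, 0, 3, 2, 1, 4, 3, 2, 5, 6, 1, 2, 3, 4, 3, 7, 2, 1, 7, 1, 3, 4, 7, 3],
   [0, 2, 1, 3, 2, 3, 2, 4, 3, 2, 1, 3, 2, 4, 3, 2, 1, 3, 2, 3, 4, 5, 6, 1, 0, 4, 6, 2, 1, 3, 2, 3, 4],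
   [3, 2, 1, 4, 3, 2, 3, 2, 1, 4, 3, 2, 3, 5, 4, 3, 2, 1, 3, 2, 3, 2, 1, 0, 4, 3, 6, 3, 4, 3, 2, 1, 3, 2, 4, 7, 4, 6],
   [1, 2, 1, 3, 2, 1, 4, 3, 2, 3, 2, 1, 4, 3, 2, 1, 3, 5, 4, 3, 2, 1, 0, 3, 6, 1, 4, 6, 2, 6, 3, 4, 7],
   [1, 2, 4, 3, 2, 5, 4, 3, 2, 1, 0, 3, 2, 1, 3, 2, 4, 3, 2, 1, 3, 2, 4, 3, 2, 1, 0, 3, 2, 1, 4, 3, 2, 1, 3, 4, 6, 1, 2, 3, 4, 6, 2, 3, 7, 1, 2, 6],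
   [0, 2, 1, 3, 2, 1, 3, 2, 1, 4, 3, 2, 1, 0, 3, 5, 4, 3, 2, 1, 3, 2, 4, 3, 5, 4, 6, 1, 0, 2, 1, 0, 3, 4, 3, 2, 3, 4, 6],
   [1, 0, 2, 1, 3, 2, 3, 4, 3, 2, 1, 0, 3, 2, 1, 3, 2, 3, 4, 3, 2, 1, 5, 4, 3, 2, 1, 0, 3, 2, 1, 4, 6, 1, 0, 2, 1, 3, 2, 4, 3, 6, 2, 3, 4, 5],
   [4, 3, 2, 3, 2, 1, 4, 3, 2, 1, 3, 2, 4, 3, 2, 1, 3, 2, 3, 2, 1, 4, 3, 2, 1, 3, 4, 6, 1, 0, 4, 3, 2, 1, 3, 2, 6, 4, 3],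
   [0, 1, 2, 1, 0, 3, 2, 1, 0, 3, 4, 3, 2, 1, 3, 2, 1, 4, 3, 2, 1, 3, 2, 1, 4, 5, 6, 1, 0, 2, 1, 3, 2, 3, 4, 3, 2, 1, 3, 6, 2, 1],
   [0, 2, 1, 3, 2, 1, 4, 3, 2, 3, 5, 4, 3, 2, 1, 3, 2, 3, 2, 1, 0, 4, 3, 2, 1, 0, 3, 4, 5, 6, 1, 0, 4, 3, 2, 1, 3, 5, 4, 7, 1, 2, 3],
   [0, 2, 1, 3, 2, 1, 4, 3, 2, 1, 0, 3, 2, 5, 4, 3, 2, 1, 3, 2, 3, 2, 4, 3, 2, 1, 0, 3, 2, 6, 1, 0, 2, 3, 4, 3, 2, 1, 0, 3, 5],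
   [1, 0, 3, 4, 3, 2, 1, 3, 2, 1, 3, 4, 3, 2, 1, 3, 2, 3, 4, 3, 2, 1, 3, 2, 1, 4, 3, 2, 1, 3, 2, 4, 3, 2, 1, 3, 2, 3, 6, 4, 3, 2, 3, 7, 1, 0, 2, 4, 3, 7, 1],
   [2, 1, 3, 2, 3, 4, 3, 2, 1, 0, 3, 2, 1, 3, 2, 4, 3, 2, 5, 6, 4, 3, 2, 3, 6, 1, 2, 3, 6, 4, 3, 2, 5, 4],
   [1, 2, 3, 2, 1, 4, 3, 2, 1, 0, 3, 5, 4, 3, 2, 1, 3, 2, 1, 3, 4, 3, 2, 1, 3, 2, 4, 3, 2, 1, 0, 6, 1, 0, 4, 3, 2, 3, 2, 1, 4, 3, 7, 3],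
   [0, 1, 3, 5, 4, 3, 2, 1, 3, 2, 1, 3, 2, 4, 3, 2, 1, 0, 5, 4, 3, 2, 1, 0, 3, 2, 4, 3, 2, 1, 0, 6, 1, 2, 4, 3, 2, 1, 6, 3, 4, 3, 2, 3, 6, 4],
   [3, 2, 1, 0, 4, 3, 2, 1, 5, 4, 3, 2, 1, 3, 2, 1, 0, 4, 3, 2, 6, 1, 3, 2, 3, 2, 1, 4, 3, 5, 4],
   [2, 3, 4, 3, 2, 1, 5, 4, 3, 2, 1, 3, 2, 3, 4, 3, 2, 1, 3, 2, 4, 3, 2, 1, 3, 2, 6, 1, 2, 3, 6, 4, 3, 2, 3, 2, 1, 4],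
   [1, 2, 1, 0, 3, 2, 1, 4, 5, 4, 3, 2, 1, 3, 2, 4, 3, 2, 1, 3, 2, 4, 3, 2, 5, 4, 3, 2, 1, 3, 6, 1, 2, 3, 2, 4, 6, 1, 3, 2, 4, 3, 6, 2, 6],
   [2, 1, 3, 2, 1, 0, 5, 4, 3, 2, 1, 0, 3, 2, 1, 4, 3, 2, 1, 3, 2, 4, 3, 2, 3, 6, 1, 4, 6, 2, 1, 3, 2, 3, 4, 3, 2, 7],
   [1, 0, 2, 1, 3, 2, 1, 3, 2, 5, 4, 3, 2, 1, 0, 3, 2, 3, 4, 3, 2, 1, 0, 3, 2, 5, 6, 1, 0, 3, 2, 1, 4, 3, 2, 1, 3, 4, 7, 2],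
   [4, 5, 4, 3, 2, 1, 3, 2, 3, 4, 3, 2, 1, 0, 3, 2, 1, 3, 4, 3, 2, 1, 3, 2, 3, 2, 1, 4, 5, 6, 4, 3, 2, 3, 6, 1, 2, 3, 6, 4, 3, 7],
   [0, 1, 3, 2, 1, 5, 4, 3, 2, 1, 3, 2, 3, 4, 3, 2, 1, 0, 3, 2, 4, 3, 2, 1, 0, 6, 3, 4, 3, 2, 1, 3, 2, 5, 4, 3, 7, 2],
   [0, 1, 0, 2, 3, 2, 5, 4, 3, 2, 1, 0, 3, 2, 1, 4, 3, 2, 3, 2, 1, 0, 4, 3, 2, 6, 1, 2, 4, 3, 2, 6, 1, 2, 3, 6, 4, 7, 3],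
   [0, 1, 3, 2, 1, 0, 3, 2, 1, 4, 3, 2, 1, 3, 2, 4, 3, 2, 5, 4, 3, 2, 1, 0, 3, 2, 1, 3, 2, 3, 4, 3, 2, 5, 4, 6, 3, 4, 3, 2, 1, 5, 4, 3, 2, 3, 4, 7],
   [0, 2, 1, 0, 3, 4, 5, 4, 3, 2, 1, 3, 2, 4, 3, 2, 1, 3, 2, 4, 3, 2, 3, 6, 1, 3, 4, 3, 2, 3, 5, 4, 6, 3],
   [3, 2, 1, 0, 3, 5, 4, 3, 2, 1, 3, 2, 4, 3, 2, 1, 0, 5, 4, 3, 2, 1, 3, 2, 3, 2, 6, 2, 4, 3, 2, 1, 3, 2, 3, 2, 4, 7],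
   [1, 0, 5, 4, 3, 2, 1, 3, 2, 3, 2, 1, 4, 3, 2, 1, 0, 3, 2, 1, 4, 3, 2, 1, 3, 4, 6, 1, 0, 3, 2, 1, 3, 2, 3, 4, 3, 2, 1, 0],
   [0, 2, 1, 4, 3, 2, 1, 3, 2, 1, 3, 4, 3, 2, 1, 3, 2, 1, 4, 3, 2, 1, 5, 4, 6, 4, 3, 2, 6, 1, 3, 2, 4, 7, 1, 7, 2],
   [0, 1, 0, 2, 1, 3, 2, 1, 3, 5, 4, 3, 2, 1, 3, 2, 1, 0, 4, 3, 2, 1, 5, 4, 3, 2, 1, 3, 6, 1, 4, 7, 2, 1, 3, 2, 4, 3, 6, 4, 7],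
   [1, 4, 3, 2, 1, 0, 3, 2, 1, 3, 4, 3, 2, 1, 3, 2, 3, 2, 1, 4, 3, 2, 3, 2, 1, 4, 6, 1, 3, 2, 3, 2, 4, 3, 7, 2, 4, 3, 2, 1],
   [1, 2, 3, 2, 1, 3, 4, 3, 2, 1, 5, 4, 3, 2, 1, 3, 2, 4, 3, 2, 5, 4, 3, 2, 6, 2, 1, 4, 3, 2, 3, 2, 1, 4, 3, 7]]

def tWords18 : List (List Nat) :=
  [[0, 2, 1, 3, 2, 3, 2, 1, 4, 3, 2, 3, 2, 1, 4, 3, 2, 1, 3, 5, 4, 3, 2, 3, 2, 6, 3, 4, 3, 2, 1, 5, 4, 3, 2, 6, 1, 7],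
   [0, 2, 1, 3, 2, 1, 4, 3, 2, 1, 0, 3, 5, 4, 3, 2, 1, 3, 2, 1, 0, 4, 3, 2, 1, 5, 4, 3, 2, 3, 4, 6, 1, 0, 2, 1, 3, 7, 2, 4, 3, 2, 5],
   [0, 3, 2, 1, 3, 2, 1, 4, 3, 2, 1, 5, 4, 3, 2, 3, 2, 4, 3, 2, 1, 0, 3, 2, 1, 6, 4, 3, 2, 1, 3, 4, 7, 1, 2, 1, 3, 7, 2, 4],
   [0, 1, 3, 4, 3, 2, 1, 0, 3, 2, 1, 3, 4, 3, 2, 1, 3, 2, 3, 4, 3, 2, 3, 5, 6, 1, 4, 3, 2, 1, 3, 4, 6, 2, 3, 7, 4, 5],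
   [0, 1, 0, 3, 2, 1, 3, 4, 3, 2, 1, 3, 2, 3, 5, 4, 3, 2, 1, 0, 3, 2, 4, 3, 6, 1, 2, 3, 6, 4, 6, 1, 3, 2, 3, 4, 6, 1],
   [0, 1, 3, 2, 1, 3, 4, 3, 2, 1, 3, 2, 1, 3, 4, 3, 2, 1, 3, 2, 1, 0, 4, 6, 1, 0, 2, 4, 3, 6, 2, 1, 0, 3, 2, 4, 3, 6],
   [1, 2, 3, 2, 1, 4, 3, 2, 1, 3, 2, 1, 3, 4, 3, 2, 1, 3, 2, 1, 3, 4, 3, 2, 1, 0, 3, 5, 4, 6, 1, 0, 2, 1, 3, 4, 6, 2, 3, 6, 2],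
   [1, 3, 4, 3, 2, 1, 3, 2, 3, 4, 3, 2, 1, 0, 3, 2, 1, 3, 2, 4, 3, 2, 1, 5, 4, 3, 2, 1, 3, 2, 3, 6, 1, 2, 3, 2, 4, 6, 1, 0, 4, 7],
   [0, 3, 2, 1, 0, 4, 3, 2, 1, 5, 4, 3, 2, 3, 2, 4, 3, 5, 6, 1, 4, 3, 6, 2, 3, 7, 1, 0, 2, 1, 4, 6, 4],
   [0, 2, 3, 2, 4, 3, 2, 5, 4, 3, 2, 1, 3, 2, 3, 2, 1, 4, 3, 2, 3, 2, 1, 4, 3, 2, 6, 4, 3, 2, 6, 1, 3, 2, 3, 4, 3, 7, 1, 7],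
   [2, 3, 2, 3, 4, 3, 2, 3, 2, 1, 4, 3, 2, 3, 2, 1, 0, 4, 3, 2, 1, 3, 2, 3, 2, 4, 3, 2, 1, 5, 4, 3, 2, 3, 4, 6, 1, 0, 2, 1, 4, 3, 2, 1, 6, 3, 4, 3, 2, 1],
   [0, 1, 0, 4, 3, 2, 5, 4, 3, 2, 1, 3, 2, 3, 2, 4, 3, 2, 1, 0, 3, 2, 3, 4, 3, 2, 1, 3, 5, 6, 1, 2, 7, 3, 2, 1, 4, 3, 2, 1, 3, 2, 6],
   [4, 3, 2, 5, 4, 3, 2, 1, 3, 2, 3, 4, 3, 2, 1, 3, 2, 1, 3, 4, 3, 2, 1, 3, 2, 5, 4, 6, 1, 0, 2, 3, 2, 1, 7, 1, 4, 3, 2, 1, 6, 1, 4],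
   [0, 2, 3, 2, 1, 0, 3, 2, 4, 3, 2, 1, 5, 4, 3, 2, 3, 2, 1, 4, 3, 2, 3, 4, 5, 6, 1, 4, 3, 2, 1, 3, 2, 7, 4, 3, 2, 1, 7, 2],
   [0, 2, 3, 2, 1, 3, 4, 3, 2, 1, 0, 3, 4, 5, 4, 3, 2, 1, 3, 2, 4, 3, 2, 1, 0, 6, 1, 2, 3, 7, 2, 4, 6, 1, 3, 4, 3, 7],
   [1, 3, 2, 1, 3, 4, 3, 2, 1, 3, 2, 3, 5, 4, 3, 2, 1, 0, 3, 2, 3, 4, 3, 2, 1, 0, 6, 3, 4, 3, 2, 3, 4, 6, 1, 6, 2, 3, 4, 5],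
   [1, 0, 3, 5, 4, 3, 2, 1, 3, 2, 1, 0, 4, 3, 2, 1, 5, 4, 3, 2, 3, 2, 1, 4, 3, 2, 5, 4, 3, 6, 1, 2, 7, 3, 4, 6, 2, 1, 3, 7],
   [0, 1, 0, 2, 1, 3, 2, 3, 4, 3, 2, 1, 3, 2, 3, 4, 3, 2, 1, 3, 2, 3, 2, 4, 3, 2, 1, 0, 3, 2, 6, 1, 2, 4, 3, 2, 3, 7, 1, 4, 7, 3],
   [2, 3, 2, 1, 4, 3, 2, 1, 3, 2, 1, 3, 4, 3, 2, 1, 3, 2, 3, 4, 3, 2, 1, 5, 6, 1, 0, 2, 4, 3, 2, 1, 5, 4, 7, 3, 4, 3],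
   [0, 1, 0, 2, 3, 2, 1, 5, 4, 3, 2, 3, 2, 1, 4, 3, 2, 3, 2, 1, 4, 3, 2, 3, 2, 1, 0, 4, 6, 1, 3, 2, 3, 4, 7, 2, 1, 3, 2, 1, 7, 4],
   [1, 2, 3, 4, 3, 2, 1, 3, 2, 1, 3, 2, 1, 4, 3, 2, 1, 0, 3, 5, 4, 3, 2, 1, 3, 6, 4, 3, 2, 7, 1, 0, 3, 2, 1, 6, 4, 3, 2, 7],
   [1, 3, 2, 3, 5, 4, 3, 2, 1, 3, 2, 3, 4, 3, 2, 1, 3, 2, 3, 2, 1, 4, 3, 2, 1, 3, 6, 1, 4, 3, 2, 3, 4, 7, 3, 2, 3, 4],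
   [2, 1, 0, 3, 4, 3, 2, 1, 3, 2, 1, 4, 3, 2, 1, 0, 3, 5, 4, 3, 2, 1, 3, 2, 3, 4, 3, 2, 1, 3, 2, 6, 1, 2, 3, 2, 1, 4, 3, 2, 3, 7, 1, 2, 6],
   [0, 2, 3, 4, 3, 2, 1, 0, 3, 2, 1, 0, 3, 2, 4, 3, 2, 1, 3, 2, 3, 4, 3, 2, 3, 2, 1, 0, 6, 4, 3, 2, 1, 3, 2, 3, 6, 1, 4, 7, 3, 2],
   [1, 0, 2, 1, 4, 3, 2, 1, 3, 2, 1, 4, 3, 2, 1, 0, 5, 4, 3, 2, 1, 0, 3, 2, 1, 4, 3, 2, 1, 3, 4, 5, 6, 1, 3, 2, 3, 2, 1, 4, 3, 2, 6, 4, 7, 3, 4],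
   [1, 4, 3, 2, 1, 3, 2, 3, 4, 3, 2, 1, 3, 2, 3, 2, 1, 4, 3, 2, 1, 3, 4, 5, 6, 1, 2, 4, 3, 2, 6, 1, 6, 4, 3, 2],
   [5, 4, 3, 2, 1, 3, 2, 4, 3, 2, 1, 5, 4, 3, 2, 1, 3, 2, 1, 3, 4, 3, 2, 3, 2, 1, 0, 4, 3, 6, 4, 3, 2, 7, 1, 3, 2, 4, 6, 3, 2, 6],
   [0, 2, 1, 4, 3, 2, 1, 0, 3, 2, 4, 3, 5, 4, 3, 2, 1, 0, 3, 2, 1, 3, 4, 5, 6, 2, 4, 3, 2, 1, 6, 1, 3, 2, 1, 6, 3],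
   [0, 2, 1, 4, 3, 2, 1, 3, 2, 4, 3, 2, 5, 4, 3, 2, 1, 3, 2, 6, 1, 3, 2, 4, 3, 2, 5, 4, 6, 3, 4, 7],
   [1, 0, 2, 1, 4, 3, 2, 3, 5, 4, 3, 2, 1, 3, 2, 3, 4, 3, 2, 1, 3, 2, 1, 3, 4, 3, 5, 6, 1, 4, 7, 3, 2, 1, 3, 2, 7],
   [2, 3, 2, 1, 3, 2, 4, 3, 2, 1, 5, 4, 3, 2, 3, 2, 1, 4, 3, 2, 5, 4, 3, 6, 1, 7, 2, 3, 2, 1, 4, 3, 2, 7, 1, 4, 6, 4],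
   [1, 0, 4, 3, 2, 1, 3, 2, 1, 4, 3, 2, 1, 0, 3, 5, 4, 3, 2, 1, 3, 2, 3, 4, 3, 2, 1, 3, 4, 6, 1, 2, 3, 2, 4, 7, 3, 2, 1, 6, 2, 4, 3, 6],
   [2, 1, 5, 4, 3, 2, 3, 2, 4, 3, 2, 1, 3, 2, 3, 2, 1, 0, 4, 3, 2, 1, 3, 2, 4, 3, 6, 1, 0, 4, 3, 2, 1, 0, 3, 2, 1, 3, 7, 4, 3, 7],
   [0, 1, 2, 3, 4, 3, 2, 1, 0, 3, 2, 3, 4, 3, 2, 1, 3, 2, 3, 2, 1, 0, 4, 3, 2, 1, 3, 2, 6, 1, 4, 3, 2, 5, 4, 3, 2, 6, 1, 6, 2],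
   [1, 2, 3, 2, 1, 3, 2, 3, 4, 3, 2, 3, 2, 1, 4, 3, 2, 1, 3, 2, 1, 4, 3, 2, 3, 5, 4, 6, 1, 2, 3, 4, 6, 2, 3, 7, 1, 2, 3, 7, 4, 3],
   [1, 2, 1, 0, 3, 2, 3, 4, 3, 2, 1, 0, 3, 2, 1, 5, 4, 3, 2, 1, 3, 6, 1, 2, 3, 2, 4, 7, 1, 3, 6, 1, 2, 4, 3, 5],
   [1, 0, 2, 1, 3, 2, 1, 0, 5, 4, 3, 2, 1, 3, 2, 3, 4, 3, 2, 1, 3, 2, 4, 3, 2, 1, 5, 4, 6, 1, 4, 3, 2, 3, 7, 1, 4, 3, 7, 2, 4],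
   [0, 3, 2, 1, 4, 3, 2, 3, 5, 4, 3, 2, 1, 0, 3, 2, 1, 4, 3, 2, 3, 4, 5, 4, 3, 6, 1, 2, 3, 2, 1, 4, 3, 7, 1, 4, 3, 2, 3],
   [1, 0, 4, 3, 2, 1, 0, 3, 2, 3, 4, 3, 2, 1, 3, 2, 1, 3, 2, 1, 4, 3, 2, 1, 5, 6, 1, 3, 2, 3, 2, 1, 4, 6, 3, 2, 7, 1, 4],
   [2, 1, 0, 3, 2, 1, 4, 3, 2, 1, 3, 2, 1, 0, 4, 3, 2, 1, 3, 2, 3, 4, 3, 2, 3, 2, 1, 0, 4, 3, 2, 3, 6, 1, 3, 2, 3, 2, 1, 4, 3, 2, 1, 3, 2, 4, 7]]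

def tWords19 : List (List Nat) :=
  [[2, 3, 2, 4, 3, 5, 4, 3, 2, 1, 3, 2, 3, 2, 1, 0, 4, 3, 2, 6, 1, 2, 6, 3, 2, 4, 6, 1, 3, 7, 2, 3],
   [2, 3, 2, 1, 5, 4, 3, 2, 1, 0, 3, 2, 1, 4, 3, 2, 3, 5, 4, 3, 2, 1, 3, 6, 1, 2, 3, 2, 1, 4, 6, 3, 4, 3, 2, 7, 2],
   [0, 2, 3, 5, 4, 3, 2, 1, 3, 2, 1, 3, 2, 1, 4, 3, 2, 1, 3, 2, 1, 4, 3, 2, 1, 3, 2, 4, 5, 6, 1, 2, 3, 2, 7, 4, 3, 5, 4, 6, 3],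
   [1, 2, 1, 3, 2, 1, 0, 3, 4, 3, 2, 1, 5, 4, 3, 2, 1, 3, 2, 4, 3, 5, 6, 1, 2, 3, 4, 7, 2, 1, 0, 3, 2, 4],
   [1, 0, 2, 1, 4, 3, 2, 1, 3, 5, 4, 3, 2, 3, 2, 1, 0, 4, 3, 2, 1, 3, 2, 3, 4, 3, 2, 5, 4, 3, 6, 1, 2, 3, 2, 4, 6, 3, 2, 1, 6, 1, 2, 4],
   [0, 2, 3, 2, 1, 0, 3, 4, 3, 2, 3, 2, 1, 4, 3, 2, 1, 3, 2, 1, 4, 3, 2, 1, 3, 2, 1, 4, 3, 2, 1, 3, 2, 4, 3, 6, 4, 3, 2, 6, 1, 3, 7, 2, 4, 3, 2, 1, 6],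
   [1, 4, 3, 2, 1, 0, 5, 4, 3, 2, 1, 3, 2, 3, 4, 3, 2, 1, 3, 2, 4, 3, 2, 1, 3, 2, 4, 3, 2, 6, 1, 2, 3, 2, 6, 4, 3, 2, 1, 6, 2, 4],
   [0, 1, 2, 1, 3, 2, 4, 3, 2, 1, 5, 4, 3, 2, 3, 2, 1, 4, 3, 2, 1, 3, 2, 3, 4, 3, 2, 6, 1, 2, 4, 3, 2, 1, 6, 3, 6, 4, 6, 3],
   [2, 1, 3, 2, 1, 4, 3, 2, 1, 5, 4, 3, 2, 1, 3, 2, 1, 0, 4, 3, 2, 1, 3, 2, 3, 2, 4, 6, 1, 3, 2, 3, 2, 1, 4, 6, 3, 4, 6, 2, 1, 6],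
   [2, 4, 3, 2, 1, 0, 3, 2, 1, 3, 2, 3, 4, 3, 2, 1, 3, 2, 4, 3, 2, 1, 5, 4, 3, 2, 1, 3, 2, 1, 4, 5, 6, 1, 2, 3, 4, 7, 2, 3, 4, 7, 4],
   [0, 4, 3, 5, 4, 3, 2, 1, 3, 2, 1, 4, 3, 2, 1, 5, 4, 3, 2, 1, 0, 3, 2, 4, 3, 2, 6, 1, 2, 4, 3, 2, 1, 6, 2, 6, 3, 2],
   [0, 1, 4, 3, 2, 1, 0, 3, 2, 1, 5, 4, 3, 2, 1, 3, 2, 4, 3, 2, 1, 3, 2, 4, 3, 2, 5, 4, 3, 6, 4, 3, 2, 3, 4, 6, 1, 4, 7, 2, 1, 3],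
   [1, 2, 1, 0, 3, 2, 3, 4, 3, 2, 1, 3, 2, 3, 2, 4, 3, 2, 1, 0, 3, 2, 3, 6, 1, 0, 2, 1, 3, 2, 1, 6, 4, 3, 2, 6, 4, 3],
   [1, 0, 2, 1, 3, 2, 4, 3, 5, 4, 3, 2, 1, 3, 2, 1, 3, 2, 1, 4, 3, 2, 1, 0, 5, 6, 4, 3, 2, 6, 1, 3, 2, 7, 4, 7, 3, 2, 1],
   [0, 1, 2, 1, 3, 2, 1, 4, 3, 2, 1, 0, 3, 2, 1, 0, 4, 3, 2, 1, 3, 2, 4, 3, 2, 1, 0, 5, 6, 4, 3, 2, 1, 0, 3, 2, 7, 4, 3, 2, 1, 3],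
   [0, 1, 2, 1, 4, 3, 2, 1, 3, 5, 4, 3, 2, 1, 3, 2, 1, 4, 3, 2, 1, 5, 4, 3, 2, 1, 3, 4, 5, 6, 1, 2, 1, 3, 2, 1, 6, 4, 3, 6, 2, 1, 7, 2],
   [0, 1, 2, 1, 3, 2, 1, 0, 4, 3, 2, 1, 0, 3, 2, 1, 4, 3, 2, 1, 3, 2, 1, 4, 3, 2, 1, 5, 4, 3, 2, 3, 4, 6, 1, 2, 3, 4, 6, 2, 1, 3, 2, 4, 3, 2, 3, 7],
   [1, 0, 2, 1, 3, 2, 5, 4, 3, 2, 1, 3, 2, 3, 4, 3, 2, 1, 5, 4, 3, 2, 1, 0, 3, 4, 6, 1, 2, 3, 2, 4, 3, 6, 2, 6, 1, 4, 3, 7],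
   [3, 2, 1, 0, 3, 2, 3, 4, 3, 2, 1, 3, 2, 1, 3, 4, 3, 2, 1, 3, 2, 3, 4, 3, 2, 1, 0, 3, 5, 6, 4, 3, 2, 7, 3, 4, 7, 1, 2, 7],
   [0, 1, 2, 1, 0, 3, 2, 1, 4, 3, 2, 1, 3, 2, 1, 3, 4, 3, 2, 1, 3, 2, 4, 3, 2, 1, 3, 6, 1, 2, 3, 7, 4, 3, 2, 6, 1, 0, 2, 3, 2],
   [0, 1, 2, 3, 2, 3, 4, 3, 2, 1, 3, 2, 4, 3, 5, 4, 3, 2, 1, 3, 2, 1, 3, 2, 1, 0, 4, 3, 6, 1, 4, 7, 3, 2, 1, 0, 3, 2, 4, 3, 7, 1],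
   [0, 1, 4, 3, 2, 1, 3, 5, 4, 3, 2, 1, 3, 2, 1, 0, 3, 4, 3, 2, 1, 3, 2, 4, 3, 2, 1, 6, 1, 2, 3, 2, 3, 4, 3, 6, 1, 6, 2, 1, 3, 4],
   [1, 2, 1, 0, 3, 2, 3, 4, 3, 2, 1, 0, 3, 2, 3, 4, 3, 2, 1, 3, 2, 1, 3, 2, 6, 1, 0, 2, 1, 4, 3, 2, 6, 4, 6, 3, 2],
   [1, 2, 1, 0, 3, 2, 1, 4, 3, 2, 1, 3, 2, 1, 0, 4, 3, 2, 1, 0, 3, 2, 1, 4, 3, 6, 1, 2, 4, 3, 2, 1, 3, 4, 7, 2, 1, 0, 3, 4],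
   [0, 1, 3, 5, 4, 3, 2, 1, 3, 2, 1, 3, 2, 4, 3, 2, 1, 3, 2, 3, 4, 3, 2, 1, 5, 4, 3, 2, 1, 3, 2, 4, 6, 1, 3, 2, 4, 3, 2, 1, 0, 7, 4],
   [1, 2, 3, 2, 1, 0, 5, 4, 3, 2, 1, 3, 2, 4, 3, 2, 5, 4, 3, 2, 1, 3, 2, 3, 2, 4, 3, 6, 4, 3, 2, 1, 0, 3, 2, 1, 0, 4, 3, 7, 1],
   [0, 2, 4, 3, 2, 1, 5, 4, 3, 2, 3, 2, 1, 4, 3, 2, 3, 5, 4, 3, 2, 1, 0, 3, 2, 1, 3, 2, 3, 4, 6, 1, 2, 4, 3, 2, 1, 3, 2, 3, 4, 3, 2, 6, 2],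
   [0, 1, 2, 1, 3, 4, 3, 2, 1, 3, 2, 1, 0, 4, 3, 2, 1, 0, 5, 4, 3, 2, 1, 3, 2, 4, 3, 2, 5, 4, 3, 2, 1, 6, 4, 3, 2, 1, 3, 6, 2, 4, 3, 6, 4, 7],
   [1, 2, 3, 2, 1, 4, 3, 5, 4, 3, 2, 1, 3, 2, 4, 3, 2, 1, 3, 2, 4, 3, 2, 1, 3, 2, 4, 3, 5, 4, 6, 1, 2, 3, 6, 2, 4, 3, 6, 1, 2, 3, 7, 1],
   [2, 1, 3, 2, 3, 4, 3, 2, 1, 3, 2, 3, 2, 4, 3, 2, 1, 0, 3, 2, 3, 4, 3, 2, 1, 5, 6, 4, 3, 2, 1, 0, 3, 4, 6, 2, 6, 1, 3, 6],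
   [0, 1, 0, 3, 4, 3, 2, 1, 3, 2, 4, 3, 2, 1, 5, 4, 3, 2, 3, 2, 1, 4, 3, 6, 4, 3, 2, 1, 0, 3, 2, 1, 3, 2, 3, 7],
   [1, 0, 3, 2, 1, 3, 2, 1, 4, 3, 2, 1, 3, 2, 1, 3, 4, 3, 2, 1, 3, 2, 4, 3, 2, 1, 0, 3, 6, 1, 0, 2, 4, 3, 2, 6, 4, 7],
   [1, 3, 2, 1, 4, 3, 2, 1, 0, 3, 2, 4, 3, 5, 4, 3, 2, 1, 3, 2, 1, 3, 2, 1, 0, 6, 4, 3, 2, 1, 5, 4, 7, 3, 2, 3, 4, 6, 4],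
   [0, 1, 3, 2, 1, 5, 4, 3, 2, 1, 0, 3, 2, 1, 4, 3, 2, 3, 2, 1, 4, 3, 2, 1, 3, 2, 4, 3, 2, 6, 1, 6, 2, 3, 2, 1, 0, 4, 3, 2, 6, 3, 4],
   [0, 1, 2, 1, 0, 3, 2, 1, 5, 4, 3, 2, 3, 2, 1, 4, 3, 2, 1, 0, 3, 2, 1, 4, 3, 2, 5, 4, 6, 1, 7, 2, 3, 2, 4, 3, 6, 4, 6, 1, 2],
   [0, 1, 2, 1, 0, 3, 2, 1, 0, 5, 4, 3, 2, 1, 3, 2, 4, 3, 2, 5, 4, 3, 2, 6, 3, 4, 3, 2, 1, 3, 2, 4, 3, 5, 4, 3, 6, 3],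
   [3, 2, 1, 4, 3, 2, 1, 3, 2, 1, 3, 4, 3, 2, 3, 2, 1, 0, 4, 3, 2, 1, 0, 3, 2, 4, 5, 6, 1, 2, 4, 3, 2, 1, 3, 2, 7, 4, 3, 2, 6, 4],
   [1, 0, 3, 2, 1, 3, 5, 4, 3, 2, 3, 2, 1, 0, 4, 3, 2, 1, 3, 4, 5, 6, 1, 4, 7, 3, 2, 3, 4, 3, 2, 1, 6, 2, 3],
   [0, 1, 3, 4, 3, 2, 1, 3, 2, 1, 3, 2, 4, 3, 2, 1, 5, 4, 3, 2, 3, 2, 4, 3, 2, 1, 0, 3, 2, 1, 3, 2, 4, 6, 1, 2, 3, 4, 7, 2, 1, 7, 3, 2, 4, 3, 6, 1],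
   [0, 1, 0, 2, 5, 4, 3, 2, 1, 3, 2, 3, 4, 3, 2, 1, 3, 2, 3, 4, 3, 2, 1, 3, 2, 3, 4, 3, 2, 1, 3, 6, 3, 4, 3, 2, 1, 0, 3, 5, 4, 6, 2, 3, 2]]

def tWords20 : List (List Nat) :=
  [[0, 1, 0, 4, 3, 5, 4, 3, 2, 1, 3, 2, 1, 3, 2, 4, 3, 6, 1, 4, 3, 2, 5, 4, 6, 1, 3, 2, 6, 4],
   [3, 2, 1, 3, 2, 1, 3, 4, 3, 2, 1, 0, 3, 2, 1, 3, 4, 3, 2, 1, 0, 3, 2, 1, 4, 3, 2, 5, 6, 1, 2, 6, 3, 2, 4, 3, 2, 1, 6, 2, 3, 7],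
   [0, 2, 1, 0, 3, 2, 5, 4, 3, 2, 1, 3, 2, 3, 4, 3, 2, 1, 0, 3, 2, 1, 0, 4, 5, 6, 1, 4, 3, 2, 3, 2, 4, 7, 3, 2, 1, 6, 1],
   [0, 1, 0, 4, 3, 2, 3, 5, 4, 3, 2, 1, 0, 3, 2, 1, 3, 2, 4, 3, 2, 1, 0, 3, 2, 3, 4, 3, 2, 3, 5, 4, 6, 1, 0, 2, 4, 3, 2, 3, 6, 1, 2, 6, 1],
   [0, 3, 2, 1, 0, 3, 4, 3, 5, 4, 3, 2, 1, 3, 2, 4, 3, 2, 1, 3, 2, 4, 3, 2, 3, 4, 5, 6, 1, 4, 3, 2, 7, 1, 3, 4, 7, 4, 3, 2],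
   [1, 2, 1, 4, 3, 2, 1, 3, 2, 3, 5, 4, 3, 2, 1, 3, 2, 4, 3, 2, 1, 0, 3, 2, 4, 3, 2, 1, 6, 1, 0, 4, 3, 2, 3, 4, 6, 2, 3, 6],
   [0, 1, 0, 3, 2, 1, 3, 2, 5, 4, 3, 2, 1, 3, 2, 3, 2, 1, 4, 3, 2, 1, 3, 2, 4, 5, 6, 4, 6, 3, 2, 1, 6, 2, 4],
   [0, 1, 3, 2, 1, 4, 3, 2, 1, 3, 2, 4, 3, 2, 5, 4, 3, 2, 1, 0, 3, 2, 1, 3, 2, 3, 4, 3, 2, 1, 5, 4, 3, 2, 3, 6, 1, 0, 4, 3, 2, 1, 3, 5, 4, 3, 2, 1, 6, 1],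
   [1, 0, 2, 4, 3, 2, 1, 0, 5, 4, 3, 2, 1, 0, 3, 2, 1, 4, 3, 2, 3, 2, 4, 3, 2, 1, 0, 6, 4, 3, 2, 3, 6, 1, 2, 3, 2, 1, 6],
   [0, 1, 2, 3, 2, 1, 3, 2, 3, 4, 3, 2, 3, 2, 1, 4, 3, 2, 3, 2, 1, 0, 6, 4, 3, 2, 1, 3, 2, 1, 3, 4, 3, 7, 4, 6],
   [1, 2, 3, 4, 3, 2, 1, 0, 3, 2, 1, 3, 2, 4, 3, 2, 1, 5, 4, 3, 2, 1, 3, 2, 1, 4, 3, 2, 6, 1, 0, 4, 3, 2, 1, 5, 4, 3, 2, 1, 3, 7, 1],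
   [0, 1, 0, 2, 1, 3, 2, 1, 0, 3, 5, 4, 3, 2, 1, 3, 2, 4, 3, 2, 1, 5, 6, 2, 4, 3, 2, 1, 0, 3, 2, 1, 4, 3, 2, 1],
   [4, 3, 5, 4, 3, 2, 1, 3, 2, 1, 4, 3, 2, 5, 4, 3, 2, 1, 6, 1, 2, 3, 2, 7, 1, 4, 3, 2, 1, 6, 1],
   [0, 1, 2, 1, 3, 2, 1, 0, 3, 4, 3, 2, 1, 5, 4, 3, 2, 1, 3, 2, 4, 3, 2, 5, 4, 3, 6, 1, 2, 4, 3, 2, 1, 6, 4, 3, 2, 7, 1],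
   [0, 1, 3, 2, 1, 0, 3, 2, 3, 4, 3, 2, 1, 0, 3, 2, 1, 4, 3, 5, 4, 3, 2, 3, 6, 2, 4, 3, 2, 1, 3, 7, 2, 4, 3, 7, 4],
   [3, 2, 1, 3, 2, 4, 3, 2, 1, 0, 3, 2, 1, 4, 3, 2, 3, 4, 5, 4, 3, 2, 6, 1, 2, 3, 2, 1, 3, 4, 3, 2, 3, 6, 1, 6, 2],
   [0, 2, 3, 2, 5, 4, 3, 2, 1, 0, 3, 2, 1, 3, 2, 4, 3, 2, 1, 3, 2, 3, 4, 3, 2, 1, 3, 2, 1, 4, 3, 2, 3, 4, 6, 1, 2, 3, 2, 1, 3, 4, 3, 7, 2, 1, 3, 2, 4],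
   [1, 0, 2, 3, 2, 1, 0, 3, 4, 3, 2, 3, 2, 1, 4, 3, 2, 3, 2, 4, 3, 6, 1, 4, 7, 2, 3, 4, 6, 3],
   [2, 1, 0, 3, 2, 1, 3, 4, 3, 2, 1, 3, 2, 5, 4, 3, 2, 1, 3, 2, 3, 4, 3, 2, 3, 5, 6, 1, 2, 3, 2, 1, 3, 4, 7, 2, 3, 4, 7, 2],
   [0, 1, 3, 4, 3, 2, 1, 0, 3, 2, 1, 4, 3, 2, 1, 3, 2, 1, 4, 3, 2, 1, 5, 4, 3, 2, 1, 0, 3, 6, 1, 2, 4, 3, 2, 1, 3, 4, 6, 1, 6],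
   [1, 0, 3, 2, 1, 3, 2, 1, 0, 3, 4, 3, 2, 3, 2, 1, 0, 4, 3, 2, 1, 3, 2, 4, 3, 2, 1, 0, 3, 4, 6, 1, 0, 4, 3, 2, 3, 7, 1, 2, 4, 7, 3],
   [0, 1, 4, 3, 2, 1, 3, 2, 3, 2, 1, 4, 3, 2, 1, 3, 2, 1, 3, 4, 3, 2, 1, 3, 2, 1, 3, 2, 4, 3, 2, 3, 6, 4, 3, 2, 1, 3, 7, 2, 1, 4, 6, 1, 4, 3],
   [0, 1, 3, 2, 5, 4, 3, 2, 1, 0, 3, 2, 1, 3, 4, 3, 2, 1, 3, 2, 5, 4, 3, 2, 6, 1, 2, 3, 2, 3, 4, 3, 2, 1, 6, 2, 4, 3, 2],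
   [0, 1, 3, 4, 3, 2, 1, 3, 2, 1, 3, 4, 3, 2, 1, 3, 2, 1, 3, 2, 1, 4, 3, 2, 1, 3, 2, 3, 4, 6, 1, 4, 6, 3, 2, 3, 4, 3, 7, 4],
   [0, 3, 2, 1, 0, 3, 2, 1, 3, 2, 4, 3, 2, 1, 5, 4, 3, 2, 1, 3, 2, 1, 4, 3, 2, 1, 3, 6, 1, 0, 4, 3, 2, 1, 0, 3, 2, 1, 7, 4, 7],
   [2, 4, 3, 2, 1, 3, 2, 3, 2, 4, 3, 2, 1, 3, 2, 3, 4, 3, 2, 1, 5, 4, 3, 2, 1, 3, 2, 3, 4, 3, 2, 6, 1, 0, 4, 3, 2, 1, 3, 2, 3, 4, 3, 2, 3, 2],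
   [0, 1, 0, 4, 3, 2, 1, 5, 4, 3, 2, 1, 3, 2, 4, 3, 2, 1, 0, 3, 2, 1, 4, 3, 2, 5, 6, 4, 3, 2, 1, 6, 1, 3, 2, 1, 4, 3, 7],
   [0, 1, 3, 2, 1, 0, 3, 4, 3, 2, 1, 3, 2, 1, 3, 4, 3, 2, 1, 3, 2, 3, 4, 3, 2, 1, 3, 2, 1, 3, 4, 5, 6, 4, 3, 6, 2, 1, 3, 7, 2, 4, 6, 3],
   [1, 0, 2, 1, 3, 2, 1, 0, 4, 3, 2, 5, 4, 3, 2, 1, 3, 2, 4, 3, 2, 6, 1, 6, 2, 1, 3, 7, 2, 4, 3, 5, 4, 7, 3],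
   [0, 1, 2, 1, 4, 3, 2, 1, 3, 2, 4, 3, 6, 1, 4, 3, 2, 3, 6, 1, 2, 4, 3, 2, 1, 3],
   [0, 1, 3, 2, 1, 3, 4, 3, 2, 1, 3, 2, 4, 3, 5, 4, 3, 2, 1, 3, 2, 3, 2, 6, 1, 6, 2, 1, 3, 2, 1, 4, 3, 6, 4],
   [0, 1, 0, 3, 2, 1, 4, 5, 4, 3, 2, 1, 3, 2, 4, 3, 2, 1, 0, 3, 2, 4, 3, 2, 6, 4, 3, 2, 1, 3, 7, 2, 1, 4, 6, 1, 4, 3],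
   [1, 5, 4, 3, 2, 1, 3, 2, 3, 4, 3, 2, 1, 0, 3, 2, 1, 4, 3, 2, 3, 2, 1, 4, 3, 2, 1, 3, 6, 1, 0, 2, 4, 3, 2, 1, 3, 2, 7, 2, 4, 3, 5],
   [0, 2, 1, 3, 2, 1, 3, 2, 4, 3, 2, 1, 5, 4, 3, 2, 1, 3, 2, 1, 3, 2, 4, 3, 2, 1, 0, 3, 2, 1, 4, 3, 2, 3, 6, 4, 3, 2, 1, 3, 4, 6, 2, 6, 1, 3, 6, 2, 3],
   [1, 2, 1, 3, 2, 1, 4, 3, 2, 3, 2, 1, 4, 3, 2, 1, 3, 5, 4, 3, 2, 1, 0, 3, 6, 1, 4, 6, 2, 6, 3, 2, 1, 4, 7],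
   [1, 3, 2, 1, 3, 4, 3, 2, 3, 2, 1, 4, 3, 2, 3, 2, 1, 0, 4, 3, 2, 1, 3, 2, 3, 2, 4, 3, 2, 1, 5, 4, 3, 6, 4, 3, 2, 3, 7, 1, 4, 6, 2, 1],
   [1, 0, 3, 2, 1, 3, 2, 1, 0, 3, 4, 3, 2, 1, 3, 2, 5, 4, 3, 2, 1, 3, 2, 4, 3, 5, 4, 6, 1, 2, 3, 2, 1, 6, 4, 7, 4],
   [0, 3, 2, 3, 2, 4, 3, 2, 1, 3, 2, 3, 4, 3, 2, 1, 3, 2, 4, 3, 2, 3, 6, 1, 2, 1, 3, 2, 1, 6, 4, 6, 3, 2, 1, 0, 4],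
   [0, 1, 0, 2, 1, 4, 3, 2, 1, 3, 2, 1, 4, 3, 2, 1, 0, 3, 5, 4, 3, 2, 1, 3, 2, 4, 3, 2, 1, 5, 4, 3, 2, 1, 0, 3, 6, 1, 4, 7, 3, 2, 1, 0, 4, 7],
   [0, 1, 4, 3, 2, 5, 4, 3, 2, 1, 3, 2, 3, 2, 4, 3, 2, 1, 0, 5, 4, 3, 6, 4, 7, 3, 2, 1, 0, 4, 3, 2, 3, 4, 5]]

def tWords21 : List (List Nat) :=
  [[2, 1, 4, 3, 2, 1, 3, 2, 3, 5, 4, 3, 2, 1, 0, 3, 2, 1, 4, 3, 2, 1, 3, 4, 5, 6, 1, 2, 4, 3, 5, 4, 6, 3, 6, 2],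
   [0, 1, 0, 2, 1, 0, 3, 2, 1, 4, 3, 2, 1, 3, 5, 4, 3, 2, 1, 3, 2, 1, 4, 3, 2, 3, 2, 6, 4, 3, 2, 6, 1, 7, 2, 3, 2, 4],
   [1, 3, 2, 1, 3, 2, 3, 2, 4, 3, 2, 1, 3, 2, 3, 4, 3, 2, 1, 5, 4, 3, 2, 1, 3, 2, 4, 3, 2, 6, 1, 0, 2, 1, 3, 2, 4, 3, 7, 2, 1, 7, 3, 4],
   [1, 2, 1, 3, 4, 3, 2, 1, 3, 2, 1, 0, 4, 3, 2, 1, 5, 4, 3, 2, 3, 2, 1, 4, 3, 2, 1, 3, 6, 4, 3, 7, 2, 1, 3, 6, 2],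
   [1, 3, 2, 3, 4, 3, 2, 1, 0, 3, 2, 1, 3, 2, 3, 4, 3, 2, 1, 3, 2, 4, 3, 2, 1, 0, 5, 4, 3, 2, 3, 6, 1, 4, 7, 3, 2, 1, 4, 3, 2, 1, 0],
   [0, 1, 2, 3, 2, 1, 0, 3, 2, 1, 4, 3, 2, 1, 3, 2, 4, 3, 2, 1, 3, 2, 4, 3, 2, 1, 5, 4, 3, 2, 6, 1, 3, 4, 3, 2, 1, 3, 2, 3, 4, 7, 4, 6],
   [1, 2, 3, 2, 1, 0, 4, 3, 5, 4, 3, 2, 1, 3, 2, 3, 2, 1, 4, 3, 5, 6, 1, 0, 2, 4, 3, 2, 6, 1, 6, 2, 4, 3, 7, 4, 7],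
   [0, 2, 1, 0, 3, 2, 1, 0, 3, 2, 3, 4, 3, 2, 1, 3, 2, 3, 2, 1, 4, 3, 2, 5, 4, 6, 1, 2, 4, 3, 2, 1, 3, 2, 6],
   [1, 2, 3, 2, 4, 3, 2, 1, 0, 5, 4, 3, 2, 1, 3, 2, 4, 3, 2, 5, 4, 3, 2, 6, 1, 2, 3, 2, 1, 4, 6, 3, 2, 1, 4, 3],
   [0, 1, 3, 4, 3, 2, 1, 0, 3, 2, 1, 3, 4, 3, 2, 1, 3, 2, 3, 4, 3, 2, 1, 3, 2, 3, 4, 5, 6, 1, 0, 2, 3, 4, 3, 2, 3, 4, 6, 1, 6, 2],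
   [1, 2, 3, 2, 3, 4, 3, 2, 1, 3, 5, 4, 3, 2, 3, 2, 1, 4, 3, 2, 3, 2, 4, 3, 2, 5, 6, 1, 3, 2, 3, 2, 4, 3, 7, 4, 7, 1, 2],
   [1, 3, 4, 3, 2, 1, 3, 2, 1, 4, 3, 2, 1, 0, 3, 5, 4, 3, 2, 3, 2, 1, 0, 4, 3, 2, 1, 3, 2, 3, 4, 3, 2, 3, 5, 4, 6, 1, 7, 2, 1, 7, 3, 4, 3, 2, 3, 2, 1, 6, 4],
   [0, 1, 2, 1, 0, 3, 2, 1, 5, 4, 3, 2, 1, 3, 2, 4, 3, 2, 1, 3, 2, 4, 3, 2, 1, 0, 3, 6, 1, 2, 3, 2, 1, 6, 1, 4, 3, 2, 6, 1],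
   [0, 1, 4, 3, 2, 1, 5, 4, 3, 2, 1, 0, 3, 2, 4, 3, 5, 4, 6, 1, 4, 7, 3, 2, 3, 4, 6, 3, 2, 1, 6],
   [0, 3, 2, 1, 0, 4, 3, 2, 1, 3, 2, 4, 3, 2, 1, 5, 4, 3, 2, 1, 3, 2, 1, 0, 6, 1, 0, 2, 3, 4, 7, 2, 3],
   [0, 3, 2, 1, 3, 2, 4, 3, 5, 4, 3, 2, 1, 3, 2, 3, 2, 4, 3, 2, 1, 0, 3, 2, 1, 3, 4, 6, 1, 0, 2, 1, 3, 2, 1, 4, 3, 6, 4, 3, 2, 3, 4],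
   [1, 2, 3, 2, 1, 3, 2, 4, 3, 2, 1, 0, 3, 2, 3, 4, 3, 2, 1, 3, 2, 3, 5, 4, 3, 2, 1, 0, 3, 6, 4, 3, 2, 3, 2, 1, 4, 7, 2, 3, 4, 3, 6],
   [1, 0, 2, 4, 3, 2, 1, 3, 2, 3, 2, 4, 3, 2, 1, 0, 3, 2, 3, 4, 3, 2, 1, 0, 3, 2, 1, 3, 6, 1, 4, 3, 2, 1, 3, 6, 2, 1, 3, 4, 3],
   [0, 1, 3, 2, 3, 2, 1, 4, 3, 2, 1, 0, 3, 2, 1, 4, 3, 5, 4, 3, 2, 1, 0, 3, 2, 1, 0, 6, 1, 0, 2, 1, 3, 7, 4, 3, 2, 1, 3, 5, 4, 7],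
   [0, 1, 3, 2, 1, 3, 4, 3, 2, 1, 3, 2, 1, 3, 4, 3, 2, 1, 0, 3, 2, 1, 4, 3, 6, 1, 0, 4, 6, 3, 2, 3, 4, 3, 7, 1, 0],
   [0, 2, 4, 3, 2, 1, 5, 4, 3, 2, 1, 3, 2, 1, 3, 2, 4, 3, 2, 1, 3, 2, 4, 3, 2, 1, 5, 4, 3, 2, 1, 3, 4, 6, 1, 0, 2, 3, 4, 3, 6, 2, 1, 3, 4, 7, 2],
   [1, 3, 5, 4, 3, 2, 1, 3, 2, 1, 3, 4, 3, 2, 3, 2, 1, 0, 4, 3, 2, 1, 3, 2, 3, 4, 3, 2, 3, 5, 6, 1, 3, 4, 3, 2, 1, 3, 5, 4, 3, 2, 7, 1, 3],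
   [1, 4, 3, 2, 3, 2, 1, 4, 3, 2, 1, 3, 2, 1, 0, 3, 4, 3, 2, 1, 3, 2, 4, 3, 2, 1, 6, 1, 0, 3, 2, 3, 4, 3, 2, 1, 0, 6, 3, 2, 4],
   [0, 3, 2, 1, 3, 4, 3, 2, 1, 3, 2, 1, 3, 4, 3, 2, 1, 0, 3, 2, 1, 4, 3, 2, 1, 3, 2, 4, 3, 2, 1, 0, 3, 2, 4, 3, 6, 1, 2, 1, 3, 4, 3, 2, 1, 5, 4, 7],
   [0, 1, 2, 1, 3, 2, 1, 0, 3, 4, 3, 2, 1, 3, 2, 5, 4, 3, 2, 1, 0, 3, 2, 3, 4, 3, 5, 4, 6, 4, 3, 2, 3, 4, 7, 1, 2, 1, 7, 3, 4, 6],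
   [0, 1, 0, 2, 3, 2, 1, 4, 3, 2, 1, 0, 3, 5, 4, 3, 2, 3, 2, 4, 3, 2, 1, 0, 6, 1, 2, 1, 3, 2, 1, 4, 7, 2, 3, 4, 7],
   [2, 1, 4, 3, 5, 4, 3, 2, 1, 3, 2, 1, 3, 2, 1, 4, 3, 2, 1, 3, 2, 3, 4, 3, 2, 3, 6, 1, 2, 1, 3, 4, 3, 2, 1, 3, 2, 4, 3, 2, 1, 6],
   [1, 0, 3, 2, 1, 3, 5, 4, 3, 2, 3, 2, 1, 4, 3, 2, 1, 3, 2, 1, 0, 4, 3, 2, 1, 0, 6, 1, 0, 2, 1, 4, 6, 3, 2, 6],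
   [1, 0, 4, 3, 2, 3, 2, 4, 3, 2, 1, 3, 2, 3, 2, 4, 3, 2, 1, 3, 2, 4, 3, 2, 1, 5, 4, 6, 1, 4, 6, 2, 1, 3, 2, 6, 4, 3, 2, 1, 7, 3],
   [1, 2, 1, 0, 3, 4, 3, 2, 1, 3, 2, 1, 0, 3, 4, 6, 1, 2, 3, 2, 4, 3, 2, 1, 7, 1, 7, 2, 4],
   [2, 1, 0, 3, 2, 1, 3, 4, 3, 2, 1, 3, 5, 4, 3, 2, 1, 3, 2, 3, 4, 3, 2, 1, 6, 1, 2, 1, 0, 4, 3, 2, 1, 3, 2],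
   [0, 1, 0, 3, 2, 1, 3, 2, 3, 4, 3, 2, 1, 0, 3, 2, 1, 3, 2, 4, 3, 2, 1, 0, 3, 4, 5, 6, 4, 3, 2, 3, 7, 1, 2, 3, 6, 4, 7],
   [0, 3, 2, 4, 3, 2, 1, 3, 2, 4, 3, 2, 1, 0, 3, 2, 1, 3, 4, 3, 2, 1, 3, 2, 1, 4, 3, 2, 1, 3, 2, 6, 1, 4, 6, 2, 3, 6, 1, 2, 4, 3, 2, 1],
   [0, 2, 1, 3, 2, 1, 5, 4, 3, 2, 1, 0, 3, 2, 1, 4, 3, 2, 3, 2, 1, 0, 4, 3, 2, 1, 3, 2, 6, 1, 2, 3, 2, 1, 4, 3, 2, 6, 4, 7, 3],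
   [3, 2, 1, 3, 2, 4, 3, 2, 1, 0, 3, 2, 1, 3, 2, 4, 3, 2, 1, 3, 4, 5, 6, 1, 2, 3, 2, 1, 4, 7, 3, 2, 1, 7, 1, 0, 4],
   [0, 1, 0, 3, 2, 1, 3, 2, 1, 4, 3, 2, 1, 3, 5, 4, 3, 2, 1, 3, 2, 1, 4, 3, 2, 1, 3, 2, 3, 5, 6, 1, 2, 1, 0, 4, 3, 2, 1, 7, 3, 2, 4],
   [0, 1, 2, 4, 3, 2, 1, 3, 2, 3, 4, 3, 2, 1, 0, 3, 2, 1, 3, 4, 3, 2, 1, 3, 2, 3, 2, 6, 1, 2, 3, 2, 6, 1, 0, 4, 3, 2, 1, 3, 2, 7],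
   [0, 1, 2, 3, 4, 3, 5, 4, 3, 2, 1, 3, 2, 3, 4, 3, 2, 1, 3, 2, 3, 4, 3, 2, 1, 3, 2, 3, 2, 1, 6, 4, 3, 2, 1, 3, 6, 4, 3, 2, 6, 3, 4, 5],
   [0, 2, 3, 5, 4, 3, 2, 1, 3, 2, 1, 4, 3, 2, 1, 5, 4, 3, 2, 3, 2, 4, 3, 2, 1, 0, 5, 6, 4, 3, 2, 1, 0, 3, 4, 6, 2, 3, 4, 7, 3],
   [0, 1, 3, 2, 1, 5, 4, 3, 2, 1, 3, 2, 3, 4, 3, 2, 1, 3, 2, 3, 4, 3, 2, 1, 3, 2, 5, 4, 3, 6, 4, 3, 2, 3, 4, 7, 1, 2, 7, 1, 7]]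

def tWords22 : List (List Nat) :=
  [[0, 2, 1, 0, 4, 3, 2, 1, 3, 2, 3, 4, 3, 2, 1, 3, 2, 4, 3, 5, 4, 3, 2, 1, 0, 3, 2, 1, 3, 2, 3, 4, 6, 4, 3, 2, 1, 3, 2, 4, 7, 1, 4, 6, 1, 2],
   [1, 4, 3, 2, 1, 3, 2, 1, 4, 3, 2, 1, 0, 3, 5, 4, 3, 2, 1, 3, 2, 1, 4, 3, 2, 1, 0, 3, 2, 1, 4, 5, 6, 1, 0, 2, 1, 3, 2, 1, 4, 3, 7, 2, 1, 7],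
   [0, 1, 3, 2, 1, 3, 5, 4, 3, 2, 1, 3, 2, 1, 4, 3, 2, 1, 3, 2, 1, 4, 3, 2, 1, 0, 3, 2, 4, 3, 2, 1, 6, 1, 2, 3, 7, 4, 3, 2, 6, 1, 2],
   [1, 0, 2, 3, 5, 4, 3, 2, 1, 3, 2, 1, 3, 2, 4, 3, 5, 4, 6, 1, 0, 2, 4, 3, 2, 6, 1, 2, 3, 4, 6],
   [1, 2, 3, 4, 3, 2, 1, 3, 2, 3, 2, 4, 3, 2, 1, 3, 2, 3, 4, 3, 2, 3, 5, 4, 6, 4, 3, 2, 1, 0, 3, 2, 3, 4, 6, 1],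
   [1, 2, 3, 2, 1, 4, 3, 2, 1, 3, 2, 1, 3, 2, 4, 3, 2, 1, 3, 2, 4, 3, 2, 5, 4, 3, 2, 1, 0, 3, 6, 1, 4, 6, 3, 2, 3, 4, 6, 2, 3, 6, 1, 2],
   [2, 1, 0, 3, 4, 5, 4, 3, 2, 1, 3, 2, 3, 4, 3, 2, 1, 0, 3, 2, 1, 3, 2, 4, 3, 2, 1, 0, 3, 2, 1, 6, 1, 2, 1, 3, 2, 4, 3, 2, 1, 7, 1, 3],
   [0, 1, 2, 3, 2, 1, 0, 3, 2, 3, 4, 3, 2, 1, 3, 2, 3, 5, 4, 3, 2, 1, 0, 3, 2, 4, 6, 1, 0, 3, 4, 3, 2, 1, 7, 4, 3, 2, 1, 7],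
   [2, 3, 2, 4, 3, 2, 1, 3, 2, 3, 2, 4, 3, 2, 1, 3, 2, 4, 5, 6, 1, 2, 4, 3, 2, 3, 7, 1, 4, 3, 7, 3, 2],
   [1, 0, 2, 1, 4, 3, 2, 3, 5, 4, 3, 2, 1, 0, 3, 2, 1, 3, 2, 4, 3, 2, 1, 0, 3, 2, 3, 6, 1, 0, 2, 1, 3, 6, 2, 4, 3, 2, 1, 3, 4, 7, 3],
   [1, 2, 1, 4, 3, 2, 1, 3, 2, 3, 4, 3, 2, 1, 0, 3, 2, 1, 4, 3, 2, 3, 2, 1, 4, 3, 6, 1, 4, 3, 2, 1, 3, 2, 3, 4, 3, 2, 3, 5],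
   [0, 1, 0, 2, 3, 4, 3, 2, 1, 3, 2, 1, 0, 3, 4, 3, 2, 1, 3, 2, 5, 4, 3, 2, 3, 4, 6, 1, 2, 3, 2, 3, 4, 7, 1, 3, 2, 3, 2],
   [0, 1, 4, 5, 4, 3, 2, 1, 3, 2, 3, 4, 3, 2, 1, 3, 2, 3, 2, 4, 3, 2, 1, 5, 4, 3, 2, 3, 6, 1, 2, 3, 2, 4, 3, 2, 1, 6, 1, 2, 4, 7, 3],
   [0, 1, 0, 3, 2, 1, 3, 4, 3, 2, 1, 3, 2, 1, 0, 4, 3, 2, 1, 0, 5, 4, 3, 2, 1, 0, 3, 4, 5, 6, 1, 4, 3, 2, 3, 2, 4, 6, 3, 6, 2, 1],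
   [0, 1, 3, 4, 3, 2, 1, 3, 2, 3, 4, 3, 2, 1, 3, 2, 3, 4, 3, 2, 1, 0, 3, 4, 5, 6, 1, 2, 3, 2, 3, 4, 6, 1, 2, 3, 2, 7],
   [0, 1, 2, 1, 3, 2, 1, 0, 3, 4, 3, 2, 3, 2, 1, 4, 3, 2, 1, 3, 2, 1, 4, 3, 2, 3, 2, 1, 4, 3, 2, 3, 2, 6, 1, 0, 4, 6, 3, 2, 3, 4, 6, 1, 3, 2, 3],
   [0, 1, 2, 3, 2, 1, 3, 2, 3, 4, 3, 2, 1, 3, 2, 4, 3, 2, 1, 3, 2, 4, 5, 6, 1, 2, 3, 2, 4, 7, 1, 3, 2, 1, 7, 3],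
   [0, 2, 1, 3, 4, 3, 2, 1, 3, 2, 1, 4, 3, 2, 1, 3, 2, 4, 5, 4, 3, 6, 1, 2, 7, 3, 2, 4, 3, 2, 7, 1, 7, 2, 4, 3, 2],
   [0, 2, 3, 2, 1, 5, 4, 3, 2, 1, 0, 3, 2, 1, 4, 3, 2, 1, 3, 2, 4, 3, 2, 1, 3, 4, 5, 6, 1, 2, 4, 3, 6, 2, 1, 3, 6, 1, 4, 5],
   [2, 3, 4, 3, 2, 1, 3, 2, 3, 2, 1, 0, 4, 3, 2, 1, 0, 3, 2, 1, 4, 3, 2, 5, 4, 6, 1, 2, 3, 2, 4, 3, 2, 1, 0, 7, 2, 4, 7],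
   [2, 3, 2, 1, 4, 3, 2, 3, 2, 1, 4, 3, 2, 1, 3, 2, 1, 4, 3, 2, 1, 3, 2, 3, 4, 3, 5, 4, 6, 1, 2, 3, 2, 1, 0, 3, 4, 3, 2, 3, 2, 4, 3, 5],
   [2, 1, 3, 4, 3, 6, 1, 2, 3, 2, 7, 4, 7, 3, 2, 4, 6, 1, 6],
   [0, 2, 1, 3, 2, 1, 3, 2, 1, 3, 4, 3, 2, 1, 3, 2, 1, 4, 3, 2, 1, 0, 6, 1, 3, 2, 3, 4, 3, 2, 1, 3, 2, 1, 0],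
   [0, 1, 3, 2, 5, 4, 3, 2, 1, 3, 2, 3, 2, 4, 3, 2, 1, 3, 2, 3, 4, 3, 2, 1, 3, 2, 6, 1, 4, 3, 2, 1, 3, 7, 1, 4, 6, 3, 2, 1, 3],
   [0, 1, 0, 2, 1, 0, 3, 2, 4, 3, 2, 1, 0, 3, 2, 3, 4, 3, 2, 5, 6, 1, 7, 2, 1, 3, 2, 4, 3, 2, 1, 6, 2, 4],
   [0, 1, 2, 1, 4, 3, 2, 1, 3, 2, 5, 4, 3, 2, 1, 3, 2, 3, 4, 3, 2, 1, 0, 3, 2, 4, 3, 5, 6, 4, 7, 3, 2, 1, 3, 2, 7, 1, 7, 2],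
   [1, 2, 1, 4, 3, 5, 4, 3, 2, 1, 3, 2, 1, 0, 3, 4, 3, 2, 1, 3, 2, 3, 2, 1, 4, 3, 2, 6, 1, 2, 3, 2, 1, 4, 7, 3, 2, 4, 6, 3],
   [2, 1, 3, 4, 3, 2, 3, 2, 1, 4, 3, 2, 3, 2, 1, 4, 3, 2, 1, 3, 2, 1, 4, 3, 5, 4, 6, 1, 0, 2, 1, 3, 2, 4, 3, 7, 2, 4, 6],
   [0, 1, 2, 1, 3, 2, 1, 4, 3, 2, 1, 3, 2, 1, 4, 3, 2, 1, 3, 2, 4, 3, 5, 4, 3, 2, 1, 3, 2, 1, 3, 2, 6, 4, 3, 2, 1, 3, 6, 2, 3, 6, 4, 6, 3, 7],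
   [0, 3, 2, 3, 5, 4, 3, 2, 1, 0, 3, 2, 1, 4, 3, 2, 3, 2, 4, 3, 2, 1, 3, 2, 4, 3, 2, 1, 6, 4, 3, 2, 1, 7, 3, 2, 3, 4, 7, 2, 1],
   [4, 3, 5, 4, 3, 2, 1, 3, 2, 1, 4, 3, 2, 1, 3, 2, 4, 3, 2, 5, 6, 1, 4, 3, 2, 1, 3, 2, 1, 4, 6, 3, 6, 2],
   [0, 1, 3, 2, 1, 3, 2, 4, 3, 2, 1, 3, 2, 3, 2, 1, 4, 3, 2, 1, 3, 2, 4, 3, 2, 3, 6, 1, 0, 2, 3, 4, 6, 2, 3, 7, 4],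
   [0, 1, 2, 1, 4, 3, 2, 1, 3, 5, 4, 3, 2, 1, 3, 2, 1, 4, 3, 2, 1, 3, 2, 1, 3, 4, 3, 2, 1, 3, 2, 6, 1, 2, 3, 4, 3, 2, 1, 3, 6, 2, 6, 3],
   [1, 2, 1, 3, 2, 1, 0, 3, 2, 5, 4, 3, 2, 1, 3, 2, 4, 3, 2, 5, 4, 3, 2, 1, 3, 2, 3, 4, 6, 1, 4, 7, 3, 2, 4, 3, 6, 1, 2, 6, 1],
   [0, 5, 4, 3, 2, 1, 3, 2, 3, 2, 1, 4, 3, 2, 1, 3, 2, 1, 0, 3, 4, 3, 5, 4, 6, 2, 4, 3, 2, 1, 3, 6, 2, 1, 4],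
   [0, 2, 5, 4, 3, 2, 1, 0, 3, 2, 1, 3, 2, 3, 4, 3, 2, 1, 3, 2, 1, 3, 4, 3, 2, 5, 4, 6, 1, 2, 4, 3, 2, 7, 1, 4, 6, 2, 6, 3, 4, 5],
   [0, 1, 0, 2, 1, 4, 3, 2, 5, 4, 3, 2, 1, 0, 3, 2, 1, 3, 4, 3, 2, 1, 3, 2, 5, 4, 3, 2, 1, 3, 2, 3, 4, 5, 6, 1, 2, 3, 6, 2, 1, 4, 6, 3, 4, 6, 2, 1, 7],
   [1, 0, 2, 1, 0, 3, 2, 1, 3, 4, 3, 2, 1, 5, 4, 3, 2, 1, 3, 2, 4, 3, 6, 1, 2, 3, 4, 3, 2, 7, 1, 4, 5],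
   [0, 3, 2, 4, 3, 2, 1, 3, 2, 4, 3, 2, 1, 3, 2, 4, 3, 2, 1, 5, 4, 3, 2, 3, 4, 5, 6, 1, 0, 2, 3, 4, 3, 2, 3, 4, 5, 4],
   [1, 0, 2, 1, 3, 4, 3, 2, 1, 3, 2, 4, 3, 2, 1, 3, 2, 4, 3, 2, 1, 3, 2, 4, 3, 5, 6, 1, 0, 2, 1, 3, 4, 7, 2, 4, 3, 2, 1, 6, 1]]

def tWords23 : List (List Nat) :=
  [[0, 1, 3, 2, 3, 2, 1, 4, 3, 2, 1, 3, 2, 1, 0, 3, 4, 3, 2, 1, 3, 2, 1, 0, 4, 3, 6, 4, 3, 2, 6, 1, 0, 3, 2, 1, 3, 4, 6, 1, 3],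
   [2, 4, 3, 2, 1, 0, 3, 2, 1, 3, 2, 3, 4, 3, 2, 1, 3, 2, 4, 3, 2, 1, 5, 4, 3, 2, 1, 3, 2, 1, 4, 5, 6, 1, 2, 3, 4, 7, 2, 3, 2, 1, 7, 4],
   [0, 2, 3, 2, 1, 4, 3, 2, 1, 5, 4, 3, 2, 1, 3, 2, 4, 6, 1, 0, 2, 1, 3, 4, 3, 2, 1, 5, 4, 6],
   [0, 1, 0, 2, 1, 4, 3, 2, 1, 3, 2, 1, 4, 3, 2, 1, 0, 3, 5, 4, 3, 2, 1, 3, 2, 4, 3, 2, 1, 5, 4, 3, 2, 3, 2, 4, 6, 1, 2, 3, 2, 1, 4, 6, 2, 3, 2],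
   [1, 0, 2, 1, 4, 3, 2, 3, 2, 1, 4, 3, 2, 1, 0, 3, 5, 4, 3, 2, 1, 0, 3, 6, 4, 3, 2, 1, 3, 6, 4, 3, 2, 1, 3, 6, 2, 4],
   [0, 2, 1, 0, 5, 4, 3, 2, 1, 0, 3, 2, 1, 4, 3, 2, 1, 3, 2, 4, 3, 2, 1, 5, 4, 3, 2, 1, 0, 6, 1, 4, 3, 6, 2, 1, 3, 7, 2],
   [1, 0, 2, 1, 3, 2, 3, 4, 3, 2, 1, 3, 2, 4, 3, 2, 1, 0, 3, 2, 3, 4, 3, 2, 1, 3, 2, 5, 4, 3, 2, 1, 6, 4, 3, 2, 1, 3, 7, 2, 4, 7, 1, 3, 7, 2, 1],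
   [0, 2, 3, 5, 4, 3, 2, 1, 3, 2, 3, 4, 3, 2, 1, 3, 5, 4, 3, 2, 3, 2, 1, 0, 4, 3, 2, 1, 3, 2, 4, 3, 2, 1, 3, 6, 1, 2, 3, 4, 7, 3, 2, 1, 7, 3, 2, 1, 7],
   [1, 0, 3, 2, 3, 2, 1, 0, 4, 3, 2, 1, 0, 3, 2, 1, 4, 3, 5, 6, 1, 0, 2, 3, 2, 4, 7, 1, 3, 4, 5],
   [2, 1, 4, 3, 2, 3, 2, 1, 4, 3, 2, 1, 0, 3, 5, 4, 3, 2, 1, 0, 3, 2, 1, 3, 4, 5, 6, 1, 4, 6, 2, 3, 6, 2, 4],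
   [0, 1, 0, 2, 1, 3, 2, 1, 3, 2, 1, 4, 3, 2, 1, 0, 3, 5, 4, 3, 2, 1, 3, 2, 3, 4, 3, 2, 1, 3, 2, 6, 4, 3, 2, 6, 1, 3, 6, 2, 1, 4, 7, 3],
   [1, 2, 1, 0, 4, 3, 2, 1, 0, 3, 2, 1, 4, 3, 2, 1, 3, 4, 6, 1, 2, 1, 3, 4, 7, 1, 4, 6, 2, 3],
   [0, 1, 0, 2, 4, 3, 2, 5, 4, 3, 2, 1, 0, 3, 2, 1, 3, 4, 3, 2, 3, 2, 1, 0, 4, 3, 2, 1, 0, 3, 6, 1, 0, 2, 1, 3, 4, 3, 2, 1, 3, 2, 1],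
   [1, 0, 2, 1, 4, 3, 5, 4, 3, 2, 1, 3, 2, 3, 4, 3, 2, 1, 3, 2, 3, 6, 1, 2, 1, 3, 2, 1, 4, 3, 2, 7, 3],
   [0, 3, 2, 3, 2, 1, 4, 3, 2, 3, 2, 1, 0, 4, 3, 2, 1, 3, 2, 3, 2, 4, 3, 2, 1, 5, 4, 3, 2, 3, 2, 1, 4, 3, 2, 3, 2, 1, 4, 6, 1, 4, 3, 2, 3, 4, 6, 3, 6, 2],
   [0, 2, 1, 4, 3, 5, 4, 3, 2, 1, 3, 2, 3, 2, 1, 4, 3, 2, 1, 3, 2, 1, 0, 4, 3, 2, 6, 1, 7, 2, 3, 2, 1, 4, 3, 2, 1, 6, 1],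
   [0, 1, 0, 4, 3, 2, 1, 3, 2, 1, 3, 2, 4, 3, 2, 1, 3, 2, 3, 4, 3, 2, 1, 5, 4, 3, 2, 1, 3, 4, 5, 6, 1, 2, 4, 3, 2, 7, 4, 3, 2, 1, 6, 2, 3, 4],
   [4, 3, 2, 1, 3, 2, 3, 2, 1, 4, 3, 2, 1, 3, 2, 1, 4, 3, 2, 1, 3, 5, 6, 1, 2, 3, 2, 1, 3, 4, 3, 7, 2, 1, 3, 4, 5],
   [0, 1, 2, 1, 3, 2, 1, 3, 4, 3, 2, 1, 3, 2, 4, 3, 2, 1, 0, 3, 2, 4, 3, 2, 1, 0, 6, 2, 1, 4, 3, 2, 1, 3, 2, 5],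
   [0, 3, 5, 4, 3, 2, 1, 3, 2, 3, 4, 3, 2, 1, 0, 3, 2, 1, 3, 2, 3, 4, 3, 5, 6, 1, 0, 2, 1, 3, 4, 6, 3, 2, 1, 3, 2, 4],
   [1, 3, 2, 1, 5, 4, 3, 2, 1, 3, 2, 3, 4, 3, 2, 1, 3, 2, 3, 4, 3, 2, 1, 0, 3, 2, 1, 4, 5, 6, 1, 3, 4, 3, 2, 3, 4, 7, 2, 3, 2, 1, 7],
   [1, 0, 3, 2, 1, 0, 3, 2, 1, 5, 4, 3, 2, 1, 3, 2, 4, 3, 2, 1, 3, 2, 3, 2, 4, 3, 2, 1, 6, 1, 2, 3, 2, 1, 0, 4, 3, 2, 6, 3, 4],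
   [0, 4, 3, 2, 3, 2, 1, 4, 3, 2, 1, 3, 2, 1, 0, 4, 3, 2, 1, 5, 4, 3, 2, 1, 3, 2, 4, 3, 2, 5, 4, 6, 1, 2, 4, 3, 6, 2, 1, 0, 3],
   [0, 2, 1, 3, 2, 1, 3, 2, 4, 3, 2, 1, 5, 4, 3, 2, 1, 3, 2, 1, 4, 3, 2, 1, 0, 3, 2, 1, 6, 4, 3, 2, 7, 1, 7, 4, 3, 2, 3, 4, 6, 4],
   [1, 3, 2, 1, 0, 3, 4, 3, 2, 1, 3, 2, 3, 4, 3, 2, 1, 3, 5, 4, 3, 2, 3, 2, 1, 0, 6, 1, 0, 2, 1, 4, 3, 2, 1, 7, 4, 7, 3],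
   [0, 1, 0, 2, 3, 4, 3, 2, 1, 3, 2, 1, 3, 4, 3, 2, 1, 3, 2, 1, 4, 3, 2, 6, 2, 3, 4, 3, 2, 1, 3, 4, 6, 2, 4],
   [0, 1, 0, 2, 1, 0, 3, 2, 3, 4, 3, 2, 1, 3, 2, 1, 3, 2, 1, 0, 4, 3, 2, 1, 3, 2, 3, 2, 6, 1, 0, 4, 3, 2, 3, 6, 4, 6, 1, 3, 2, 3, 2],
   [1, 2, 1, 0, 3, 2, 1, 4, 3, 2, 3, 5, 4, 3, 2, 1, 0, 3, 2, 1, 3, 2, 4, 3, 2, 1, 3, 6, 1, 0, 2, 3, 2, 1, 0, 4, 3, 2, 1, 3, 2, 6, 2],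
   [0, 4, 5, 4, 6, 2, 4, 6],
   [1, 0, 2, 1, 3, 5, 4, 3, 2, 3, 2, 1, 4, 3, 2, 1, 3, 2, 1, 4, 3, 2, 1, 3, 2, 4, 3, 2, 6, 4, 3, 2, 7, 1, 3, 2, 6, 4, 3, 5, 4, 6],
   [1, 2, 1, 4, 3, 2, 1, 0, 3, 2, 1, 4, 3, 2, 1, 3, 2, 4, 3, 2, 1, 0, 3, 2, 6, 4, 3, 7, 2, 1, 6, 3, 2, 4, 3, 6, 2],
   [1, 2, 1, 3, 4, 3, 2, 3, 2, 1, 0, 4, 3, 2, 1, 3, 2, 3, 2, 4, 3, 2, 1, 3, 4, 5, 6, 1, 2, 3, 2, 4, 6, 1, 2, 7],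
   [2, 3, 2, 4, 3, 2, 1, 5, 4, 3, 2, 1, 3, 2, 1, 3, 4, 3, 2, 1, 3, 2, 1, 0, 6, 1, 2, 3, 2, 1, 7, 4, 3, 5, 4, 6, 3],
   [2, 3, 2, 1, 4, 3, 5, 4, 3, 2, 1, 0, 3, 2, 1, 4, 3, 2, 3, 2, 1, 4, 3, 6, 1, 2, 3, 2, 4, 7, 1, 0, 3, 2, 4, 6],
   [1, 3, 2, 3, 4, 3, 2, 3, 2, 1, 0, 4, 3, 2, 1, 3, 2, 4, 3, 2, 1, 3, 2, 3, 2, 4, 3, 2, 1, 0, 5, 4, 3, 2, 3, 6, 4, 3, 2, 3, 2, 1, 4, 7, 2, 3, 4, 3, 7],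
   [0, 1, 0, 2, 1, 0, 3, 2, 4, 3, 2, 1, 3, 2, 3, 4, 3, 2, 1, 5, 4, 3, 2, 1, 3, 2, 4, 3, 6, 4, 3, 2, 7, 1, 6, 1, 2, 3],
   [0, 1, 0, 3, 2, 1, 0, 3, 2, 3, 4, 3, 2, 1, 0, 3, 2, 1, 3, 2, 4, 3, 2, 1, 5, 4, 3, 2, 1, 3, 2, 6, 4, 3, 2, 3, 6, 1, 2, 3, 6, 1, 7],
   [1, 0, 4, 3, 2, 1, 3, 2, 5, 4, 3, 2, 1, 3, 2, 3, 4, 3, 2, 1, 0, 3, 5, 6, 1, 0, 4, 3, 2, 1, 7, 3, 2, 1, 3, 4, 3, 5],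
   [2, 3, 2, 3, 4, 3, 2, 1, 3, 2, 1, 4, 3, 2, 1, 0, 3, 4, 5, 4, 3, 6, 4, 3, 7, 2, 1, 3, 4, 6, 2, 6, 3, 2, 4],
   [0, 1, 3, 2, 3, 4, 3, 2, 1, 3, 2, 4, 3, 5, 4, 3, 2, 1, 0, 3, 2, 1, 3, 2, 4, 3, 2, 5, 4, 6, 1, 2, 3, 4, 7, 2, 1, 3, 2, 7, 1, 2, 3]]

def tWords24 : List (List Nat) :=
  [[0, 1, 2, 1, 3, 2, 1, 5, 4, 3, 2, 1, 3, 2, 4, 3, 2, 1, 5, 4, 3, 2, 1, 3, 2, 4, 5, 6, 1, 2, 3, 2, 6, 1, 4, 3, 6, 2, 6, 1, 3, 7],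
   [0, 1, 3, 5, 4, 3, 2, 1, 3, 2, 1, 3, 4, 3, 2, 1, 3, 5, 4, 3, 2, 1, 3, 2, 4, 3, 2, 1, 3, 6, 3, 4, 3, 2, 1, 3, 7, 1],
   [0, 3, 5, 4, 3, 2, 1, 3, 2, 1, 0, 4, 3, 2, 1, 0, 5, 4, 3, 2, 1, 3, 2, 4, 3, 2, 1, 5, 6, 1, 3, 2, 3, 2, 4, 3, 2, 7, 1, 6],
   [1, 2, 3, 2, 1, 3, 2, 3, 2, 1, 4, 3, 2, 1, 0, 3, 2, 1, 4, 3, 2, 3, 2, 1, 0, 4, 3, 6, 1, 2, 3, 2, 1, 0, 4, 3, 2, 3, 4, 7, 1, 6],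
   [0, 5, 4, 3, 2, 1, 3, 2, 1, 4, 3, 2, 1, 0, 3, 5, 4, 3, 2, 1, 3, 4, 5, 6, 1, 4, 3, 2, 6, 1, 3, 6, 2, 4],
   [2, 3, 2, 4, 3, 2, 1, 0, 5, 4, 3, 2, 1, 3, 2, 4, 3, 2, 5, 4, 3, 2, 3, 6, 3, 4, 3, 2, 1, 5, 4, 3, 2],
   [2, 1, 3, 2, 1, 3, 5, 4, 3, 2, 1, 3, 2, 1, 3, 4, 3, 2, 1, 0, 3, 2, 1, 4, 3, 2, 3, 2, 1, 4, 3, 6, 1, 2, 3, 2, 4, 6, 3, 4, 6, 2, 1, 0],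
   [1, 2, 1, 3, 2, 3, 4, 3, 2, 1, 3, 2, 1, 3, 4, 3, 2, 1, 0, 3, 2, 3, 4, 3, 2, 1, 3, 2, 3, 6, 1, 2, 3, 4, 7, 2, 1, 4, 7, 1, 3, 4],
   [3, 2, 1, 0, 3, 5, 4, 3, 2, 1, 3, 2, 4, 3, 2, 1, 3, 2, 3, 4, 3, 2, 3, 2, 1, 0, 4, 3, 2, 3, 4, 6, 1, 4, 3, 2, 1, 0, 3, 2, 1, 6, 4, 7],
   [1, 2, 1, 4, 3, 2, 1, 5, 4, 3, 2, 1, 3, 2, 1, 3, 4, 3, 2, 1, 5, 4, 3, 6, 1, 0, 4, 3, 2, 3, 2, 4, 3, 6, 2],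
   [3, 2, 1, 0, 3, 2, 4, 3, 2, 1, 5, 4, 3, 2, 1, 3, 2, 1, 0, 3, 4, 3, 2, 1, 0, 3, 2, 4, 5, 4, 6, 1, 2, 3, 2, 7, 1, 4, 3, 5, 4, 6, 3, 2, 1],
   [0, 1, 4, 3, 2, 1, 3, 2, 1, 3, 4, 3, 2, 1, 3, 2, 3, 4, 3, 2, 1, 3, 2, 1, 3, 4, 3, 2, 1, 3, 2, 3, 2, 1, 4, 6, 1, 2, 3, 2, 1, 0, 4, 3, 2, 7, 1, 3, 2],
   [0, 1, 3, 5, 4, 3, 2, 1, 3, 2, 1, 3, 4, 3, 2, 1, 3, 5, 4, 3, 2, 1, 3, 2, 4, 3, 5, 6, 4, 3, 2, 1, 3, 2, 4, 3, 2, 1, 5, 4, 7],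
   [2, 4, 3, 5, 4, 3, 2, 1, 3, 2, 3, 2, 4, 3, 2, 1, 0, 3, 2, 1, 3, 2, 4, 3, 2, 1, 5, 4, 3, 6, 4, 3, 7, 2, 1, 0, 3, 2, 1, 6, 3],
   [2, 1, 3, 4, 3, 2, 1, 3, 2, 4, 3, 2, 1, 3, 2, 3, 4, 3, 2, 3, 2, 1, 0, 4, 6, 4, 3, 2, 3, 7, 1, 2, 3, 2, 4, 7, 1],
   [0, 1, 3, 2, 1, 4, 3, 2, 1, 3, 2, 1, 0, 4, 3, 2, 1, 5, 4, 3, 2, 1, 3, 2, 4, 3, 2, 1, 6, 1, 2, 6, 3, 2, 6, 4, 3, 7, 4, 6],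
   [0, 1, 0, 2, 3, 4, 3, 2, 1, 3, 2, 1, 0, 3, 4, 3, 2, 1, 3, 2, 3, 2, 1, 4, 6, 1, 0, 2, 1, 3, 4, 5],
   [0, 1, 5, 4, 3, 2, 1, 0, 3, 2, 3, 4, 3, 2, 1, 3, 2, 1, 3, 2, 1, 4, 3, 2, 3, 2, 6, 1, 0, 2, 3, 4, 6, 2, 1, 3, 2, 7, 4, 3],
   [0, 1, 2, 1, 3, 2, 1, 0, 3, 4, 3, 2, 1, 3, 2, 1, 3, 4, 3, 2, 1, 3, 2, 4, 3, 5, 4, 6, 1, 2, 7, 3, 2, 1, 4, 3, 7, 1, 2, 1, 4, 7],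
   [0, 2, 4, 3, 5, 4, 3, 2, 1, 0, 3, 2, 3, 6, 1, 7, 2, 3, 2, 4, 3, 5, 4],
   [3, 2, 1, 3, 2, 1, 3, 4, 3, 2, 1, 3, 2, 4, 3, 2, 1, 3, 2, 4, 3, 2, 3, 4, 6, 1, 2, 1, 3, 2, 1, 7, 4, 3, 2, 1, 0, 6, 4],
   [0, 1, 2, 1, 0, 3, 5, 4, 3, 2, 1, 3, 2, 1, 3, 2, 4, 3, 2, 1, 5, 4, 3, 2, 3, 2, 4, 3, 2, 1, 0, 5, 6, 4, 3, 2, 6, 1, 7, 2, 3, 2, 1, 4],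
   [1, 0, 3, 2, 1, 4, 3, 2, 1, 0, 3, 2, 5, 4, 3, 2, 1, 0, 3, 2, 3, 4, 3, 2, 1, 3, 2, 5, 6, 4, 3, 6, 2, 1, 6, 4, 3, 2, 3, 4, 6, 1, 4],
   [0, 2, 1, 3, 2, 3, 4, 3, 2, 1, 0, 3, 2, 1, 0, 3, 4, 3, 2, 3, 2, 1, 4, 3, 2, 1, 3, 2, 4, 3, 2, 3, 6, 1, 2, 3, 2, 6, 1, 2, 4, 3, 7, 2, 1, 7, 1],
   [0, 4, 3, 2, 1, 3, 2, 1, 4, 3, 2, 1, 0, 5, 4, 3, 2, 1, 0, 3, 2, 1, 4, 3, 5, 6, 1, 4, 3, 2, 3, 7, 1, 2, 4, 7, 1, 4],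
   [1, 3, 2, 1, 0, 3, 5, 4, 3, 2, 3, 2, 1, 0, 4, 3, 2, 1, 3, 2, 3, 4, 3, 2, 1, 3, 5, 4, 3, 2, 3, 2, 4, 6, 1, 2, 3, 2, 6, 1, 4, 3, 2, 1, 0, 3, 7],
   [1, 0, 4, 3, 2, 3, 5, 4, 3, 2, 1, 0, 3, 2, 3, 4, 3, 2, 1, 3, 2, 3, 5, 6, 1, 0, 2, 1, 3, 4, 3, 2, 1, 3, 6, 1, 0],
   [0, 2, 4, 3, 2, 1, 3, 2, 3, 2, 1, 4, 3, 2, 1, 0, 3, 2, 1, 4, 3, 2, 3, 2, 1, 4, 3, 2, 6, 3, 4, 3, 2, 1, 3, 4, 6, 2, 4, 3, 2],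
   [0, 2, 1, 3, 2, 1, 3, 4, 3, 2, 1, 0, 3, 4, 5, 4, 3, 2, 1, 3, 2, 4, 3, 2, 1, 3, 2, 4, 3, 2, 1, 6, 4, 3, 2, 1, 3, 7, 2, 3, 4, 7, 1, 2],
   [0, 1, 0, 2, 3, 2, 1, 4, 3, 2, 1, 0, 3, 5, 4, 3, 2, 3, 2, 4, 3, 2, 1, 0, 6, 1, 2, 3, 4, 7, 2, 1, 3, 4, 7, 1],
   [2, 3, 2, 1, 4, 3, 2, 3, 2, 1, 4, 3, 2, 1, 3, 2, 1, 4, 3, 2, 1, 0, 3, 2, 5, 4, 6, 4, 3, 2, 1, 3, 6, 2, 3, 4, 6, 1, 2, 4],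
   [1, 2, 1, 3, 2, 1, 0, 3, 5, 4, 3, 2, 1, 3, 2, 1, 3, 4, 3, 2, 1, 3, 2, 3, 4, 6, 1, 0, 4, 3, 2, 3, 7, 1, 0, 2, 4],
   [0, 1, 2, 1, 0, 3, 2, 1, 3, 2, 4, 3, 2, 1, 3, 2, 4, 3, 2, 5, 4, 3, 2, 1, 3, 2, 6, 1, 2, 3, 4, 6, 2, 1, 3, 2, 7, 4, 3, 6, 2],
   [0, 1, 0, 2, 3, 2, 4, 3, 5, 4, 3, 2, 1, 3, 2, 3, 2, 1, 4, 3, 2, 1, 0, 3, 2, 1, 4, 3, 2, 1, 6, 1, 2, 3, 4, 7, 2, 1, 0, 3, 2, 4],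
   [0, 1, 3, 4, 3, 2, 1, 3, 2, 5, 4, 3, 2, 1, 3, 2, 4, 3, 2, 1, 3, 2, 4, 5, 6, 1, 2, 3, 2, 4, 6, 3, 2, 1, 6, 1, 2, 4],
   [4, 3, 2, 1, 3, 2, 3, 4, 3, 2, 1, 3, 2, 3, 2, 1, 4, 3, 2, 1, 5, 4, 3, 2, 1, 0, 3, 2, 4, 3, 6, 3, 4, 3, 2, 3, 2, 1, 4, 6, 2, 1, 3, 4],
   [0, 3, 2, 3, 4, 3, 2, 1, 3, 2, 3, 4, 3, 2, 1, 3, 2, 3, 4, 3, 2, 5, 4, 3, 2, 1, 0, 6, 1, 0, 2, 1, 3, 2, 3, 4, 7, 3, 2, 1, 6, 2],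
   [0, 1, 2, 3, 2, 1, 0, 3, 4, 3, 2, 1, 3, 2, 1, 0, 4, 3, 5, 6, 1, 0, 2, 3, 2, 4, 6, 3, 4, 6, 2, 1],
   [0, 1, 2, 3, 4, 3, 2, 1, 3, 2, 3, 4, 3, 2, 1, 3, 2, 4, 3, 2, 5, 4, 3, 2, 1, 3, 2, 3, 2, 1, 6, 1, 2, 3, 2, 1, 4, 3, 6, 2, 6, 1, 3, 4, 3],
   [0, 1, 2, 3, 2, 1, 3, 2, 3, 4, 3, 2, 1, 3, 2, 5, 4, 3, 2, 1, 3, 2, 3, 4, 3, 2, 1, 3, 4, 6, 1, 2, 3, 2, 1, 4, 6, 2, 4, 7, 3, 4, 6]]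

def tWords25 : List (List Nat) :=
  [[0, 1, 3, 2, 4, 3, 2, 1, 5, 4, 3, 2, 1, 3, 2, 1, 3, 4, 3, 2, 3, 2, 1, 4, 3, 2, 3, 2, 1, 4, 3, 2, 6, 1, 2, 3, 6, 2, 1, 4, 7, 3, 4, 7, 3, 4],
   [1, 0, 3, 4, 5, 4, 3, 2, 1, 3, 2, 4, 3, 2, 1, 5, 4, 3, 2, 1, 3, 2, 4, 6, 1, 0, 4, 3, 2, 1, 0, 3, 5, 4, 3, 2, 1, 3],
   [1, 2, 3, 4, 3, 2, 1, 0, 3, 2, 1, 0, 3, 4, 3, 2, 3, 2, 1, 4, 3, 2, 1, 3, 2, 6, 1, 2, 3, 2, 1, 3, 2, 4, 3, 7, 2, 4],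
   [3, 2, 1, 0, 3, 2, 1, 3, 2, 3, 4, 3, 2, 1, 3, 2, 4, 3, 2, 1, 3, 2, 4, 3, 6, 1, 0, 3, 4, 3, 2, 1, 3, 2, 4, 7, 1, 4, 7],
   [1, 2, 4, 3, 2, 5, 4, 3, 2, 1, 3, 2, 3, 4, 3, 2, 1, 3, 2, 5, 4, 3, 2, 3, 4, 6, 1, 0, 4, 3, 2, 1, 3, 2, 3, 2, 4, 6, 3, 2],
   [2, 3, 2, 3, 4, 3, 2, 1, 3, 2, 3, 5, 4, 3, 2, 1, 3, 2, 3, 2, 4, 3, 2, 1, 3, 2, 3, 2, 1, 0, 4, 5, 6, 1, 2, 3, 4, 6, 2, 1, 3, 4, 7, 3, 2, 4],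
   [1, 0, 3, 2, 3, 2, 4, 3, 2, 1, 5, 4, 3, 2, 3, 2, 1, 4, 3, 2, 1, 3, 2, 1, 0, 3, 4, 3, 2, 5, 4, 6, 4, 3, 2, 3, 2, 1, 4, 6, 2, 3, 2, 1],
   [0, 2, 3, 2, 1, 5, 4, 3, 2, 1, 3, 2, 1, 3, 4, 3, 2, 1, 3, 2, 1, 4, 3, 2, 1, 3, 2, 4, 5, 4, 3, 6, 1, 0, 2, 1, 4, 6, 3, 2, 3, 4, 3, 7, 3],
   [1, 0, 2, 1, 3, 2, 4, 3, 5, 4, 3, 2, 1, 3, 2, 3, 2, 1, 4, 3, 2, 3, 2, 1, 4, 3, 2, 3, 5, 6, 4, 3, 2, 1, 3, 2, 1, 7, 4, 5],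
   [1, 0, 2, 3, 2, 1, 0, 3, 4, 3, 2, 1, 3, 2, 1, 4, 3, 2, 1, 3, 2, 3, 4, 5, 4, 3, 2, 1, 6, 2, 4, 3, 2, 1, 0, 5, 4, 3, 2, 3, 4, 5],
   [1, 2, 3, 2, 1, 0, 3, 2, 4, 3, 2, 1, 0, 3, 2, 1, 4, 3, 2, 3, 5, 4, 3, 2, 1, 3, 2, 3, 2, 1, 0, 6, 3, 4, 3, 2, 1, 6, 2, 4, 3, 2, 1, 3, 4, 7],
   [1, 3, 2, 1, 4, 3, 2, 1, 0, 5, 4, 3, 2, 1, 0, 3, 2, 3, 4, 3, 5, 6, 1, 4, 6, 2, 1, 3, 7, 2, 4, 7, 1],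
   [1, 5, 4, 3, 2, 1, 3, 2, 1, 0, 3, 4, 3, 2, 1, 3, 2, 3, 4, 3, 2, 5, 4, 3, 2, 1, 0, 6, 1, 2, 3, 2, 7, 4, 7, 1, 3, 2, 3, 4, 3],
   [0, 1, 0, 2, 3, 4, 3, 2, 1, 3, 2, 4, 3, 2, 1, 0, 3, 2, 3, 4, 3, 2, 1, 3, 2, 3, 5, 4, 3, 6, 4, 3, 2, 1, 3, 2, 7, 3, 4, 6, 3, 2, 6],
   [0, 2, 3, 2, 1, 4, 3, 2, 5, 4, 3, 2, 1, 0, 3, 2, 3, 4, 3, 2, 1, 0, 3, 2, 1, 3, 2, 6, 1, 2, 3, 2, 1, 6, 4, 3, 2, 6, 1, 7],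
   [0, 1, 2, 1, 0, 3, 2, 4, 3, 2, 1, 5, 4, 3, 2, 1, 3, 2, 1, 0, 3, 4, 3, 2, 1, 0, 6, 1, 2, 3, 4, 3, 2, 3, 7, 1, 2, 7, 3],
   [1, 0, 3, 2, 1, 0, 3, 2, 1, 4, 3, 2, 1, 0, 3, 4, 5, 4, 3, 2, 1, 3, 4, 6, 1, 3, 4, 3, 2, 3, 4, 7, 3, 2],
   [0, 3, 4, 3, 2, 1, 3, 2, 3, 4, 3, 2, 1, 3, 2, 4, 3, 2, 1, 3, 2, 6, 4, 6, 3, 2, 1, 4, 3, 2, 3, 6, 1, 7, 2],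
   [1, 2, 3, 5, 4, 3, 2, 1, 3, 2, 4, 3, 2, 1, 3, 2, 3, 4, 3, 2, 3, 2, 1, 0, 4, 3, 2, 6, 1, 2, 3, 2, 4, 3, 2, 6, 1, 2, 3],
   [2, 3, 2, 1, 4, 3, 2, 3, 2, 1, 4, 3, 2, 3, 2, 1, 4, 3, 2, 1, 0, 3, 2, 4, 6, 2, 1, 4, 3, 2, 1, 3, 4, 6, 2, 4],
   [0, 2, 1, 3, 2, 1, 4, 3, 2, 3, 2, 4, 3, 2, 1, 3, 2, 3, 2, 1, 0, 4, 3, 2, 1, 3, 2, 4, 3, 6, 1, 2, 3, 2, 4, 3, 2, 7, 1, 4, 6, 2, 3],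
   [0, 3, 2, 1, 0, 3, 4, 3, 2, 1, 3, 2, 3, 2, 1, 4, 3, 2, 1, 3, 2, 3, 4, 3, 2, 1, 3, 2, 6, 1, 2, 1, 0, 3, 2, 4, 3, 2, 1, 0, 3],
   [3, 2, 1, 0, 3, 4, 3, 2, 3, 2, 1, 0, 4, 3, 2, 1, 3, 2, 4, 3, 2, 5, 4, 3, 2, 1, 3, 2, 3, 2, 1, 4, 3, 5, 6, 1, 2, 7, 3, 2, 1, 4, 3, 2, 6, 1, 4, 7],
   [1, 4, 3, 2, 5, 4, 3, 2, 1, 3, 2, 3, 2, 1, 0, 4, 3, 2, 1, 3, 2, 3, 2, 4, 3, 5, 4, 6, 4, 3, 2, 3, 2, 1],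
   [1, 2, 3, 2, 1, 3, 4, 3, 2, 1, 3, 2, 3, 4, 3, 2, 1, 3, 2, 1, 4, 3, 2, 1, 3, 2, 4, 3, 2, 1, 5, 6, 1, 0, 2, 4, 3, 2, 7, 1, 4, 3, 7, 4, 7, 3],
   [0, 1, 0, 2, 4, 3, 2, 1, 0, 3, 2, 1, 4, 3, 2, 3, 2, 4, 3, 6, 1, 2, 3, 6, 2, 1, 4, 3, 2, 1, 7, 3, 4],
   [0, 1, 2, 4, 3, 2, 1, 0, 3, 2, 1, 4, 3, 2, 3, 2, 1, 4, 3, 2, 1, 3, 4, 6, 1, 4, 3, 2, 3, 6, 1, 2, 7],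
   [2, 1, 0, 4, 5, 6, 1, 4, 3, 7, 2, 1, 6, 3, 4, 6, 4],
   [3, 2, 4, 3, 2, 1, 0, 5, 4, 3, 2, 1, 3, 2, 4, 3, 2, 1, 0, 5, 4, 3, 2, 1, 0, 6, 1, 2, 3, 6, 2, 4, 3, 2, 1, 6, 2, 6, 3, 2],
   [0, 2, 4, 5, 4, 3, 2, 6, 1, 2, 1, 3, 2, 1, 3, 4, 6],
   [2, 1, 0, 3, 5, 4, 3, 2, 1, 0, 3, 2, 3, 4, 3, 2, 1, 0, 3, 2, 1, 3, 2, 4, 3, 2, 5, 4, 3, 2, 1, 6, 1, 2, 3, 2, 1, 3, 2, 4, 3, 6, 4, 6],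
   [1, 0, 2, 3, 4, 3, 2, 3, 2, 1, 0, 4, 3, 2, 1, 3, 2, 3, 4, 3, 2, 1, 3, 2, 3, 4, 3, 6, 1, 7, 2, 3, 2, 1, 4, 6, 3, 2, 6, 1, 7],
   [0, 3, 2, 1, 3, 2, 3, 4, 3, 2, 1, 3, 2, 3, 4, 3, 2, 1, 3, 2, 3, 4, 3, 2, 1, 5, 6, 1, 7, 2, 3, 2, 4, 3, 7, 1, 2, 6, 1],
   [1, 0, 3, 2, 4, 3, 2, 1, 0, 3, 2, 1, 4, 3, 2, 1, 3, 2, 1, 4, 3, 2, 1, 5, 6, 1, 3, 4, 3, 2, 7, 4, 3, 2, 1, 7, 1, 6],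
   [0, 1, 0, 2, 3, 2, 1, 3, 2, 3, 4, 3, 2, 1, 3, 2, 1, 4, 3, 2, 1, 3, 2, 1, 3, 4, 3, 2, 5, 6, 1, 0, 4, 3, 2, 1, 3, 2, 6, 1, 7, 1],
   [0, 2, 5, 4, 3, 2, 1, 3, 2, 4, 3, 2, 1, 3, 2, 3, 2, 4, 3, 2, 1, 0, 3, 2, 1, 3, 4, 6, 3, 4, 3, 2, 1, 0, 3, 4, 6, 3],
   [1, 2, 5, 4, 3, 2, 1, 3, 2, 3, 4, 3, 2, 1, 3, 2, 3, 2, 1, 4, 3, 2, 3, 4, 5, 4, 3, 2, 1, 6, 1, 2, 3, 2, 1, 7, 2, 4, 7, 3, 2, 1, 4, 7],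
   [0, 1, 3, 2, 3, 4, 3, 2, 1, 3, 2, 3, 4, 3, 2, 1, 3, 2, 1, 3, 2, 1, 0, 4, 3, 2, 1, 5, 4, 3, 6, 1, 2, 7, 3, 2, 1, 4, 3, 2, 1, 3, 4, 5],
   [0, 2, 4, 3, 2, 1, 3, 2, 3, 2, 1, 4, 3, 2, 1, 3, 2, 4, 3, 2, 1, 3, 2, 3, 4, 3, 2, 3, 6, 1, 4, 3, 2, 3, 4, 6, 1, 2, 1, 4, 7, 1],
   [4, 3, 2, 3, 2, 4, 3, 2, 1, 3, 2, 3, 2, 1, 4, 3, 2, 1, 0, 3, 5, 4, 3, 6, 1, 6, 2, 3, 2, 1, 4, 3, 2, 1, 3, 5]]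

def tWords26 : List (List Nat) :=
  [[2, 1, 3, 2, 1, 4, 3, 2, 1, 0, 3, 5, 4, 3, 2, 1, 3, 2, 4, 3, 2, 1, 3, 2, 4, 3, 2, 3, 4, 6, 4, 3, 2, 1, 0, 3, 2, 1, 4, 3, 7, 1, 3],
   [2, 1, 3, 2, 1, 3, 2, 4, 3, 5, 4, 3, 2, 1, 3, 2, 1, 3, 2, 1, 0, 4, 3, 2, 1, 3, 2, 3, 2, 4, 3, 5, 6, 4, 3, 2, 3, 4, 7, 1, 6, 2, 1, 3, 4, 7, 2],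
   [0, 2, 1, 4, 3, 5, 4, 3, 2, 1, 3, 2, 1, 4, 3, 2, 1, 3, 5, 4, 3, 2, 1, 3, 2, 1, 4, 3, 2, 1, 5, 6, 4, 3, 2, 1, 5, 4, 7, 2, 3, 2, 1, 6],
   [0, 1, 0, 2, 1, 3, 2, 1, 0, 4, 3, 2, 5, 4, 3, 2, 1, 0, 3, 2, 3, 4, 3, 2, 1, 0, 3, 6, 1, 4, 6, 2, 1, 3, 7, 2, 4, 3, 6, 4, 6],
   [5, 4, 3, 2, 1, 3, 2, 4, 3, 2, 1, 3, 2, 3, 2, 4, 3, 2, 1, 3, 2, 4, 3, 2, 1, 6, 1, 0, 4, 3, 2, 3, 4, 7, 2, 1, 3, 2, 7],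
   [1, 0, 2, 3, 2, 1, 3, 2, 4, 3, 2, 1, 3, 2, 4, 3, 2, 1, 3, 2, 3, 4, 3, 2, 1, 3, 5, 4, 6, 4, 3, 2, 1, 3, 2, 7, 3, 4, 6, 3, 2, 4],
   [0, 3, 2, 4, 3, 2, 1, 3, 2, 3, 4, 3, 2, 1, 3, 2, 4, 3, 2, 1, 5, 4, 3, 2, 3, 4, 5, 6, 1, 2, 4, 3, 2, 1, 3, 4, 7, 1, 2, 1],
   [0, 1, 0, 2, 1, 3, 2, 1, 0, 3, 4, 5, 4, 3, 2, 1, 3, 2, 4, 3, 2, 1, 5, 4, 3, 2, 1, 3, 2, 1, 4, 6, 4, 3, 2, 1, 0, 3, 6, 2, 4, 6],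
   [0, 1, 0, 2, 1, 0, 3, 2, 1, 4, 3, 2, 3, 5, 4, 3, 2, 1, 3, 2, 3, 4, 3, 2, 1, 3, 2, 3, 2, 1, 4, 6, 1, 2, 3, 2, 1, 4, 7, 3, 2, 4, 3, 2, 6, 1],
   [1, 3, 4, 3, 2, 3, 2, 1, 0, 4, 3, 2, 1, 3, 2, 3, 4, 3, 2, 1, 3, 2, 4, 3, 5, 4, 3, 2, 1, 3, 2, 1, 3, 2, 4, 6, 1, 2, 3, 2, 6, 1, 0],
   [0, 3, 2, 1, 3, 4, 3, 2, 1, 0, 3, 2, 1, 0, 4, 3, 2, 1, 5, 4, 3, 2, 3, 4, 6, 3, 4, 3, 2, 3, 4, 7, 1, 2, 7, 1],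
   [0, 3, 4, 3, 2, 3, 2, 1, 0, 4, 3, 2, 1, 3, 2, 3, 2, 4, 3, 2, 1, 5, 4, 3, 2, 3, 2, 1, 4, 3, 2, 3, 6, 1, 0, 4, 3, 2, 1, 5, 4, 3, 2, 3, 6],
   [0, 2, 3, 2, 1, 3, 2, 3, 4, 3, 2, 1, 3, 2, 3, 2, 1, 4, 3, 2, 1, 0, 3, 2, 1, 4, 3, 2, 3, 4, 6, 1, 2, 3, 2, 7, 4, 3, 2, 6, 1, 4, 6, 1],
   [0, 3, 2, 3, 2, 1, 4, 3, 2, 1, 3, 4, 5, 4, 3, 2, 1, 3, 2, 3, 4, 5, 6, 1, 2, 1, 3, 2, 1, 6, 4, 3, 5, 4, 6, 2, 3, 4],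
   [1, 0, 3, 2, 1, 4, 3, 2, 1, 3, 2, 4, 3, 2, 5, 4, 3, 2, 1, 0, 3, 2, 1, 3, 2, 4, 3, 2, 1, 3, 2, 3, 4, 3, 2, 3, 2, 1, 4, 3, 6, 1, 7, 2, 3, 2, 1, 6, 4, 3, 2, 3, 7, 1, 0],
   [3, 2, 1, 4, 3, 2, 1, 0, 3, 2, 1, 4, 3, 2, 3, 2, 1, 0, 4, 3, 2, 1, 3, 2, 3, 2, 4, 3, 2, 5, 6, 4, 3, 7, 2, 1, 6, 3, 2, 7],
   [0, 2, 4, 3, 2, 1, 3, 2, 3, 4, 3, 2, 1, 3, 2, 1, 3, 4, 3, 2, 1, 3, 2, 3, 2, 1, 4, 3, 2, 5, 4, 3, 6, 1, 2, 3, 2, 3, 4, 3, 7, 1, 4, 7, 3, 2, 3],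
   [0, 1, 3, 4, 3, 2, 3, 5, 4, 3, 2, 1, 3, 2, 3, 2, 4, 3, 2, 1, 0, 3, 2, 3, 4, 5, 6, 4, 3, 2, 1, 3, 6, 1, 0, 2, 3, 4, 6, 3],
   [0, 1, 0, 2, 3, 2, 3, 4, 3, 2, 1, 5, 4, 3, 2, 1, 0, 6, 1, 3, 2, 3, 4, 6, 2, 1, 3, 2, 3, 4, 3, 5],
   [1, 2, 1, 3, 5, 4, 3, 2, 1, 3, 2, 1, 0, 3, 4, 3, 2, 1, 3, 2, 1, 3, 2, 4, 3, 6, 1, 4, 3, 2, 1, 3, 7, 4, 3, 2, 6, 1, 3, 7],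
   [2, 1, 3, 2, 1, 0, 3, 4, 5, 4, 3, 2, 1, 3, 2, 3, 4, 3, 2, 1, 0, 3, 2, 3, 4, 3, 2, 1, 0, 5, 6, 1, 4, 3, 6, 2, 3, 6, 1, 4],
   [0, 1, 3, 2, 1, 4, 5, 4, 3, 2, 1, 3, 2, 4, 3, 2, 1, 3, 2, 3, 4, 3, 2, 1, 0, 3, 5, 4, 6, 1, 0, 3, 4, 3, 2, 3, 2, 1, 4, 3, 2, 1, 0],
   [1, 0, 2, 1, 0, 3, 2, 1, 0, 3, 4, 3, 2, 1, 0, 3, 2, 1, 0, 4, 3, 2, 5, 4, 3, 2, 1, 0, 6, 1, 2, 3, 2, 7, 4, 7, 3, 2, 1, 7],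
   [0, 1, 0, 3, 2, 1, 3, 2, 4, 3, 2, 1, 3, 2, 4, 3, 2, 1, 3, 2, 3, 2, 1, 4, 5, 6, 1, 3, 2, 3, 4, 7, 2, 1, 3, 2, 7, 1, 0, 4],
   [1, 3, 2, 1, 4, 3, 5, 4, 3, 2, 1, 3, 2, 3, 4, 3, 2, 1, 0, 3, 2, 1, 3, 2, 4, 3, 2, 1, 5, 4, 3, 6, 1, 3, 2, 3, 2, 4, 3, 2, 1, 3, 4],
   [3, 2, 1, 0, 3, 2, 1, 4, 3, 2, 3, 5, 4, 3, 2, 1, 3, 2, 3, 2, 1, 4, 3, 2, 3, 4, 6, 4, 7, 3, 2, 1, 0, 3, 2, 4, 3],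
   [1, 2, 3, 2, 5, 4, 3, 2, 1, 3, 2, 3, 2, 1, 4, 3, 2, 1, 5, 4, 3, 2, 3, 6, 1, 2, 1, 3, 2, 1, 4, 3, 5, 4, 6, 2],
   [4, 3, 2, 1, 5, 4, 3, 2, 3, 2, 1, 4, 3, 2, 1, 0, 3, 2, 1, 0, 4, 3, 6, 1, 2, 3, 2, 4, 6, 1, 3, 4, 6, 2, 7],
   [1, 0, 2, 3, 4, 3, 2, 1, 3, 2, 1, 0, 4, 3, 2, 1, 5, 4, 3, 2, 1, 3, 2, 4, 3, 2, 1, 0, 6, 1, 2, 3, 2, 7, 1, 4, 3, 2, 1, 7, 4],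
   [0, 3, 2, 4, 3, 2, 1, 3, 2, 3, 2, 4, 3, 2, 1, 0, 5, 4, 3, 2, 1, 3, 2, 3, 4, 3, 2, 5, 6, 1, 2, 3, 2, 3, 4, 6, 3, 4, 3, 2, 1, 7, 2],
   [0, 1, 0, 2, 1, 3, 2, 3, 4, 3, 2, 1, 0, 3, 2, 1, 3, 2, 4, 3, 2, 5, 4, 3, 2, 1, 3, 2, 3, 2, 1, 4, 5, 6, 1, 4, 3, 2, 3, 2, 4, 3, 5, 4],
   [0, 1, 3, 4, 3, 2, 1, 5, 4, 3, 2, 1, 3, 2, 3, 4, 3, 2, 1, 3, 2, 3, 4, 3, 2, 1, 3, 2, 3, 4, 5, 4, 6, 1, 4, 7, 2, 3, 2, 1, 6, 4, 6, 3, 4],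
   [0, 2, 1, 0, 3, 2, 3, 4, 3, 2, 1, 3, 2, 4, 3, 2, 1, 0, 3, 2, 3, 6, 4, 3, 2, 7, 1, 3, 6, 2, 1, 4, 3, 7, 4, 6],
   [0, 1, 0, 2, 1, 3, 2, 1, 3, 4, 3, 2, 1, 0, 3, 2, 3, 4, 3, 2, 1, 3, 2, 3, 2, 1, 0, 4, 6, 1, 2, 1, 3, 4, 6, 1, 3, 2, 3, 4, 7, 1, 7],
   [3, 2, 1, 0, 3, 4, 3, 2, 1, 3, 2, 1, 3, 4, 3, 2, 1, 3, 2, 1, 3, 2, 4, 3, 6, 1, 0, 4, 3, 2, 3, 4, 7, 1, 2, 6],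
   [0, 1, 0, 2, 1, 3, 4, 3, 2, 1, 3, 2, 3, 4, 3, 2, 1, 3, 2, 1, 3, 4, 3, 2, 1, 0, 3, 2, 4, 3, 5, 6, 1, 2, 3, 4, 3, 2, 7, 1, 2, 6, 1, 3],
   [0, 1, 4, 3, 2, 1, 0, 5, 4, 3, 2, 1, 3, 2, 3, 4, 3, 2, 1, 3, 2, 1, 4, 3, 2, 1, 3, 2, 6, 4, 3, 2, 1, 3, 6, 2, 4, 6, 1, 3, 7],
   [0, 1, 0, 2, 1, 3, 4, 3, 2, 1, 0, 3, 2, 1, 4, 3, 2, 3, 5, 4, 3, 2, 1, 3, 2, 3, 2, 1, 0, 6, 1, 2, 3, 2, 1, 0, 4, 3, 2, 3, 4, 6, 3, 2, 3],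
   [0, 3, 5, 4, 3, 2, 1, 0, 3, 2, 1, 3, 2, 4, 3, 2, 1, 3, 2, 3, 4, 3, 2, 1, 3, 2, 4, 3, 2, 1, 5, 6, 4, 3, 2, 1, 3, 2, 1, 3, 2, 6, 4, 7],
   [0, 5, 4, 3, 2, 3, 2, 1, 0, 4, 3, 2, 1, 3, 2, 3, 4, 3, 2, 1, 3, 2, 1, 0, 4, 6, 1, 2, 7, 3, 2, 1, 4, 3, 2, 1, 7, 2]]

def tWords27 : List (List Nat) :=
  [[0, 2, 3, 2, 1, 3, 2, 3, 2, 4, 3, 2, 1, 3, 2, 4, 3, 2, 1, 3, 2, 3, 4, 3, 2, 3, 2, 6, 1, 0, 2, 4, 3, 6, 2, 1, 3, 4, 6, 1, 4],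
   [1, 0, 4, 5, 4, 3, 2, 1, 3, 2, 4, 3, 2, 1, 0, 5, 4, 3, 2, 3, 4, 6, 1, 2, 3, 4, 3, 2, 3, 7, 1, 4, 3],
   [0, 2, 4, 3, 2, 1, 3, 2, 4, 3, 2, 1, 3, 2, 3, 4, 3, 2, 1, 0, 3, 2, 1, 3, 4, 3, 2, 1, 3, 5, 6, 1, 2, 3, 2, 1, 0, 4, 3, 2, 3, 7, 1],
   [0, 1, 0, 3, 2, 4, 3, 2, 1, 5, 4, 3, 2, 1, 3, 2, 1, 0, 3, 4, 3, 2, 1, 0, 3, 5, 6, 3, 4, 3, 2, 3, 2, 1, 4, 6, 2, 1, 3, 4],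
   [3, 2, 1, 4, 3, 2, 1, 0, 3, 5, 4, 3, 2, 3, 2, 1, 4, 3, 6, 1, 0, 2, 3, 2, 1, 4, 6, 3, 6, 2, 1, 0, 4],
   [3, 2, 1, 0, 3, 4, 3, 2, 1, 3, 2, 1, 3, 4, 3, 2, 1, 3, 2, 1, 3, 2, 6, 1, 2, 3, 4, 6, 2, 3, 2, 1, 6, 4, 3],
   [0, 1, 0, 2, 3, 2, 1, 3, 2, 4, 3, 2, 5, 4, 3, 2, 1, 3, 2, 3, 2, 1, 4, 3, 2, 3, 4, 6, 2, 4, 6, 3, 2, 1, 4, 3, 2, 3, 2, 4, 3],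
   [2, 3, 2, 1, 0, 3, 2, 3, 4, 3, 2, 3, 2, 4, 3, 6, 1, 0, 2, 1, 3, 2, 6, 4, 3, 2, 1, 3, 2, 3],
   [0, 3, 2, 3, 2, 1, 4, 3, 2, 1, 0, 3, 2, 1, 0, 4, 3, 2, 1, 3, 2, 4, 3, 2, 1, 0, 3, 2, 3, 6, 4, 3, 2, 1, 6, 2, 6, 3, 2, 1],
   [2, 1, 3, 2, 3, 5, 4, 3, 2, 1, 3, 2, 3, 4, 3, 2, 1, 3, 2, 1, 3, 2, 1, 4, 3, 2, 3, 6, 1, 2, 3, 2, 7, 1, 4, 3, 7, 1, 2, 4, 6],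
   [0, 1, 2, 3, 2, 1, 3, 4, 3, 2, 1, 0, 3, 2, 1, 3, 4, 3, 2, 1, 3, 2, 5, 4, 6, 4, 3, 2, 1, 3, 2, 1, 0, 4, 3, 7, 4],
   [1, 0, 2, 3, 2, 1, 3, 2, 3, 4, 3, 2, 1, 3, 2, 4, 3, 2, 1, 3, 2, 4, 6, 1, 0, 2, 3, 2, 4, 7, 1, 3, 2, 4, 6, 1, 6],
   [1, 2, 1, 3, 2, 1, 0, 3, 4, 3, 2, 1, 3, 2, 1, 4, 3, 2, 1, 3, 2, 4, 3, 5, 4, 3, 2, 1, 3, 2, 3, 2, 1, 4, 3, 2, 1, 3, 2, 1, 3, 2, 4, 3, 6, 1, 0, 2, 1, 4, 3, 6, 2, 3, 4, 6, 4],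
   [0, 1, 0, 2, 3, 2, 1, 4, 3, 2, 1, 3, 2, 4, 3, 2, 1, 3, 2, 3, 2, 1, 4, 3, 2, 1, 6, 1, 4, 3, 2, 3, 4, 6, 3, 2, 1, 3, 4, 5],
   [2, 1, 4, 3, 2, 3, 2, 4, 3, 2, 1, 3, 2, 3, 4, 3, 2, 1, 0, 3, 2, 5, 4, 3, 2, 1, 6, 4, 3, 2, 3, 2, 1, 4, 3, 6, 2, 1, 3, 7],
   [2, 1, 3, 2, 1, 0, 3, 2, 1, 0, 4, 3, 2, 1, 3, 2, 4, 3, 2, 5, 4, 3, 2, 1, 3, 2, 3, 2, 1, 4, 6, 1, 2, 3, 2, 3],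
   [2, 3, 4, 3, 2, 1, 3, 2, 4, 3, 5, 4, 3, 2, 1, 3, 2, 1, 6, 1, 2, 3, 4, 3, 2, 1, 3, 6, 1, 6, 4],
   [0, 2, 1, 3, 5, 4, 3, 2, 3, 2, 1, 0, 4, 3, 2, 1, 3, 2, 3, 4, 3, 2, 3, 4, 6, 1, 2, 3, 4, 6, 3, 6, 2, 1, 3, 2, 3],
   [1, 4, 3, 2, 1, 3, 2, 3, 4, 3, 2, 1, 3, 2, 1, 4, 3, 2, 1, 0, 5, 4, 3, 2, 1, 3, 2, 4, 3, 2, 6, 1, 0, 4, 3, 2, 1, 3, 4, 6, 2, 1, 3, 4],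
   [0, 1, 2, 1, 3, 4, 3, 2, 1, 0, 3, 2, 1, 4, 3, 2, 3, 5, 4, 3, 2, 1, 3, 2, 3, 4, 3, 2, 1, 3, 4, 5, 6, 1, 2, 3, 6, 2, 1, 4, 7, 3, 2, 4, 3, 6],
   [2, 1, 4, 3, 2, 3, 2, 4, 3, 2, 6, 1, 0, 2, 1, 0, 3, 4, 3, 2, 1, 3, 4, 5, 4],
   [0, 2, 1, 3, 2, 3, 5, 4, 3, 2, 1, 3, 2, 3, 2, 4, 3, 2, 1, 3, 2, 3, 2, 4, 6, 2, 3, 4, 3, 2, 1, 3, 4, 6, 2, 1, 3],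
   [1, 2, 1, 4, 3, 2, 1, 3, 5, 4, 3, 2, 1, 3, 2, 3, 4, 3, 2, 1, 0, 3, 4, 6, 4, 3, 2, 1, 3, 6, 2, 1, 0, 4, 6, 3, 7],
   [3, 2, 1, 3, 2, 3, 4, 3, 2, 1, 3, 2, 4, 3, 5, 4, 3, 2, 3, 6, 1, 0, 2, 3, 2, 1, 6, 4, 3, 2, 6, 4],
   [0, 1, 3, 2, 1, 5, 4, 3, 2, 3, 2, 4, 3, 2, 1, 3, 2, 3, 2, 1, 0, 4, 3, 2, 1, 3, 2, 4, 3, 2, 1, 0, 6, 4, 3, 2, 1, 0, 3, 6, 2, 3, 4, 3, 7, 4, 5],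
   [1, 2, 1, 0, 3, 2, 1, 4, 3, 5, 4, 3, 2, 1, 0, 3, 2, 1, 4, 3, 2, 5, 4, 3, 2, 1, 3, 2, 6, 1, 2, 1, 3, 4, 7, 1, 4, 3, 2, 3],
   [0, 2, 3, 2, 1, 0, 3, 4, 3, 2, 3, 2, 1, 4, 3, 2, 1, 3, 2, 1, 4, 3, 2, 1, 3, 2, 4, 5, 6, 4, 3, 2, 6, 1, 3, 2, 4, 6, 1, 3, 7, 1],
   [1, 2, 3, 2, 1, 4, 3, 2, 1, 3, 2, 4, 3, 2, 1, 3, 2, 3, 4, 3, 2, 1, 3, 2, 1, 3, 4, 3, 6, 1, 4, 3, 2, 3, 4, 7, 2, 3, 4, 7, 1, 7, 2],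
   [0, 1, 2, 3, 4, 3, 2, 1, 0, 3, 2, 1, 3, 4, 3, 2, 3, 2, 1, 4, 3, 2, 3, 4, 5, 4, 6, 1, 2, 3, 2, 1, 4, 3, 2, 7, 1, 7, 2, 1, 4],
   [0, 1, 0, 3, 4, 3, 2, 1, 3, 2, 1, 3, 4, 3, 2, 1, 3, 5, 4, 3, 2, 3, 2, 6, 1, 6, 2, 3, 4, 6, 4, 5],
   [1, 0, 4, 3, 2, 1, 3, 2, 4, 3, 5, 4, 3, 2, 1, 3, 2, 3, 2, 1, 4, 3, 2, 1, 0, 3, 5, 4, 6, 1, 4, 3, 2, 7, 1, 7, 2, 4, 3],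
   [0, 2, 1, 3, 2, 1, 3, 2, 1, 3, 4, 3, 2, 1, 0, 3, 2, 1, 0, 4, 3, 2, 3, 4, 6, 1, 0, 4, 3, 2, 3, 4, 7, 1, 2, 6],
   [0, 1, 2, 3, 2, 3, 4, 3, 2, 1, 3, 2, 4, 3, 2, 1, 0, 3, 2, 3, 4, 3, 2, 1, 3, 2, 3, 5, 4, 3, 2, 6, 1, 2, 3, 2, 7, 4, 7, 3, 4, 7, 1],
   [0, 1, 0, 2, 3, 4, 3, 2, 1, 3, 2, 1, 3, 2, 4, 3, 2, 3, 4, 5, 6, 1, 2, 4, 6, 3, 6, 1, 2, 3, 4, 6, 1, 4],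
   [5, 4, 3, 2, 1, 3, 2, 3, 4, 3, 2, 1, 0, 3, 2, 1, 3, 4, 3, 2, 1, 3, 2, 1, 0, 3, 4, 3, 6, 1, 2, 4, 3, 2, 7, 4, 3, 2, 1, 7, 2, 4],
   [3, 2, 1, 5, 4, 3, 2, 1, 3, 2, 4, 3, 2, 1, 5, 4, 3, 2, 3, 2, 1, 4, 3, 2, 1, 0, 3, 4, 5, 6, 1, 0, 2, 1, 4, 7, 3, 2, 3, 4, 6, 3],
   [1, 0, 2, 1, 0, 3, 2, 1, 4, 3, 2, 3, 2, 1, 4, 3, 2, 3, 2, 1, 4, 3, 2, 3, 2, 1, 6, 1, 7, 2, 1, 3, 6, 4],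
   [1, 0, 2, 1, 3, 2, 1, 3, 4, 3, 2, 1, 0, 3, 2, 1, 3, 4, 3, 2, 1, 0, 3, 2, 1, 6, 1, 4, 3, 2, 1, 3, 2, 1, 3, 7, 1, 2],
   [0, 3, 5, 4, 3, 2, 1, 0, 3, 2, 1, 3, 2, 4, 3, 2, 1, 3, 2, 3, 2, 1, 4, 3, 2, 6, 1, 2, 3, 2, 6, 4, 3, 7, 2, 1, 4],
   [1, 3, 2, 1, 3, 2, 4, 3, 2, 1, 0, 3, 2, 1, 3, 4, 3, 2, 1, 3, 2, 3, 2, 1, 4, 6, 1, 0, 2, 1, 3, 7, 2, 4, 3, 7, 4, 5]]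

def tWords28 : List (List Nat) :=
  [[0, 3, 2, 4, 3, 2, 1, 0, 5, 4, 3, 2, 1, 3, 2, 3, 4, 3, 2, 1, 3, 5, 4, 3, 2, 3, 2, 1, 4, 5, 6, 1, 2, 3, 4, 3, 2, 1, 6, 2, 3, 7, 2, 1],
   [0, 1, 2, 1, 3, 2, 1, 3, 2, 3, 5, 4, 3, 2, 1, 3, 2, 3, 4, 3, 2, 1, 3, 2, 3, 4, 6, 1, 4, 3, 2, 1, 3, 6, 2, 1, 4, 3, 2, 1],
   [0, 3, 2, 1, 4, 3, 2, 1, 0, 5, 4, 3, 2, 1, 3, 2, 3, 4, 3, 2, 1, 0, 3, 2, 4, 5, 6, 1, 0, 2, 3, 2, 1, 0, 4, 3, 2, 1, 0, 3],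
   [2, 1, 0, 5, 4, 3, 2, 1, 0, 3, 2, 1, 4, 3, 2, 1, 3, 2, 1, 4, 3, 2, 1, 3, 2, 4, 3, 5, 4, 3, 6, 1, 3, 2, 3, 2, 4, 3, 6, 1, 6, 2, 1],
   [1, 2, 4, 3, 2, 1, 0, 3, 2, 1, 4, 3, 2, 1, 3, 2, 4, 3, 2, 5, 4, 3, 6, 1, 2, 3, 2, 1, 6, 4, 3, 2, 6, 3, 4],
   [2, 1, 3, 2, 1, 3, 4, 3, 2, 1, 3, 2, 3, 2, 4, 3, 2, 1, 3, 2, 3, 2, 1, 0, 4, 3, 2, 1, 3, 2, 3, 4, 5, 6, 1, 0, 2, 1, 3, 2, 1, 4, 3, 2, 7, 3, 4, 5],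
   [1, 0, 2, 1, 3, 5, 4, 3, 2, 1, 3, 2, 1, 3, 4, 3, 2, 1, 3, 2, 1, 4, 3, 2, 1, 3, 5, 4, 3, 2, 6, 1, 0, 2, 1, 4, 3, 2, 1, 7, 3, 4, 6, 3, 4],
   [0, 1, 0, 4, 3, 2, 1, 3, 2, 3, 5, 4, 3, 2, 1, 0, 3, 2, 1, 3, 2, 4, 3, 2, 1, 0, 3, 2, 4, 3, 6, 4, 3, 7, 2, 1, 3, 4, 7, 2, 3, 4, 5],
   [1, 3, 2, 1, 3, 2, 1, 4, 3, 2, 1, 0, 3, 5, 4, 3, 2, 3, 4, 6, 1, 2, 3, 2, 1, 6, 4, 3, 2, 1, 6, 3, 4],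
   [2, 1, 0, 3, 2, 1, 0, 3, 2, 3, 4, 3, 2, 3, 2, 1, 4, 3, 2, 3, 2, 1, 4, 3, 2, 5, 4, 3, 2, 6, 4, 3, 2, 3, 7, 1, 4, 7, 2, 3, 4, 6],
   [0, 1, 2, 1, 3, 2, 1, 3, 4, 3, 2, 1, 3, 2, 3, 4, 3, 2, 1, 3, 2, 1, 4, 3, 2, 3, 4, 5, 6, 1, 2, 3, 2, 3, 4, 3, 7, 1, 0, 2, 4, 3, 2],
   [0, 1, 3, 2, 1, 3, 2, 1, 0, 3, 4, 3, 2, 1, 3, 2, 1, 0, 4, 3, 2, 5, 4, 3, 2, 1, 6, 1, 2, 4, 6, 3, 6, 2, 1, 0],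
   [1, 2, 1, 3, 2, 3, 4, 3, 2, 1, 3, 2, 1, 3, 4, 3, 2, 1, 3, 2, 1, 3, 2, 1, 6, 1, 4, 3, 2, 1, 6, 1, 3, 2, 1, 0],
   [0, 1, 2, 3, 2, 4, 3, 2, 1, 3, 2, 3, 4, 3, 2, 1, 3, 2, 4, 3, 2, 1, 0, 5, 4, 3, 2, 1, 6, 1, 4, 3, 2, 3, 7, 1, 4, 3, 2, 3, 4],
   [0, 2, 3, 2, 1, 3, 4, 3, 2, 1, 5, 4, 3, 2, 1, 3, 2, 4, 3, 2, 1, 0, 5, 4, 3, 2, 3, 4, 6, 1, 2, 3, 2, 1, 3, 4, 3, 7, 2, 4, 3, 2],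
   [2, 3, 2, 1, 4, 3, 2, 5, 4, 3, 2, 1, 3, 2, 3, 2, 1, 6, 4, 6, 3, 2, 3, 4, 6, 1, 2, 3, 7, 1],
   [0, 1, 2, 1, 0, 3, 2, 4, 3, 2, 1, 0, 5, 4, 3, 2, 1, 3, 2, 3, 4, 3, 2, 1, 0, 3, 2, 5, 4, 6, 1, 0, 2, 3, 4, 3, 2, 3, 4, 7, 1, 6, 2, 3],
   [2, 1, 3, 2, 1, 0, 3, 5, 4, 3, 2, 1, 3, 2, 1, 4, 3, 2, 1, 0, 3, 2, 1, 4, 3, 2, 3, 6, 1, 0, 2, 1, 3, 2, 4, 3, 2, 1, 3, 2, 4],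
   [0, 4, 3, 2, 1, 0, 3, 5, 4, 3, 2, 1, 3, 2, 1, 3, 4, 3, 2, 1, 0, 3, 2, 3, 4, 3, 2, 1, 0, 3, 2, 1, 6, 1, 0, 2, 1, 4, 3, 6, 2, 1, 6, 3, 4, 6],
   [1, 3, 2, 1, 3, 2, 3, 2, 1, 4, 3, 2, 1, 3, 5, 4, 3, 2, 1, 0, 3, 2, 1, 4, 3, 2, 3, 2, 4, 3, 2, 6, 1, 0, 2, 3, 2, 4, 7, 1, 3, 6, 2, 4, 6],
   [0, 4, 3, 2, 1, 3, 2, 4, 3, 2, 1, 5, 4, 3, 2, 1, 3, 2, 1, 0, 3, 4, 3, 2, 1, 3, 2, 1, 4, 3, 2, 6, 1, 2, 1, 0, 3, 2, 1, 7, 4, 3, 2, 3],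
   [0, 1, 3, 2, 1, 3, 4, 3, 2, 1, 5, 4, 3, 2, 1, 3, 2, 3, 4, 3, 2, 1, 0, 5, 6, 1, 2, 3, 2, 6, 4, 3, 2, 6, 1, 2, 3, 6],
   [0, 3, 2, 1, 5, 4, 3, 2, 1, 3, 2, 3, 4, 3, 2, 1, 0, 3, 2, 3, 4, 6, 1, 4, 3, 2, 5, 4, 6, 1, 3, 2, 1, 3, 4, 5],
   [0, 3, 2, 1, 3, 2, 1, 3, 4, 3, 2, 1, 0, 3, 2, 1, 3, 4, 3, 2, 1, 0, 3, 2, 5, 6, 1, 7, 2, 3, 2, 1, 4, 7, 3, 2, 1, 0, 3],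
   [1, 2, 3, 2, 1, 3, 2, 3, 2, 1, 4, 3, 2, 1, 0, 3, 2, 1, 4, 3, 2, 3, 2, 1, 0, 4, 3, 6, 1, 2, 3, 2, 1, 4, 3, 2, 3, 4, 7, 1, 6],
   [1, 2, 1, 0, 4, 3, 2, 1, 0, 3, 2, 1, 4, 3, 2, 1, 3, 2, 4, 3, 2, 1, 3, 2, 3, 2, 6, 1, 0, 2, 3, 2, 1, 0, 4, 3, 6, 2, 1, 6],
   [4, 3, 2, 1, 3, 2, 1, 3, 4, 3, 2, 3, 2, 1, 4, 3, 2, 3, 2, 1, 0, 4, 3, 2, 1, 3, 2, 3, 4, 3, 2, 3, 2, 6, 4, 3, 2, 6, 1, 3, 4, 6, 2, 1, 3, 7, 4],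
   [0, 1, 0, 2, 1, 3, 2, 4, 3, 2, 1, 0, 5, 4, 3, 2, 1, 0, 3, 2, 4, 3, 2, 6, 1, 4, 3, 2, 3, 7, 4, 7, 3, 2, 1, 7, 2, 1],
   [0, 3, 2, 1, 0, 3, 2, 1, 4, 3, 2, 1, 0, 3, 2, 4, 5, 4, 3, 2, 1, 0, 6, 3, 4, 3, 2, 3, 4, 6, 1, 3, 2, 7],
   [0, 2, 1, 3, 2, 1, 0, 3, 2, 1, 0, 4, 3, 2, 1, 3, 2, 3, 4, 3, 2, 1, 3, 2, 4, 3, 2, 1, 6, 1, 2, 4, 7, 3, 2, 1, 3, 4, 7, 2, 3, 4],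
   [0, 1, 2, 1, 0, 3, 2, 1, 4, 3, 2, 3, 2, 1, 4, 3, 2, 1, 5, 4, 3, 2, 1, 0, 6, 1, 2, 1, 3, 2, 1, 4, 3, 5, 4, 7, 2, 4],
   [0, 1, 2, 3, 4, 3, 2, 1, 3, 2, 3, 4, 3, 2, 1, 3, 2, 5, 4, 3, 2, 1, 3, 2, 3, 4, 5, 6, 4, 3, 2, 1, 3, 2, 1, 3, 7, 1, 4, 6, 3],
   [1, 4, 3, 2, 1, 5, 4, 3, 2, 1, 3, 2, 4, 3, 2, 1, 3, 2, 3, 4, 3, 2, 3, 2, 1, 4, 6, 1, 0, 4, 3, 2, 1, 0, 3, 4, 6, 2, 3, 4, 7],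
   [0, 3, 2, 3, 2, 4, 3, 2, 1, 3, 2, 3, 2, 4, 3, 2, 1, 5, 4, 3, 2, 3, 2, 4, 3, 2, 6, 1, 0, 2, 1, 4, 6, 3, 2, 4, 7, 3],
   [0, 2, 1, 3, 2, 1, 3, 5, 4, 3, 2, 1, 0, 3, 2, 1, 0, 4, 3, 5, 6, 1, 2, 1, 3, 2, 1, 3, 4, 3, 2, 7, 4, 3],
   [1, 4, 3, 2, 1, 3, 2, 1, 3, 2, 4, 3, 2, 1, 3, 2, 3, 2, 1, 4, 3, 2, 5, 4, 3, 6, 2, 4, 3, 2, 1, 3, 6, 1, 2, 1, 6],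
   [0, 2, 4, 3, 2, 1, 0, 5, 4, 3, 2, 1, 3, 2, 4, 3, 2, 5, 4, 3, 2, 1, 3, 2, 3, 2, 4, 3, 6, 1, 0, 4, 6, 3, 2, 3, 4, 6, 3, 7],
   [0, 2, 1, 3, 2, 3, 4, 3, 2, 1, 3, 2, 1, 3, 4, 3, 2, 1, 0, 3, 2, 1, 3, 4, 3, 2, 1, 3, 2, 4, 6, 1, 0, 2, 1, 3, 2, 1, 4, 7, 3, 2, 3, 4, 6],
   [2, 1, 3, 2, 1, 5, 4, 3, 2, 1, 3, 2, 4, 3, 2, 1, 3, 2, 3, 4, 3, 2, 3, 2, 1, 0, 6, 1, 2, 3, 4, 3, 2, 7, 1, 2, 3, 6, 4, 3, 6],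
   [0, 1, 0, 2, 1, 0, 3, 2, 1, 0, 3, 4, 3, 2, 1, 3, 2, 3, 2, 1, 4, 3, 2, 1, 3, 2, 3, 6, 4, 3, 6, 2, 1, 3, 6, 2, 4, 3, 7, 4]]

def tWords29 : List (List Nat) :=
  [[1, 2, 1, 0, 3, 2, 1, 3, 4, 3, 2, 1, 3, 2, 1, 4, 3, 2, 1, 3, 5, 4, 3, 2, 1, 3, 2, 4, 6, 4, 3, 2, 1, 0, 3, 2, 4, 3, 7, 4, 3, 2, 6],
   [0, 1, 0, 4, 3, 5, 4, 3, 2, 3, 2, 1, 4, 3, 2, 3, 2, 1, 0, 4, 3, 2, 5, 6, 4, 3, 2, 1, 3, 7, 2, 4, 7, 1, 3, 4, 7],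
   [3, 4, 3, 2, 1, 0, 3, 2, 1, 3, 2, 3, 4, 3, 2, 1, 3, 2, 4, 3, 5, 4, 3, 2, 1, 3, 2, 3, 2, 4, 6, 1, 4, 6, 3, 2, 4, 3, 2, 7, 1, 7, 2],
   [2, 1, 0, 3, 5, 4, 3, 2, 1, 3, 2, 1, 0, 3, 4, 3, 2, 1, 0, 3, 5, 4, 3, 2, 1, 3, 2, 1, 3, 6, 1, 0, 2, 1, 4, 3, 6, 2, 1, 0, 3, 2, 1, 4, 3],
   [1, 0, 2, 1, 0, 3, 2, 3, 4, 3, 2, 1, 3, 2, 1, 4, 3, 2, 1, 3, 2, 4, 3, 2, 1, 3, 4, 5, 6, 4, 3, 2, 1, 0, 3, 7, 2, 4, 3, 6, 1],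
   [0, 2, 1, 0, 3, 4, 3, 2, 1, 3, 2, 3, 2, 1, 4, 3, 2, 1, 0, 3, 2, 5, 4, 3, 2, 1, 6, 1, 2, 3, 7, 4, 3, 6, 2, 3, 4, 6, 1],
   [0, 1, 0, 3, 2, 1, 0, 3, 4, 3, 2, 1, 3, 5, 4, 3, 2, 1, 3, 2, 1, 4, 3, 2, 1, 0, 6, 1, 0, 2, 3, 4, 3, 2, 1, 7, 1, 2, 3],
   [0, 1, 2, 3, 2, 1, 3, 4, 3, 2, 1, 5, 4, 3, 2, 1, 3, 2, 3, 4, 3, 2, 1, 3, 2, 3, 2, 4, 3, 2, 1, 5, 6, 3, 4, 3, 2, 3, 4, 6, 1, 0, 2, 1, 3, 7, 2],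
   [0, 2, 1, 3, 2, 1, 0, 5, 4, 3, 2, 1, 3, 2, 3, 4, 3, 2, 1, 5, 4, 3, 2, 1, 0, 3, 4, 5, 6, 1, 0, 2, 1, 3, 4, 3, 7, 2, 3, 4, 7, 3],
   [0, 3, 2, 1, 5, 4, 3, 2, 1, 3, 2, 1, 0, 3, 4, 3, 2, 1, 3, 2, 1, 3, 4, 3, 2, 1, 6, 1, 4, 3, 2, 7, 1, 3, 7, 2, 1, 4, 6],
   [1, 2, 1, 3, 2, 5, 4, 3, 2, 1, 3, 2, 3, 4, 3, 2, 1, 0, 3, 2, 3, 4, 3, 2, 1, 0, 3, 2, 1, 3, 6, 4, 3, 2, 3, 7, 1, 4, 7, 2, 1, 4, 6],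
   [0, 1, 0, 2, 1, 3, 2, 1, 4, 3, 2, 3, 2, 1, 0, 4, 3, 2, 1, 3, 2, 3, 2, 4, 3, 2, 5, 4, 6, 1, 2, 3, 2, 4, 7, 3, 2, 1, 3, 2, 3],
   [0, 2, 3, 2, 1, 4, 3, 2, 1, 0, 3, 4, 5, 4, 3, 2, 1, 0, 6, 1, 0, 2, 4, 3, 2, 1, 0, 3, 4, 7, 4],
   [2, 3, 4, 3, 2, 1, 3, 2, 1, 3, 2, 1, 4, 3, 2, 1, 3, 2, 1, 3, 4, 3, 2, 1, 3, 2, 4, 3, 2, 3, 6, 4, 3, 2, 1, 3, 2, 3, 6, 4, 3, 6],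
   [1, 0, 3, 2, 1, 3, 2, 1, 4, 3, 2, 1, 3, 2, 4, 3, 2, 5, 4, 3, 2, 1, 3, 2, 3, 2, 4, 6, 1, 4, 7, 2, 1, 3, 2, 4, 6, 3, 4, 3, 2, 7],
   [1, 0, 2, 1, 3, 2, 3, 4, 3, 2, 1, 0, 3, 2, 1, 0, 3, 4, 3, 2, 1, 3, 2, 4, 3, 6, 2, 4, 3, 2, 3, 4, 6, 1, 2, 3, 7, 1, 4],
   [0, 1, 3, 2, 1, 3, 2, 4, 3, 5, 4, 3, 2, 1, 0, 3, 2, 1, 3, 2, 4, 5, 6, 4, 3, 2, 1, 5, 4, 6, 3, 2, 1, 3, 2, 6, 4],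
   [2, 1, 3, 2, 1, 4, 3, 2, 3, 5, 4, 3, 2, 1, 3, 2, 3, 2, 1, 0, 4, 5, 6, 1, 0, 3, 2, 3, 4, 3, 2, 1, 3, 2, 4, 5],
   [0, 2, 3, 4, 3, 2, 1, 3, 2, 1, 3, 2, 1, 4, 3, 2, 1, 0, 3, 2, 1, 0, 4, 3, 2, 1, 5, 4, 3, 2, 6, 1, 2, 1, 3, 2, 1, 6, 4, 3, 2, 7, 1, 0],
   [1, 2, 3, 2, 1, 4, 3, 2, 1, 3, 5, 4, 3, 2, 1, 3, 2, 1, 0, 3, 4, 3, 2, 3, 2, 1, 0, 4, 3, 6, 1, 2, 3, 2, 6, 4, 3, 2, 6, 1, 2, 3, 4, 6, 3],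
   [0, 2, 1, 5, 4, 3, 2, 1, 3, 2, 1, 0, 3, 4, 3, 2, 1, 3, 2, 3, 5, 4, 3, 2, 1, 0, 3, 4, 6, 1, 0, 2, 1, 0, 3, 2, 4, 6, 3, 7, 4],
   [1, 0, 2, 1, 0, 3, 5, 4, 3, 2, 1, 3, 2, 1, 0, 3, 4, 3, 2, 1, 3, 2, 1, 3, 4, 3, 2, 1, 5, 6, 4, 3, 2, 3, 7, 1, 2, 3, 2, 4, 7, 1],
   [0, 2, 1, 3, 2, 1, 4, 3, 2, 3, 2, 1, 0, 4, 3, 2, 1, 3, 2, 3, 4, 3, 2, 1, 3, 5, 4, 6, 1, 2, 6, 3, 2, 6, 4, 3, 7, 4, 6],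
   [0, 2, 1, 3, 2, 1, 3, 4, 3, 2, 1, 3, 2, 5, 4, 6, 1, 2, 3, 7, 2, 1, 4, 7, 4, 3, 2, 1, 6, 3],
   [0, 1, 3, 2, 1, 3, 2, 4, 3, 2, 1, 0, 5, 4, 3, 2, 1, 3, 2, 3, 4, 3, 2, 1, 0, 3, 2, 1, 5, 4, 3, 2, 1, 3, 6, 1, 2, 3, 2, 4, 6, 3, 4, 6, 2, 1, 3],
   [0, 1, 0, 2, 1, 3, 2, 1, 4, 3, 2, 1, 5, 4, 3, 2, 3, 2, 4, 3, 2, 1, 0, 3, 2, 1, 3, 2, 4, 3, 2, 1, 0, 6, 4, 6, 3, 2, 1, 4, 3, 2, 3, 4, 6, 1, 0],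
   [0, 2, 1, 4, 3, 5, 4, 3, 2, 3, 2, 1, 4, 3, 2, 3, 2, 1, 0, 4, 3, 2, 1, 3, 2, 3, 2, 4, 6, 1, 2, 3, 4, 6, 2, 3, 2, 1, 6, 1, 2, 1],
   [0, 5, 4, 3, 2, 1, 3, 2, 1, 3, 2, 4, 3, 2, 1, 0, 3, 2, 3, 4, 3, 2, 1, 0, 3, 2, 5, 6, 1, 4, 3, 2, 3, 6, 1, 2, 7],
   [0, 5, 4, 3, 2, 1, 3, 2, 3, 4, 3, 2, 1, 3, 2, 3, 2, 4, 3, 2, 1, 0, 5, 4, 3, 2, 3, 4, 6, 3, 4, 3, 2, 1, 3, 2, 3, 4, 7, 1],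
   [2, 3, 2, 1, 0, 5, 4, 3, 2, 1, 0, 3, 2, 3, 4, 3, 2, 1, 0, 3, 2, 1, 3, 4, 5, 6, 1, 3, 2, 3, 2, 4, 6, 3, 2, 1, 4, 7],
   [2, 1, 3, 2, 1, 0, 5, 4, 3, 2, 1, 0, 3, 2, 1, 4, 3, 2, 1, 3, 2, 1, 0, 4, 3, 5, 4, 6, 4, 3, 2, 7, 1, 3, 7, 2, 3, 4, 3, 7, 1],
   [2, 4, 3, 2, 1, 3, 2, 3, 2, 1, 4, 3, 2, 1, 3, 2, 4, 3, 2, 1, 0, 3, 2, 6, 1, 2, 3, 2, 7, 4, 7, 1, 3, 6, 1],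
   [1, 3, 4, 3, 2, 1, 0, 3, 2, 5, 4, 3, 2, 1, 3, 2, 4, 3, 5, 4, 6, 4, 3, 2, 3, 6, 1, 0, 2, 4, 3, 5, 4, 6],
   [0, 1, 0, 5, 4, 3, 2, 1, 0, 3, 2, 1, 4, 3, 2, 3, 4, 5, 4, 3, 2, 1, 0, 6, 4, 3, 2, 1, 6, 3, 2, 6, 1, 0, 4],
   [0, 3, 4, 3, 2, 1, 3, 2, 3, 4, 3, 2, 1, 3, 2, 4, 3, 2, 1, 0, 3, 2, 4, 3, 2, 1, 6, 1, 2, 3, 4, 3, 2, 1, 0, 3, 7, 2, 4, 3],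
   [0, 1, 0, 2, 1, 3, 2, 1, 4, 3, 2, 1, 0, 3, 5, 4, 3, 2, 1, 3, 2, 1, 4, 3, 2, 1, 5, 4, 3, 2, 1, 0, 3, 4, 5, 6, 1, 4, 6, 2, 1, 3, 2, 3, 6, 4, 7, 3, 2],
   [0, 1, 3, 2, 1, 4, 3, 2, 1, 3, 2, 1, 4, 3, 2, 1, 0, 3, 5, 4, 3, 2, 1, 3, 2, 4, 3, 2, 1, 0, 5, 4, 3, 6, 1, 0, 2, 1, 3, 2, 1, 6, 4, 3, 2, 3, 4, 7],
   [4, 3, 2, 1, 0, 5, 4, 3, 2, 1, 3, 2, 4, 3, 2, 1, 3, 2, 3, 2, 4, 3, 2, 5, 6, 1, 0, 4, 3, 2, 1, 3, 7, 4, 7, 3, 2],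
   [1, 2, 3, 2, 1, 4, 3, 2, 1, 5, 4, 3, 2, 1, 0, 3, 2, 1, 4, 3, 6, 4, 3, 2, 3, 7, 1, 4, 6, 1, 3, 2, 1],
   [0, 2, 1, 0, 4, 3, 2, 1, 0, 3, 2, 1, 4, 3, 2, 1, 3, 2, 1, 4, 3, 2, 1, 0, 3, 5, 4, 3, 2, 1, 6, 1, 2, 3, 2, 4, 3, 2, 6, 1, 7, 2, 3, 4, 6]]

def tWords30 : List (List Nat) :=
  [[0, 1, 0, 2, 5, 4, 3, 2, 1, 3, 2, 3, 2, 4, 3, 2, 1, 3, 2, 3, 4, 3, 2, 1, 3, 2, 4, 6, 4, 3, 7, 2, 1, 3, 4, 7, 2, 3, 2, 1, 7, 2],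
   [0, 1, 0, 3, 2, 1, 0, 3, 2, 3, 4, 3, 2, 1, 3, 2, 4, 3, 2, 1, 5, 4, 3, 2, 3, 2, 4, 3, 5, 4, 6, 4, 3, 7, 2, 1, 3, 7, 2, 1, 4],
   [0, 2, 1, 3, 2, 1, 0, 4, 3, 2, 1, 3, 2, 4, 3, 2, 1, 3, 2, 3, 4, 3, 2, 1, 3, 2, 1, 4, 3, 2, 5, 6, 4, 3, 2, 1, 3, 6, 2, 6, 1, 3, 6, 2, 4],
   [2, 1, 3, 2, 3, 2, 4, 3, 2, 1, 0, 3, 2, 1, 3, 2, 3, 4, 3, 2, 1, 3, 2, 4, 3, 5, 4, 3, 2, 1, 0, 3, 2, 1, 6, 1, 0, 4, 3, 2, 1, 3, 7, 1, 4, 7, 3, 2, 1],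
   [1, 0, 2, 1, 3, 2, 1, 4, 5, 4, 3, 2, 1, 3, 2, 3, 4, 3, 2, 1, 0, 3, 2, 1, 4, 5, 6, 1, 0, 3, 2, 1, 3, 4, 3, 6, 2, 1, 0, 3, 4],
   [1, 2, 1, 3, 2, 1, 4, 5, 4, 3, 2, 1, 3, 2, 4, 3, 2, 1, 3, 6, 1, 0, 2, 1, 3, 2, 1, 4, 3, 7, 2, 1, 6],
   [4, 3, 2, 3, 2, 1, 4, 3, 2, 1, 3, 2, 4, 3, 5, 4, 3, 2, 1, 3, 2, 3, 2, 4, 5, 6, 1, 2, 3, 2, 1, 4, 7, 3, 2, 4, 3, 7, 1, 2, 6],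
   [0, 2, 1, 0, 3, 2, 3, 4, 3, 2, 1, 3, 2, 3, 2, 4, 3, 2, 1, 0, 3, 4, 6, 1, 2, 3, 2, 3, 4, 7, 4],
   [1, 2, 1, 0, 3, 2, 1, 4, 3, 2, 5, 4, 3, 2, 1, 0, 3, 2, 1, 3, 4, 3, 2, 1, 3, 2, 3, 2, 1, 6, 1, 0, 2, 1, 3, 2, 4, 6, 3, 2, 7, 1, 3, 7],
   [1, 3, 2, 1, 3, 2, 3, 5, 4, 3, 2, 1, 0, 3, 2, 1, 3, 2, 4, 3, 2, 3, 4, 5, 6, 1, 2, 4, 6, 3, 2, 6, 1, 3, 4, 6, 4],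
   [0, 3, 2, 4, 3, 2, 1, 3, 2, 3, 2, 1, 4, 3, 2, 1, 3, 2, 1, 0, 4, 3, 2, 1, 3, 2, 3, 2, 4, 6, 1, 0, 2, 1, 3, 2, 3, 6],
   [0, 1, 2, 1, 0, 3, 2, 1, 3, 2, 3, 4, 3, 2, 1, 3, 2, 4, 3, 2, 1, 3, 2, 3, 4, 3, 6, 1, 4, 6, 2, 1, 3, 2, 4, 3, 5, 4, 7],
   [2, 3, 2, 1, 5, 4, 3, 2, 1, 3, 2, 3, 4, 3, 2, 1, 3, 2, 4, 3, 2, 5, 4, 3, 2, 1, 0, 3, 6, 4, 3, 2, 3, 6, 1, 2, 3, 4, 3, 2, 3, 6],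
   [0, 2, 3, 5, 4, 3, 2, 1, 0, 3, 2, 1, 3, 2, 3, 4, 3, 2, 1, 3, 2, 1, 3, 4, 3, 2, 1, 0, 3, 2, 4, 3, 2, 6, 1, 0, 2, 1, 4, 3, 2, 1, 7, 2, 3, 4],
   [0, 1, 0, 2, 3, 2, 1, 4, 3, 5, 4, 3, 2, 3, 2, 1, 0, 4, 3, 2, 1, 3, 6, 4, 3, 2, 3, 7, 1, 2, 4, 3, 7, 4, 7],
   [0, 2, 1, 3, 2, 1, 0, 4, 3, 2, 1, 3, 2, 3, 4, 3, 2, 1, 3, 2, 1, 4, 3, 2, 1, 0, 3, 4, 6, 2, 4, 3, 2, 1, 3, 2, 3, 4, 3, 2, 7],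
   [1, 0, 3, 2, 1, 4, 3, 2, 1, 5, 4, 3, 2, 1, 3, 2, 1, 4, 3, 2, 1, 0, 5, 4, 3, 2, 1, 0, 3, 6, 4, 3, 7, 2, 1, 3, 7, 2, 1, 7],
   [0, 1, 0, 2, 1, 4, 3, 5, 4, 3, 2, 1, 3, 2, 3, 2, 1, 4, 3, 2, 1, 3, 2, 1, 3, 4, 3, 2, 3, 5, 6, 4, 3, 7, 2, 1, 0, 3, 2, 1, 6, 3],
   [1, 4, 3, 2, 1, 0, 3, 5, 4, 3, 2, 3, 2, 1, 0, 4, 3, 2, 1, 3, 2, 4, 3, 2, 5, 4, 3, 2, 1, 3, 2, 3, 2, 1, 0, 6, 4, 3, 2, 3, 4, 7, 1, 6, 2, 1, 3, 4, 6],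
   [3, 2, 1, 3, 5, 4, 3, 2, 1, 3, 2, 4, 3, 2, 1, 0, 3, 2, 1, 4, 3, 2, 1, 3, 4, 6, 1, 4, 3, 2, 3, 6, 1, 2, 7, 3, 4],
   [1, 0, 4, 3, 2, 1, 3, 2, 4, 3, 2, 1, 3, 2, 3, 4, 3, 2, 1, 3, 2, 3, 4, 3, 2, 3, 6, 4, 3, 2, 3, 4, 6, 1, 2, 7, 1, 3],
   [0, 1, 3, 2, 1, 0, 3, 2, 1, 4, 3, 2, 1, 0, 5, 4, 3, 2, 1, 3, 2, 3, 4, 3, 2, 1, 3, 2, 4, 5, 6, 2, 4, 3, 2, 1, 3, 2, 7, 1, 4, 7, 3, 2],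
   [0, 1, 0, 2, 3, 2, 4, 3, 2, 5, 4, 3, 2, 1, 3, 2, 3, 2, 1, 0, 4, 3, 2, 1, 0, 3, 2, 3, 4, 3, 2, 1, 3, 2, 6, 4, 3, 2, 1, 3, 2, 6, 4, 3, 2, 1, 7, 2],
   [2, 1, 3, 2, 1, 4, 3, 2, 3, 5, 4, 3, 2, 1, 3, 2, 3, 4, 3, 2, 1, 0, 3, 2, 4, 6, 1, 0, 4, 3, 2, 1, 3, 6, 2, 4, 3, 7, 2],
   [2, 3, 2, 1, 4, 3, 2, 1, 3, 2, 1, 3, 4, 3, 2, 1, 3, 2, 1, 3, 4, 3, 2, 1, 3, 2, 1, 6, 3, 4, 3, 2, 1, 6, 4, 3, 2, 1, 0, 3, 2, 3],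
   [1, 3, 4, 5, 4, 3, 2, 1, 3, 2, 4, 3, 2, 1, 3, 2, 4, 3, 2, 1, 0, 3, 2, 1, 4, 3, 2, 5, 4, 6, 1, 0, 2, 4, 3, 2, 6, 3, 4, 6, 1, 2],
   [0, 1, 0, 2, 3, 2, 1, 0, 3, 4, 3, 2, 3, 2, 1, 4, 3, 2, 3, 4, 5, 4, 3, 2, 1, 6, 2, 4, 3, 2, 1, 3, 2, 4, 3, 7, 1, 2, 1, 3],
   [0, 2, 1, 0, 3, 2, 3, 4, 3, 2, 1, 3, 2, 3, 2, 4, 3, 2, 1, 3, 2, 4, 3, 2, 5, 6, 1, 0, 2, 3, 2, 1, 4, 3, 2, 3, 7, 1, 6],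
   [0, 2, 1, 0, 4, 3, 5, 4, 3, 2, 1, 3, 2, 3, 2, 1, 4, 3, 2, 1, 3, 2, 5, 4, 3, 2, 1, 0, 3, 6, 1, 0, 2, 1, 3, 4, 3, 2, 6, 1, 3, 6, 4],
   [3, 2, 1, 0, 3, 5, 4, 3, 2, 1, 3, 2, 4, 3, 2, 5, 4, 3, 2, 1, 0, 3, 2, 3, 6, 1, 2, 3, 2, 1, 4, 3, 2, 1, 0, 3, 2, 6],
   [0, 1, 4, 3, 2, 1, 0, 3, 2, 1, 0, 3, 4, 3, 2, 1, 3, 2, 3, 4, 3, 2, 1, 3, 6, 4, 3, 2, 1, 3, 4, 7, 2, 3, 2, 1, 4, 5],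
   [0, 2, 1, 0, 3, 4, 3, 2, 1, 3, 2, 3, 2, 4, 3, 2, 1, 0, 3, 2, 1, 3, 4, 3, 2, 1, 5, 6, 1, 4, 6, 3, 2, 3, 4, 3, 7, 2, 1, 7, 1],
   [0, 1, 0, 2, 3, 2, 1, 3, 2, 3, 4, 3, 2, 1, 3, 2, 3, 4, 3, 2, 1, 0, 3, 2, 1, 4, 3, 2, 6, 1, 0, 2, 3, 4, 3, 2, 3, 4, 7, 1, 7, 2, 1, 7],
   [0, 2, 1, 3, 2, 3, 4, 3, 2, 1, 3, 2, 1, 4, 3, 2, 1, 3, 2, 4, 3, 2, 1, 3, 2, 4, 3, 2, 5, 4, 3, 6, 1, 3, 2, 3, 2, 1, 4, 6, 3, 2, 4, 3, 5],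
   [1, 2, 1, 3, 2, 1, 4, 3, 2, 1, 3, 5, 4, 3, 2, 1, 3, 2, 1, 4, 3, 2, 1, 3, 2, 3, 4, 6, 1, 4, 3, 2, 1, 3, 7, 4, 3, 2, 6, 3, 7],
   [0, 1, 3, 2, 1, 3, 4, 3, 2, 1, 3, 2, 3, 4, 3, 2, 3, 4, 6, 1, 2, 3, 6, 2, 1, 4, 6, 1, 3, 6, 4, 7],
   [0, 1, 2, 1, 3, 4, 3, 2, 1, 3, 2, 3, 2, 1, 4, 3, 2, 1, 3, 2, 1, 4, 3, 2, 3, 2, 4, 3, 6, 1, 2, 3, 2, 4, 3, 2, 1, 5, 4, 3, 2, 1, 7],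
   [0, 2, 3, 2, 1, 0, 3, 2, 1, 4, 3, 2, 1, 3, 2, 4, 3, 2, 5, 4, 3, 2, 1, 0, 3, 2, 3, 6, 4, 3, 2, 1, 5, 4, 6, 3, 2, 1, 4, 3],
   [0, 1, 2, 1, 3, 2, 4, 3, 2, 1, 3, 2, 3, 4, 3, 2, 1, 3, 2, 1, 3, 4, 3, 2, 1, 0, 3, 2, 1, 6, 4, 3, 2, 1, 0, 3, 7, 2, 4, 3, 7, 1, 4, 6],
   [0, 2, 4, 3, 2, 1, 3, 2, 4, 3, 2, 1, 3, 2, 3, 2, 1, 4, 3, 2, 1, 0, 3, 2, 5, 4, 6, 4, 3, 2, 3, 2, 1, 4, 6, 2, 6, 3, 4]]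

def tWords31 : List (List Nat) :=
  [[3, 2, 1, 4, 3, 2, 1, 3, 2, 5, 4, 3, 2, 1, 3, 2, 4, 3, 2, 1, 3, 6, 1, 2, 3, 4, 3, 2, 3, 2, 4, 3, 6, 1, 2, 3],
   [0, 2, 1, 3, 2, 1, 3, 5, 4, 3, 2, 1, 3, 2, 1, 3, 2, 4, 3, 2, 1, 5, 4, 3, 2, 3, 2, 1, 4, 6, 1, 0, 4, 3, 2, 1, 3, 6, 4, 3, 6],
   [0, 5, 4, 3, 2, 1, 0, 3, 2, 1, 3, 2, 3, 4, 3, 2, 1, 3, 2, 3, 4, 3, 5, 4, 3, 2, 1, 3, 2, 6, 1, 2, 4, 3, 2, 6, 1, 4, 3, 7, 2, 3],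
   [0, 2, 1, 3, 4, 3, 2, 3, 2, 1, 4, 3, 2, 3, 2, 1, 4, 3, 2, 1, 3, 2, 3, 4, 5, 4, 6, 1, 2, 3, 2, 4, 7, 1, 2, 3, 2, 4, 6, 4],
   [2, 3, 2, 3, 4, 3, 2, 1, 0, 3, 2, 1, 3, 2, 4, 3, 2, 1, 5, 4, 3, 2, 1, 0, 3, 2, 1, 4, 3, 2, 1, 0, 6, 4, 3, 2, 7, 1, 3, 6, 2, 4, 3, 6, 4, 5],
   [0, 1, 3, 2, 1, 3, 4, 3, 2, 1, 3, 2, 1, 4, 3, 2, 1, 3, 2, 4, 3, 2, 1, 3, 2, 3, 2, 1, 6, 2, 4, 3, 2, 1, 3, 2, 7, 1, 3, 7],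
   [0, 5, 4, 3, 2, 1, 3, 2, 1, 3, 2, 1, 4, 3, 2, 1, 3, 2, 1, 4, 3, 2, 1, 3, 2, 3, 4, 6, 1, 4, 6, 2, 6, 1, 3, 2, 1, 4, 3, 6],
   [2, 3, 2, 4, 3, 2, 1, 5, 4, 3, 2, 1, 3, 2, 1, 3, 4, 3, 2, 1, 0, 3, 2, 1, 4, 3, 2, 3, 5, 6, 1, 0, 4, 3, 2, 1, 3, 2, 4, 6, 3, 4, 6, 1],
   [0, 2, 1, 4, 3, 5, 4, 3, 2, 3, 2, 1, 4, 3, 2, 3, 2, 1, 4, 3, 2, 1, 0, 3, 4, 5, 6, 1, 2, 3, 2, 4, 3, 2, 6, 1, 4, 7, 2],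
   [1, 4, 3, 2, 1, 3, 2, 3, 2, 1, 4, 3, 2, 1, 3, 2, 4, 3, 5, 4, 3, 2, 1, 0, 3, 2, 6, 4, 3, 2, 7, 1, 3, 4, 7, 2, 1, 4, 3],
   [2, 1, 0, 3, 4, 3, 2, 1, 3, 2, 3, 5, 4, 3, 2, 1, 3, 2, 3, 4, 3, 2, 1, 3, 2, 1, 3, 2, 6, 1, 0, 2, 1, 3, 2, 1, 4, 6, 3, 2, 3],
   [0, 1, 2, 1, 3, 2, 1, 3, 2, 3, 5, 4, 3, 2, 1, 0, 3, 4, 6, 1, 2, 1, 0, 3, 2, 4, 3, 2, 1, 7],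
   [0, 1, 0, 2, 1, 0, 3, 2, 3, 4, 3, 2, 1, 0, 3, 2, 1, 4, 3, 2, 3, 2, 1, 4, 3, 2, 1, 3, 4, 6, 4, 3, 2, 1, 0, 3, 2, 4, 6, 3, 7, 2, 4],
   [1, 0, 3, 2, 1, 3, 2, 4, 3, 5, 4, 3, 2, 1, 0, 3, 2, 3, 4, 6, 4, 3, 2, 1, 0, 3, 6, 2, 3, 4, 3, 7, 4, 5],
   [0, 1, 3, 2, 1, 3, 2, 1, 3, 4, 3, 2, 1, 3, 2, 1, 4, 3, 2, 1, 3, 2, 1, 3, 4, 3, 5, 6, 1, 2, 1, 3, 4, 3, 2, 1, 3, 4, 5],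
   [1, 0, 4, 3, 2, 1, 3, 2, 1, 4, 3, 2, 1, 5, 4, 3, 2, 3, 2, 1, 4, 3, 2, 1, 3, 2, 3, 4, 5, 4, 6, 1, 0, 2, 3, 4, 7, 2, 1, 4],
   [1, 2, 1, 3, 4, 3, 2, 1, 3, 2, 1, 3, 4, 3, 2, 3, 2, 1, 0, 4, 3, 2, 1, 6, 1, 0, 4, 3, 2, 5, 4, 3, 2, 1, 6, 2, 7],
   [0, 1, 0, 3, 5, 4, 3, 2, 3, 2, 1, 0, 4, 3, 2, 1, 3, 4, 5, 6, 1, 2, 3, 2, 4, 3, 2, 6, 1, 3, 2, 4, 7],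
   [3, 2, 1, 4, 3, 5, 4, 3, 2, 1, 3, 2, 4, 3, 2, 1, 3, 2, 4, 3, 2, 1, 0, 3, 2, 1, 4, 6, 1, 2, 3, 6, 4, 6, 1, 2, 3, 2, 1, 3, 7],
   [0, 1, 2, 3, 4, 5, 4, 3, 2, 1, 0, 3, 2, 1, 4, 3, 2, 5, 4, 3, 2, 1, 3, 2, 3, 2, 4, 3, 2, 1, 0, 5, 6, 2, 1, 4, 3, 2, 1, 3, 4, 7, 4],
   [0, 2, 3, 4, 3, 2, 1, 0, 3, 2, 1, 3, 2, 3, 4, 3, 2, 1, 3, 5, 4, 3, 2, 1, 3, 2, 1, 4, 3, 2, 1, 3, 6, 4, 3, 2, 1, 0, 3, 6, 2, 6, 1, 4],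
   [1, 4, 3, 2, 5, 4, 3, 2, 1, 3, 2, 3, 2, 4, 3, 2, 1, 3, 2, 3, 4, 3, 2, 1, 0, 5, 4, 6, 3, 4, 3, 2, 1, 3, 4, 6, 1],
   [2, 1, 0, 3, 2, 1, 5, 4, 3, 2, 3, 2, 1, 4, 3, 2, 1, 3, 2, 1, 0, 3, 4, 3, 2, 3, 6, 1, 2, 3, 2, 1, 0, 4, 3, 6, 2, 1, 0],
   [0, 3, 2, 1, 3, 2, 4, 3, 2, 1, 0, 5, 4, 3, 2, 1, 3, 2, 3, 2, 4, 3, 2, 1, 0, 5, 4, 3, 2, 3, 6, 1, 2, 7, 3, 2, 1, 4, 3, 2, 3, 4, 6, 4],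
   [0, 2, 1, 3, 2, 3, 4, 3, 2, 1, 0, 3, 2, 1, 3, 4, 3, 2, 1, 3, 4, 6, 4, 3, 2, 3, 2, 4, 6, 1, 2, 3, 2, 1, 3],
   [0, 2, 3, 4, 3, 2, 3, 2, 1, 0, 4, 3, 2, 1, 3, 2, 4, 3, 2, 1, 5, 4, 3, 2, 1, 3, 2, 1, 4, 3, 2, 1, 0, 6, 1, 2, 4, 3, 2, 3, 4, 6, 1, 3, 6, 2, 6],
   [1, 0, 3, 2, 1, 4, 3, 5, 4, 3, 2, 1, 0, 3, 2, 1, 4, 3, 2, 5, 4, 3, 2, 3, 4, 6, 1, 2, 6, 3, 2, 1, 0, 4],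
   [2, 1, 3, 2, 1, 3, 2, 1, 0, 3, 4, 3, 2, 1, 3, 2, 4, 3, 5, 4, 3, 2, 1, 3, 2, 1, 0, 3, 6, 1, 0, 2, 4, 6, 3, 4, 6, 2, 1],
   [0, 1, 2, 1, 0, 3, 2, 5, 4, 3, 2, 1, 0, 3, 2, 3, 4, 3, 2, 1, 3, 2, 3, 2, 1, 4, 3, 2, 5, 4, 6, 4, 3, 2, 3, 6, 1, 2, 3, 6, 4, 6, 1, 3],
   [0, 1, 3, 2, 1, 0, 3, 2, 3, 4, 3, 2, 1, 0, 3, 2, 1, 3, 2, 4, 3, 5, 4, 6, 1, 2, 3, 4, 7, 2, 1, 3, 4, 6, 2, 1, 4],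
   [5, 4, 3, 2, 1, 3, 2, 4, 3, 2, 5, 4, 3, 2, 1, 3, 2, 3, 2, 1, 0, 4, 3, 2, 1, 3, 2, 3, 2, 4, 3, 2, 1, 5, 4, 3, 2, 6, 1, 0, 2, 1, 3, 4, 3, 2, 1, 6, 2],
   [1, 3, 2, 1, 4, 3, 2, 1, 3, 2, 4, 3, 2, 1, 5, 4, 3, 2, 3, 4, 5, 6, 1, 2, 4, 3, 2, 3, 4, 7, 1, 6, 1],
   [5, 4, 3, 2, 3, 2, 1, 0, 4, 3, 2, 1, 0, 3, 2, 3, 4, 3, 2, 1, 0, 3, 2, 5, 4, 3, 6, 1, 2, 3, 4, 3, 7, 2, 1, 3, 2, 3, 2, 4],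
   [0, 1, 0, 2, 3, 2, 1, 0, 3, 2, 1, 4, 3, 2, 1, 5, 4, 3, 2, 3, 2, 4, 3, 2, 1, 0, 3, 2, 1, 3, 2, 4, 6, 1, 3, 2, 3, 2, 1, 7, 4, 3, 2, 6, 1, 0, 4],
   [0, 2, 1, 0, 3, 2, 1, 0, 4, 3, 2, 1, 5, 4, 3, 2, 1, 3, 2, 3, 4, 3, 2, 1, 0, 3, 2, 4, 6, 1, 2, 3, 2, 4, 6, 1, 3, 4, 6, 2, 6],
   [3, 2, 1, 0, 3, 4, 3, 2, 1, 3, 2, 3, 4, 3, 2, 1, 0, 3, 2, 1, 3, 2, 4, 3, 2, 5, 4, 6, 1, 0, 4, 3, 2, 1, 5, 4, 3, 2, 3, 6, 1, 7],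
   [0, 1, 5, 4, 3, 2, 1, 3, 2, 4, 3, 2, 1, 0, 5, 4, 3, 6, 1, 4, 3, 2, 5, 4, 7, 1, 3],
   [3, 2, 1, 3, 2, 3, 4, 3, 2, 1, 3, 2, 3, 5, 4, 3, 2, 1, 3, 2, 4, 3, 6, 1, 0, 2, 1, 0, 3, 4, 3],
   [0, 2, 3, 2, 3, 4, 3, 2, 1, 3, 2, 3, 4, 3, 2, 1, 3, 2, 4, 3, 5, 4, 3, 2, 1, 3, 2, 1, 3, 2, 6, 1, 2, 3, 2, 1, 4, 7, 1, 3, 4, 3, 2, 1, 6],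
   [0, 2, 3, 4, 3, 2, 1, 3, 2, 4, 3, 2, 1, 5, 4, 3, 2, 1, 3, 2, 1, 0, 3, 4, 3, 2, 3, 2, 1, 4, 3, 2, 3, 6, 1, 2, 3, 2, 4, 7, 1, 3, 2, 6, 3, 4, 7, 3]]

def tWords32 : List (List Nat) :=
  [[1, 0, 2, 1, 3, 2, 4, 3, 2, 1, 3, 2, 3, 4, 3, 2, 1, 5, 4, 3, 2, 1, 0, 3, 2, 4, 3, 2, 6, 4, 3, 2, 6, 1, 3, 6, 2, 6, 1, 4, 3, 7],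
   [0, 4, 3, 2, 1, 0, 3, 2, 1, 0, 3, 2, 4, 3, 2, 1, 0, 3, 2, 3, 4, 3, 2, 1, 3, 2, 3, 5, 4, 3, 6, 1, 2, 3, 2, 1, 3, 4, 3, 6, 2, 1, 7],
   [0, 1, 2, 1, 3, 5, 4, 3, 2, 1, 3, 2, 1, 3, 4, 3, 2, 3, 2, 1, 4, 3, 2, 3, 2, 1, 4, 3, 5, 4, 6, 1, 2, 4, 3, 2, 6, 1, 4, 3, 2, 3, 6, 4, 3],
   [0, 1, 4, 3, 2, 5, 4, 3, 2, 1, 3, 2, 3, 2, 4, 3, 5, 6, 1, 4, 3, 2, 3, 7, 4, 3, 2, 7, 1, 2, 6],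
   [1, 0, 3, 2, 1, 0, 3, 2, 1, 3, 4, 3, 2, 1, 3, 2, 3, 5, 4, 3, 2, 1, 3, 2, 3, 4, 3, 2, 1, 3, 2, 4, 6, 4, 3, 2, 7, 1, 3, 6, 2, 4, 6, 3, 2, 1, 0],
   [3, 2, 1, 0, 3, 2, 1, 0, 3, 4, 3, 2, 1, 3, 2, 1, 0, 4, 3, 2, 1, 0, 3, 6, 4, 3, 2, 3, 4, 6, 1, 3, 7],
   [0, 1, 0, 2, 1, 4, 3, 2, 1, 3, 2, 4, 3, 2, 1, 5, 4, 3, 2, 1, 0, 3, 2, 1, 0, 4, 3, 2, 1, 3, 6, 4, 3, 2, 1, 5, 4, 6, 3, 2, 7, 3, 4],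
   [3, 5, 4, 3, 2, 3, 2, 1, 0, 4, 3, 2, 1, 3, 2, 4, 3, 2, 1, 5, 4, 3, 2, 1, 3, 2, 1, 4, 5, 6, 1, 0, 4, 3, 2, 1, 0, 5, 4, 3, 2, 1, 7, 2],
   [0, 3, 2, 1, 3, 4, 3, 2, 1, 3, 2, 1, 3, 4, 3, 2, 1, 3, 2, 1, 0, 3, 4, 3, 2, 1, 3, 2, 6, 1, 2, 3, 4, 3, 2, 3, 4, 7, 2, 1, 7, 1, 0],
   [2, 3, 2, 4, 3, 2, 1, 3, 2, 4, 3, 2, 1, 3, 2, 3, 2, 1, 4, 3, 2, 3, 2, 1, 0, 4, 5, 6, 1, 2, 7, 3, 2, 1, 4, 3, 7, 2, 4, 7],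
   [0, 2, 3, 2, 1, 4, 3, 2, 1, 3, 2, 4, 3, 2, 1, 3, 2, 3, 4, 3, 2, 1, 3, 2, 3, 5, 4, 3, 6, 1, 2, 3, 7, 4, 7, 1, 2, 3, 2, 1, 3, 6, 1],
   [0, 1, 0, 2, 1, 0, 3, 2, 1, 4, 3, 2, 3, 2, 1, 4, 3, 2, 1, 0, 5, 4, 3, 6, 1, 2, 3, 6, 2, 4, 7, 1, 3, 7, 4, 7],
   [0, 2, 1, 0, 3, 4, 3, 2, 1, 3, 2, 3, 2, 1, 4, 3, 2, 3, 2, 1, 4, 5, 6, 1, 4, 7, 2, 1, 3, 2, 1, 3, 4, 7],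
   [2, 1, 0, 3, 2, 1, 4, 3, 2, 3, 2, 1, 4, 3, 2, 1, 3, 2, 1, 4, 3, 2, 3, 2, 4, 3, 5, 6, 1, 7, 2, 3, 2, 1, 6, 4, 3, 2, 1, 3, 6],
   [0, 1, 0, 3, 4, 3, 2, 1, 3, 2, 3, 4, 3, 2, 1, 0, 3, 2, 4, 5, 4, 3, 2, 6, 1, 0, 4, 3, 2, 1, 3, 2, 4, 3, 7, 3],
   [0, 1, 2, 3, 4, 3, 2, 1, 3, 2, 1, 0, 4, 3, 2, 1, 5, 4, 3, 2, 3, 2, 1, 4, 6, 1, 2, 3, 2, 1, 3, 2, 4, 3, 7, 4, 7, 3, 2],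
   [2, 3, 2, 1, 3, 4, 3, 2, 1, 0, 3, 2, 1, 0, 3, 4, 3, 2, 1, 0, 3, 2, 1, 4, 3, 6, 1, 3, 2, 3, 4, 3, 2, 7, 1, 0, 2, 1],
   [0, 3, 5, 4, 3, 2, 1, 0, 3, 2, 1, 4, 3, 2, 1, 3, 2, 4, 3, 2, 1, 3, 6, 4, 3, 2, 1, 3, 4, 7, 2, 3, 2, 1, 6, 2],
   [2, 1, 3, 2, 3, 4, 3, 2, 1, 3, 2, 1, 3, 2, 1, 4, 3, 2, 1, 0, 3, 2, 4, 5, 6, 1, 2, 3, 2, 1, 4, 3, 2, 7, 1, 4, 7, 2],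
   [0, 2, 3, 2, 4, 3, 2, 1, 5, 4, 3, 2, 3, 2, 1, 0, 4, 5, 6, 1, 0, 4, 3, 2, 1, 5, 4, 3, 2, 1, 6],
   [0, 1, 3, 2, 3, 2, 4, 3, 2, 1, 3, 2, 3, 4, 3, 2, 1, 3, 5, 4, 3, 2, 3, 2, 1, 0, 6, 1, 2, 4, 3, 2, 3, 4, 7, 1, 2],
   [1, 0, 2, 3, 2, 1, 3, 2, 4, 3, 2, 1, 0, 3, 2, 1, 4, 3, 2, 1, 3, 2, 4, 3, 2, 1, 5, 4, 3, 6, 1, 2, 3, 2, 1, 3, 2, 4, 6, 2, 3, 2, 1, 7],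
   [3, 2, 1, 0, 3, 2, 3, 4, 3, 2, 1, 3, 2, 1, 4, 3, 2, 1, 0, 3, 2, 5, 6, 1, 4, 7, 3, 4, 6, 2, 1, 3, 2, 4, 7, 3, 2],
   [0, 2, 1, 0, 4, 3, 2, 1, 3, 2, 4, 3, 2, 1, 0, 3, 2, 1, 3, 4, 3, 2, 1, 3, 2, 3, 2, 1, 4, 5, 6, 1, 2, 7, 3, 4, 7, 1, 2, 1, 3, 7],
   [3, 2, 4, 3, 5, 4, 3, 2, 1, 3, 2, 3, 2, 1, 4, 3, 2, 1, 3, 2, 1, 4, 3, 2, 5, 6, 1, 2, 1, 3, 2, 3, 4, 3, 7, 1, 2, 4, 3],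
   [0, 2, 1, 3, 2, 3, 4, 3, 2, 1, 3, 2, 1, 4, 3, 2, 1, 3, 2, 5, 4, 3, 2, 1, 0, 3, 2, 1, 4, 3, 2, 5, 6, 2, 3, 4, 3, 2, 1, 3, 2, 4, 7, 1],
   [0, 1, 4, 3, 2, 3, 2, 1, 4, 3, 2, 1, 0, 3, 2, 1, 0, 4, 3, 2, 1, 5, 4, 3, 2, 6, 1, 4, 3, 2, 1, 0, 3, 5, 4, 3, 2, 7],
   [2, 1, 3, 2, 5, 4, 3, 2, 1, 3, 2, 3, 4, 3, 2, 1, 0, 3, 2, 3, 4, 3, 2, 1, 3, 2, 3, 5, 4, 6, 1, 2, 7, 3, 4, 7, 2, 1, 3, 2, 4, 3, 7, 1],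
   [0, 2, 1, 0, 3, 2, 1, 3, 4, 3, 2, 1, 3, 4, 5, 4, 3, 2, 1, 3, 2, 4, 3, 5, 6, 1, 2, 7, 3, 2, 4, 3, 6, 1, 2, 1, 6],
   [0, 3, 2, 1, 0, 5, 4, 3, 2, 1, 3, 2, 3, 2, 4, 3, 2, 1, 0, 5, 4, 3, 2, 1, 3, 2, 3, 4, 3, 2, 3, 4, 5, 6, 1, 0, 2, 1, 3, 4, 6, 3, 7, 2, 3, 4, 7, 4],
   [0, 1, 3, 2, 1, 4, 3, 2, 3, 2, 1, 4, 3, 2, 3, 2, 1, 4, 3, 2, 1, 3, 2, 1, 4, 3, 2, 6, 4, 3, 2, 7, 1, 6, 2, 3, 7],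
   [0, 3, 4, 3, 2, 1, 3, 2, 1, 3, 4, 3, 2, 3, 2, 1, 0, 4, 3, 2, 1, 3, 2, 4, 3, 5, 6, 1, 7, 2, 3, 2, 1, 4, 3, 2, 7, 1, 4, 6, 4],
   [1, 0, 2, 3, 4, 3, 2, 1, 3, 2, 1, 3, 4, 3, 2, 1, 3, 2, 3, 2, 4, 3, 2, 1, 3, 2, 3, 2, 4, 3, 5, 6, 4, 3, 2, 1, 5, 4, 3, 2, 3, 4, 6, 4, 7],
   [0, 1, 2, 1, 0, 3, 2, 1, 4, 3, 2, 3, 2, 1, 4, 3, 2, 3, 2, 1, 0, 4, 3, 2, 3, 6, 1, 4, 3, 2, 1, 3, 2, 7, 1, 4, 7, 2, 4, 3],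
   [0, 1, 2, 4, 3, 2, 1, 3, 2, 3, 4, 3, 2, 1, 0, 3, 2, 4, 3, 5, 4, 3, 2, 1, 0, 3, 2, 1, 3, 4, 6, 1, 2, 3, 2, 1, 6, 4, 3, 2, 7, 1, 0],
   [0, 1, 5, 4, 3, 2, 1, 0, 3, 2, 1, 0, 4, 3, 2, 1, 3, 2, 4, 3, 2, 1, 5, 4, 3, 2, 1, 0, 3, 2, 6, 1, 4, 3, 2, 1, 3, 7, 4, 3, 2, 5],
   [2, 1, 4, 3, 2, 1, 0, 3, 2, 4, 3, 5, 4, 3, 2, 1, 0, 3, 2, 1, 3, 2, 4, 3, 6, 4, 3, 2, 1, 3, 2, 1, 0, 4, 3, 7, 4],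
   [2, 3, 2, 1, 3, 2, 3, 4, 3, 2, 1, 3, 2, 3, 4, 3, 2, 5, 4, 6, 1, 0, 2, 1, 4, 3, 7, 2, 1, 6, 3, 2, 1],
   [0, 1, 2, 1, 4, 3, 2, 1, 5, 4, 3, 2, 1, 3, 2, 3, 4, 3, 2, 1, 3, 2, 3, 4, 3, 2, 3, 4, 6, 4, 3, 2, 3, 6, 1, 6, 2, 3, 6, 4, 5],
   [3, 2, 1, 0, 3, 4, 3, 2, 1, 3, 2, 1, 3, 2, 4, 3, 2, 1, 5, 4, 3, 2, 3, 2, 1, 4, 3, 2, 6, 1, 0, 2, 3, 2, 4, 7, 1, 3, 2, 4, 6, 1, 6]]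

def tWords33 : List (List Nat) :=
  [[1, 0, 2, 3, 2, 1, 4, 3, 2, 3, 2, 1, 0, 4, 3, 2, 1, 3, 2, 3, 4, 3, 2, 3, 2, 1, 0, 6, 1, 2, 3, 2, 1, 6, 4, 3, 2, 1, 3, 2, 4],
   [0, 1, 3, 4, 3, 2, 1, 3, 2, 1, 3, 4, 3, 2, 1, 3, 2, 1, 4, 3, 2, 1, 0, 3, 2, 4, 3, 2, 6, 4, 3, 2, 7, 1, 3, 2, 6, 4, 3, 5, 4],
   [0, 1, 2, 1, 4, 3, 2, 3, 2, 4, 3, 2, 1, 0, 3, 2, 1, 3, 2, 4, 3, 2, 1, 5, 4, 3, 2, 6, 1, 2, 4, 3, 7, 2, 3, 4, 6, 1, 4, 5],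
   [0, 3, 5, 4, 3, 2, 1, 0, 3, 2, 1, 4, 3, 2, 3, 2, 4, 3, 2, 1, 3, 2, 3, 2, 1, 0, 4, 3, 6, 4, 3, 2, 3, 2, 1, 6, 2],
   [1, 3, 2, 1, 3, 2, 1, 4, 3, 2, 1, 3, 5, 4, 3, 2, 3, 2, 1, 4, 3, 6, 1, 2, 3, 2, 1, 4, 6, 3, 4, 3, 2, 7, 2],
   [1, 3, 2, 1, 0, 3, 4, 3, 2, 3, 2, 1, 4, 3, 2, 3, 2, 1, 0, 4, 3, 2, 1, 0, 3, 2, 1, 4, 5, 6, 1, 2, 3, 2, 7, 4, 3, 5, 4, 6, 3],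
   [1, 2, 3, 2, 1, 4, 3, 2, 1, 0, 3, 2, 1, 4, 3, 2, 1, 3, 2, 4, 3, 2, 1, 5, 4, 3, 2, 3, 2, 6, 1, 2, 3, 2, 1, 7, 4, 3, 7, 2, 3, 4, 3, 6],
   [1, 0, 2, 1, 4, 3, 2, 1, 5, 4, 3, 2, 1, 3, 2, 3, 4, 3, 2, 1, 0, 3, 2, 1, 4, 3, 2, 6, 1, 0, 2, 3, 4, 3, 2, 7, 1, 3, 2, 6, 1],
   [3, 2, 3, 5, 4, 3, 2, 1, 3, 2, 4, 3, 2, 5, 4, 3, 2, 1, 0, 3, 2, 1, 3, 2, 4, 3, 5, 6, 1, 0, 2, 3, 2, 4, 3, 7, 1, 7, 2, 4, 6],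
   [0, 1, 3, 2, 4, 3, 2, 1, 3, 2, 3, 2, 4, 3, 2, 1, 0, 3, 2, 1, 6, 1, 2, 4, 3, 6, 4, 6, 1, 2, 3, 2, 6, 4, 6],
   [1, 0, 3, 2, 1, 3, 2, 3, 4, 3, 2, 1, 3, 2, 3, 2, 4, 3, 2, 1, 0, 3, 2, 3, 4, 5, 6, 1, 0, 2, 1, 3, 2, 1, 4, 3, 6, 4, 3, 2, 3, 4],
   [0, 4, 3, 2, 1, 3, 2, 4, 3, 5, 4, 3, 2, 1, 0, 3, 2, 1, 3, 2, 4, 3, 2, 1, 3, 2, 3, 4, 3, 2, 1, 3, 6, 1, 0, 2, 3, 2, 1, 4, 7, 1, 3, 2, 3, 4, 6],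
   [0, 1, 3, 2, 1, 4, 3, 2, 3, 5, 4, 3, 2, 1, 0, 3, 2, 1, 3, 2, 4, 3, 2, 1, 0, 3, 2, 6, 1, 7, 2, 3, 2, 1, 4, 3, 2, 1, 6, 1],
   [0, 3, 2, 1, 4, 3, 5, 4, 3, 2, 1, 3, 2, 3, 4, 3, 2, 1, 5, 4, 6, 1, 2, 3, 2, 6, 1, 4, 6, 3, 2, 7, 3, 4],
   [0, 2, 1, 3, 2, 1, 0, 3, 4, 3, 2, 1, 3, 2, 1, 3, 4, 3, 2, 1, 0, 3, 2, 3, 4, 3, 6, 1, 2, 1, 0, 3, 2, 1, 4, 7, 3],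
   [4, 3, 2, 1, 5, 4, 3, 2, 1, 3, 2, 3, 4, 3, 2, 1, 3, 2, 3, 4, 3, 2, 1, 3, 2, 3, 4, 5, 4, 3, 6, 1, 4, 7, 2, 1, 3, 6, 4, 5],
   [4, 3, 2, 1, 0, 3, 2, 1, 3, 2, 4, 3, 2, 1, 3, 2, 3, 2, 1, 4, 3, 2, 1, 3, 2, 1, 4, 5, 6, 1, 0, 2, 4, 3, 2, 5, 4, 3, 2, 7, 1, 0, 4],
   [1, 3, 2, 1, 3, 2, 4, 3, 2, 1, 5, 4, 3, 2, 1, 3, 2, 4, 3, 2, 1, 3, 2, 3, 4, 3, 6, 1, 0, 4, 3, 2, 3, 6, 1, 2, 4, 3, 7, 1, 7],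
   [1, 3, 2, 4, 3, 2, 1, 3, 2, 3, 4, 3, 2, 1, 0, 3, 2, 1, 5, 4, 3, 2, 1, 3, 2, 6, 4, 3, 2, 1, 0, 3, 2, 5, 4, 7, 3, 2],
   [1, 0, 2, 1, 3, 2, 4, 3, 5, 4, 3, 2, 1, 3, 2, 3, 2, 1, 4, 3, 2, 1, 3, 2, 1, 4, 3, 2, 3, 2, 6, 2, 4, 3, 2, 1, 0, 3, 4, 6],
   [0, 1, 0, 2, 1, 0, 3, 2, 1, 0, 4, 3, 2, 1, 3, 2, 4, 3, 2, 1, 3, 2, 3, 4, 3, 2, 1, 0, 3, 2, 1, 3, 6, 4, 3, 2, 1, 6, 3, 2, 6, 1, 3, 2],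
   [2, 3, 5, 4, 3, 2, 1, 3, 2, 1, 0, 4, 3, 2, 1, 5, 4, 3, 2, 6, 1, 2, 1, 3, 2, 1, 3, 4, 6, 3, 6, 4],
   [0, 1, 0, 3, 5, 4, 3, 2, 3, 2, 1, 0, 4, 3, 2, 1, 3, 2, 4, 3, 2, 1, 0, 5, 6, 1, 0, 2, 1, 4, 3, 2, 1, 7, 1, 4, 3, 7, 2],
   [0, 2, 1, 3, 5, 4, 3, 2, 1, 3, 2, 1, 3, 4, 3, 2, 1, 3, 2, 1, 4, 3, 2, 1, 3, 2, 1, 3, 4, 3, 2, 6, 1, 2, 3, 2, 4, 3, 2, 1, 7, 3, 4, 5],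
   [0, 1, 0, 3, 2, 1, 0, 3, 2, 1, 4, 3, 2, 1, 0, 3, 2, 5, 4, 3, 2, 1, 3, 2, 4, 3, 2, 1, 0, 3, 2, 4, 3, 6, 1, 0, 4, 7, 3, 2, 3, 4, 3, 7],
   [0, 4, 3, 2, 5, 4, 3, 2, 1, 3, 2, 3, 4, 3, 2, 1, 3, 2, 4, 3, 5, 4, 3, 6, 1, 2, 3, 2, 1, 4, 3, 7, 2, 1, 4, 6, 2],
   [3, 2, 1, 0, 3, 4, 3, 2, 1, 3, 2, 3, 2, 1, 4, 3, 2, 1, 0, 3, 5, 4, 3, 2, 1, 3, 2, 1, 3, 6, 1, 0, 2, 1, 3, 2, 3, 4, 6, 3, 2, 1, 7, 2],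
   [0, 1, 2, 3, 4, 3, 2, 1, 3, 2, 1, 4, 3, 2, 1, 3, 2, 4, 3, 5, 4, 3, 2, 1, 3, 2, 3, 2, 4, 3, 2, 1, 0, 3, 2, 1, 3, 2, 4, 6, 4, 6, 3, 2, 1, 4, 3, 2, 3, 4, 6, 1, 0],
   [1, 2, 1, 3, 2, 1, 4, 3, 2, 1, 3, 5, 4, 3, 2, 1, 3, 2, 1, 4, 3, 2, 1, 3, 2, 3, 6, 1, 2, 3, 2, 4, 3, 2, 1, 6, 2, 1, 3, 2],
   [3, 2, 3, 2, 4, 3, 2, 1, 3, 2, 4, 3, 2, 1, 3, 2, 3, 4, 3, 2, 1, 3, 2, 3, 4, 3, 5, 6, 1, 7, 2, 1, 3, 2, 4, 3, 2, 1, 7, 1, 0],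
   [1, 2, 1, 0, 4, 3, 2, 1, 0, 3, 2, 1, 4, 3, 2, 1, 3, 2, 4, 3, 2, 1, 0, 3, 2, 4, 3, 2, 6, 1, 3, 4, 3, 2, 3, 2, 4, 3],
   [0, 1, 0, 2, 1, 3, 2, 4, 3, 2, 1, 0, 3, 2, 1, 3, 2, 4, 3, 2, 1, 0, 3, 2, 6, 1, 0, 2, 3, 4, 3, 2, 1, 3, 4, 7, 2, 1],
   [0, 3, 4, 3, 2, 1, 3, 2, 3, 4, 3, 2, 1, 0, 3, 2, 1, 4, 3, 5, 4, 3, 2, 1, 3, 2, 1, 3, 4, 6, 1, 2, 3, 2, 1, 3, 4, 7, 3, 2, 3, 4],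
   [1, 4, 3, 2, 1, 3, 2, 1, 3, 2, 1, 4, 3, 2, 1, 5, 4, 3, 2, 1, 3, 2, 3, 4, 6, 4, 3, 2, 1, 5, 4, 7, 3, 2, 3, 4, 6, 2],
   [0, 2, 1, 0, 3, 2, 1, 0, 3, 2, 3, 4, 3, 2, 1, 3, 2, 1, 4, 3, 2, 1, 3, 5, 4, 3, 2, 3, 2, 1, 6, 1, 2, 4, 3, 2, 3, 6, 1, 6, 2, 1, 7],
   [0, 2, 1, 5, 4, 3, 2, 1, 3, 2, 1, 4, 3, 2, 1, 0, 5, 4, 3, 2, 1, 3, 2, 4, 3, 2, 1, 0, 3, 4, 6, 4, 3, 2, 1, 6, 1, 3, 2, 1, 7],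
   [0, 1, 2, 1, 3, 2, 3, 4, 3, 2, 1, 0, 3, 2, 1, 0, 3, 4, 3, 2, 1, 3, 4, 5, 4, 6, 1, 4, 6, 3, 2, 1, 3, 4, 3, 6, 2, 1, 7],
   [0, 1, 2, 1, 4, 3, 2, 1, 3, 2, 1, 4, 3, 2, 1, 0, 5, 4, 3, 2, 1, 0, 3, 2, 3, 4, 3, 5, 4, 6, 1, 2, 4, 3, 2, 7, 4, 3, 2, 1, 7, 1],
   [1, 0, 3, 2, 1, 4, 3, 2, 1, 0, 5, 4, 3, 2, 1, 0, 3, 2, 3, 4, 3, 2, 1, 3, 2, 3, 5, 4, 6, 1, 0, 2, 4, 3, 6, 2, 1, 3, 2, 4, 6, 3, 4],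
   [0, 1, 0, 3, 2, 1, 3, 5, 4, 3, 2, 1, 3, 2, 1, 3, 2, 4, 3, 2, 1, 3, 2, 4, 3, 2, 5, 4, 3, 2, 1, 3, 6, 4, 3, 2, 1, 3, 2, 7, 1, 3, 6, 4]]

def tWords34 : List (List Nat) :=
  [[1, 0, 2, 1, 4, 3, 2, 1, 5, 4, 3, 2, 1, 3, 2, 1, 0, 4, 3, 2, 1, 5, 4, 3, 2, 1, 3, 2, 4, 3, 6, 1, 2, 3, 2, 4, 7, 1, 3, 4, 6, 1, 2, 3, 7],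
   [2, 1, 0, 3, 2, 1, 0, 3, 2, 4, 3, 2, 1, 0, 5, 4, 3, 2, 1, 0, 3, 2, 4, 3, 5, 6, 1, 3, 4, 3, 2, 1, 3, 4, 7, 4, 3],
   [0, 1, 2, 3, 2, 4, 3, 2, 1, 0, 3, 2, 1, 3, 4, 3, 2, 1, 3, 2, 1, 4, 3, 2, 3, 6, 1, 2, 3, 2, 4, 3, 7, 1, 7, 2, 3, 2, 1, 6],
   [0, 1, 0, 2, 1, 3, 2, 1, 4, 3, 2, 1, 3, 5, 4, 3, 2, 1, 3, 2, 1, 4, 3, 2, 1, 3, 2, 4, 3, 6, 1, 2, 3, 4, 3, 2, 3, 7, 1, 4, 3],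
   [0, 1, 0, 2, 4, 3, 2, 1, 0, 5, 4, 3, 2, 1, 0, 3, 2, 3, 4, 3, 2, 1, 3, 2, 1, 3, 6, 1, 2, 4, 6, 3, 4, 6, 1, 2, 6, 3],
   [2, 3, 2, 1, 3, 4, 3, 2, 1, 0, 3, 2, 5, 4, 3, 2, 1, 0, 3, 2, 4, 3, 2, 6, 4, 3, 2, 1, 3, 6, 2, 1, 4, 3, 2, 6, 3, 4],
   [3, 5, 4, 3, 2, 1, 3, 2, 1, 3, 4, 3, 2, 1, 3, 2, 1, 4, 3, 2, 1, 5, 4, 3, 2, 3, 6, 4, 3, 2, 1, 3, 7, 4, 3, 2, 3, 2, 4, 3, 6],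
   [1, 2, 1, 0, 3, 2, 3, 4, 3, 2, 1, 3, 2, 4, 3, 5, 4, 3, 2, 1, 0, 3, 2, 3, 4, 6, 1, 4, 6, 3, 6, 2, 1, 3, 4, 6, 3, 2, 1],
   [2, 3, 5, 4, 3, 2, 1, 0, 3, 2, 1, 3, 2, 3, 4, 3, 2, 1, 5, 4, 3, 2, 1, 0, 3, 2, 1, 4, 3, 2, 3, 4, 6, 4, 3, 2, 3, 7, 1, 4, 3],
   [0, 1, 2, 4, 3, 5, 4, 3, 2, 1, 3, 2, 1, 3, 2, 1, 4, 3, 2, 1, 3, 2, 1, 0, 4, 3, 6, 1, 2, 3, 7, 2, 4, 7, 3, 4],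
   [1, 3, 4, 3, 2, 1, 3, 2, 3, 4, 3, 2, 1, 3, 2, 3, 5, 4, 3, 2, 1, 3, 2, 3, 2, 1, 4, 3, 2, 3, 4, 6, 4, 3, 2, 1, 3, 6, 2, 4, 3, 5, 4, 6, 4],
   [0, 2, 1, 3, 2, 1, 3, 4, 3, 2, 1, 0, 3, 2, 1, 0, 3, 4, 3, 2, 1, 0, 6, 1, 2, 3, 4, 7, 2, 1, 3, 6, 2, 1, 0, 3],
   [0, 1, 0, 2, 1, 0, 3, 4, 3, 2, 3, 2, 1, 0, 4, 3, 2, 1, 3, 2, 3, 4, 3, 2, 3, 5, 4, 6, 1, 4, 3, 2, 1, 5, 4, 7, 3, 2, 1],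
   [2, 1, 3, 4, 3, 2, 1, 3, 2, 1, 0, 4, 3, 2, 1, 0, 5, 4, 3, 2, 1, 0, 6, 4, 3, 2, 6, 1, 3, 6, 2, 3, 4, 3, 7, 1],
   [2, 1, 4, 3, 2, 1, 3, 2, 4, 3, 2, 1, 3, 2, 4, 3, 2, 1, 3, 2, 4, 3, 2, 6, 1, 2, 3, 2, 1, 4, 7, 3, 4, 3, 2, 3, 7, 1],
   [2, 3, 2, 1, 4, 3, 5, 4, 3, 2, 3, 2, 1, 0, 4, 3, 2, 1, 3, 2, 3, 4, 3, 2, 3, 2, 1, 0, 6, 1, 3, 4, 3, 2, 3, 2, 4, 7, 3, 2, 1],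
   [1, 0, 2, 1, 4, 3, 5, 4, 3, 2, 1, 0, 3, 2, 3, 4, 3, 2, 1, 0, 3, 2, 1, 3, 2, 4, 3, 2, 5, 4, 3, 2, 6, 1, 4, 7, 3, 2, 1, 3, 2, 4, 3, 7, 1],
   [1, 2, 1, 3, 2, 1, 0, 3, 4, 3, 2, 1, 3, 2, 3, 5, 4, 3, 2, 1, 3, 2, 3, 2, 1, 4, 3, 2, 5, 6, 1, 4, 3, 2, 3, 7, 1, 4, 3, 7, 2, 4, 6],
   [3, 2, 1, 3, 2, 1, 3, 4, 3, 2, 1, 3, 2, 1, 4, 3, 2, 1, 3, 2, 4, 3, 2, 1, 0, 3, 4, 5, 6, 1, 4, 3, 2, 1, 3, 4, 6, 2, 4, 7, 1],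
   [0, 4, 3, 2, 5, 4, 3, 2, 1, 3, 2, 3, 2, 4, 3, 2, 1, 3, 2, 4, 3, 2, 1, 3, 2, 3, 2, 4, 6, 1, 0, 2, 1, 3, 6, 2, 4, 6, 3, 2],
   [1, 0, 3, 2, 1, 4, 3, 2, 1, 3, 2, 1, 4, 3, 2, 1, 5, 4, 6, 1, 2, 3, 2, 1, 4, 7, 3, 2, 3, 4, 3, 7],
   [2, 1, 3, 2, 1, 3, 2, 4, 3, 2, 5, 4, 3, 2, 1, 0, 3, 2, 1, 3, 2, 4, 3, 2, 1, 3, 2, 3, 2, 4, 3, 2, 1, 5, 4, 3, 6, 4, 3, 2, 1, 3, 2, 4, 3, 2, 5, 4, 7],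
   [1, 2, 1, 0, 4, 3, 2, 1, 3, 2, 3, 4, 3, 2, 1, 3, 2, 4, 3, 5, 4, 3, 2, 3, 2, 6, 1, 0, 2, 3, 4, 6, 2, 6, 1, 3, 6, 2, 1, 4, 7],
   [0, 2, 1, 0, 3, 2, 1, 0, 3, 2, 3, 4, 3, 2, 1, 3, 2, 4, 3, 2, 5, 4, 3, 2, 1, 3, 2, 3, 6, 1, 2, 3, 2, 1, 4, 6, 3, 2, 6, 1, 6],
   [0, 1, 2, 1, 0, 3, 2, 1, 0, 3, 4, 3, 2, 1, 3, 2, 1, 4, 3, 2, 1, 3, 2, 4, 3, 2, 6, 1, 2, 3, 2, 4, 3, 2, 1, 7, 1, 4],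
   [1, 2, 3, 4, 3, 2, 1, 3, 2, 3, 2, 4, 3, 2, 1, 3, 2, 4, 3, 2, 5, 4, 3, 2, 1, 0, 3, 6, 2, 4, 3, 2, 1, 3, 2, 3, 4, 3, 7, 1, 2, 4],
   [0, 1, 2, 3, 2, 1, 4, 3, 2, 1, 5, 4, 3, 2, 3, 2, 1, 4, 3, 2, 1, 3, 2, 1, 0, 3, 4, 3, 6, 1, 4, 7, 3, 2, 1, 3, 2, 4, 7, 1],
   [2, 1, 4, 3, 2, 1, 3, 2, 1, 4, 3, 2, 5, 4, 3, 2, 1, 3, 2, 3, 4, 3, 2, 1, 3, 2, 3, 6, 1, 2, 3, 2, 1, 6, 4, 3, 2, 1, 3, 2, 4],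
   [3, 2, 1, 0, 4, 3, 2, 1, 5, 4, 3, 2, 3, 2, 1, 0, 4, 3, 2, 5, 6, 1, 2, 1, 3, 2, 1, 7, 2, 4, 3, 5, 4],
   [1, 0, 3, 2, 1, 3, 2, 3, 2, 1, 4, 3, 2, 3, 2, 1, 0, 4, 3, 2, 3, 4, 5, 6, 1, 2, 6, 3, 2, 4, 7, 1, 3, 2, 7, 3],
   [1, 0, 3, 2, 1, 3, 4, 3, 2, 1, 3, 2, 1, 3, 2, 4, 3, 2, 1, 5, 4, 3, 2, 3, 2, 4, 3, 6, 1, 4, 3, 2, 5, 4, 6, 3, 4, 6],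
   [0, 1, 0, 2, 3, 2, 1, 4, 3, 2, 1, 0, 3, 2, 1, 4, 3, 5, 4, 3, 2, 1, 3, 2, 1, 0, 3, 6, 4, 3, 2, 7, 1, 3, 2, 4, 7, 4],
   [2, 1, 0, 4, 3, 2, 5, 4, 3, 2, 1, 3, 2, 3, 2, 4, 3, 2, 1, 5, 4, 3, 2, 3, 2, 1, 4, 3, 2, 1, 3, 6, 1, 0, 2, 1, 4, 3, 2, 1, 3, 5, 4, 6, 3, 2, 3],
   [0, 1, 2, 3, 2, 4, 3, 2, 1, 0, 3, 2, 1, 3, 4, 3, 2, 1, 3, 2, 3, 4, 5, 4, 3, 6, 1, 4, 6, 3, 2, 1, 4, 7, 1, 3, 2, 1, 0],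
   [0, 1, 0, 2, 3, 2, 5, 4, 3, 2, 1, 0, 3, 2, 1, 4, 3, 2, 3, 2, 4, 3, 2, 1, 0, 3, 2, 3, 4, 6, 4, 3, 2, 1, 3, 2, 7, 4, 7],
   [0, 2, 3, 2, 1, 4, 3, 2, 1, 0, 3, 4, 5, 4, 3, 2, 1, 3, 2, 4, 3, 2, 1, 3, 2, 3, 2, 6, 1, 0, 2, 4, 3, 2, 6, 4, 6],
   [0, 2, 3, 2, 1, 0, 3, 4, 3, 2, 1, 0, 3, 2, 1, 3, 4, 3, 2, 1, 3, 2, 4, 5, 6, 1, 0, 4, 3, 2, 1, 6, 3],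
   [2, 3, 2, 5, 4, 3, 2, 1, 0, 6, 1, 0, 2, 3, 2, 4, 3, 6, 2, 1, 6, 1, 3, 4],
   [1, 0, 2, 3, 5, 4, 3, 2, 1, 3, 2, 1, 3, 4, 3, 2, 3, 2, 1, 6, 1, 0, 3, 4, 3, 2, 1, 0, 3, 2, 3, 4, 7, 3],
   [0, 2, 1, 0, 3, 2, 1, 0, 3, 2, 1, 4, 3, 2, 1, 3, 5, 4, 3, 2, 3, 2, 1, 4, 3, 2, 5, 4, 6, 1, 2, 7, 3, 2, 1, 4, 6, 3, 2, 1, 4, 6]]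

def tWords35 : List (List Nat) :=
  [[0, 2, 4, 3, 2, 1, 0, 3, 2, 1, 3, 4, 3, 2, 1, 0, 3, 2, 1, 3, 4, 3, 2, 3, 2, 1, 6, 1, 4, 3, 2, 3, 6, 1, 2, 4, 3, 5, 4, 6, 1],
   [1, 2, 3, 2, 3, 4, 3, 2, 1, 3, 2, 4, 3, 2, 1, 5, 4, 3, 2, 1, 3, 2, 1, 3, 4, 3, 2, 3, 5, 6, 1, 2, 3, 2, 4, 3, 7, 1, 4, 7],
   [1, 0, 2, 3, 2, 1, 0, 4, 3, 5, 4, 3, 2, 1, 3, 2, 1, 3, 2, 1, 4, 5, 6, 4, 3, 2, 3, 6, 1, 2, 3, 4, 6, 3, 6, 4, 6],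
   [0, 1, 3, 2, 1, 0, 3, 2, 4, 3, 2, 1, 0, 3, 2, 4, 3, 5, 4, 6, 1, 2, 3, 2, 1, 7, 4, 3, 2, 6, 4],
   [3, 4, 3, 2, 1, 3, 2, 3, 2, 4, 3, 2, 1, 3, 2, 3, 2, 1, 4, 3, 6, 1, 2, 3, 4, 3, 2, 1, 3, 2, 6, 1, 7],
   [0, 1, 0, 2, 3, 2, 1, 4, 3, 2, 1, 3, 5, 4, 3, 2, 1, 3, 2, 1, 0, 3, 4, 3, 2, 1, 0, 3, 4, 5, 4, 6, 4, 3, 2, 1, 6, 3, 2, 7, 4, 3, 2, 7],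
   [2, 1, 4, 3, 2, 1, 5, 4, 3, 2, 1, 3, 2, 4, 3, 2, 1, 0, 5, 4, 3, 2, 1, 0, 3, 2, 3, 4, 3, 2, 3, 6, 3, 4, 3, 2, 1, 0, 3, 2, 4, 6, 1, 0, 3],
   [1, 3, 2, 1, 4, 3, 5, 4, 3, 2, 1, 3, 2, 1, 3, 4, 3, 2, 1, 3, 2, 1, 3, 2, 4, 3, 2, 1, 0, 5, 6, 2, 3, 4, 3, 2, 1, 3, 2, 4, 3, 7, 1],
   [0, 1, 0, 3, 2, 1, 0, 4, 3, 2, 1, 3, 2, 4, 3, 2, 1, 0, 3, 2, 3, 4, 3, 2, 1, 6, 1, 0, 2, 3, 2, 1, 4, 3, 7, 2, 1, 7, 1, 3],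
   [2, 3, 2, 1, 3, 4, 3, 2, 1, 3, 2, 1, 4, 3, 2, 1, 3, 2, 1, 4, 3, 2, 1, 0, 3, 2, 1, 4, 3, 2, 3, 4, 6, 4, 3, 2, 7, 1, 3, 2, 4, 3, 5, 4, 7, 1],
   [3, 2, 1, 0, 3, 4, 3, 2, 1, 3, 5, 4, 3, 2, 1, 3, 2, 1, 4, 3, 2, 1, 5, 4, 3, 2, 1, 3, 6, 1, 2, 3, 4, 3, 6, 2, 4, 6, 1],
   [1, 0, 3, 2, 1, 3, 2, 1, 3, 2, 4, 3, 2, 1, 5, 4, 3, 2, 1, 3, 2, 1, 4, 3, 2, 1, 0, 6, 1, 3, 2, 3, 2, 4, 6, 3, 2, 1, 0],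
   [1, 0, 2, 3, 2, 1, 0, 4, 3, 2, 1, 3, 2, 3, 4, 3, 2, 1, 3, 2, 4, 3, 5, 6, 1, 2, 3, 2, 7, 4, 3, 2, 7, 1, 2, 4, 6, 3],
   [1, 0, 2, 1, 0, 5, 4, 3, 2, 1, 3, 2, 4, 3, 2, 1, 0, 3, 2, 3, 4, 3, 2, 1, 0, 3, 2, 1, 6, 1, 2, 3, 2, 4, 6, 1, 0, 4, 5],
   [2, 1, 4, 3, 5, 4, 3, 2, 1, 3, 2, 1, 3, 4, 3, 2, 1, 3, 2, 3, 5, 4, 3, 2, 6, 1, 2, 4, 3, 5, 4, 7, 2, 1, 3, 2, 3, 4, 5],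
   [2, 4, 3, 2, 1, 3, 2, 3, 4, 3, 2, 1, 3, 2, 4, 3, 5, 4, 3, 2, 1, 0, 3, 2, 1, 0, 6, 2, 3, 4, 3, 2, 1, 3, 2, 7, 1],
   [0, 1, 3, 2, 3, 2, 1, 4, 3, 2, 3, 5, 4, 3, 2, 1, 3, 2, 3, 2, 1, 4, 3, 2, 1, 0, 3, 2, 1, 0, 4, 3, 2, 3, 6, 1, 2, 4, 3, 2, 6, 1, 0, 2, 3, 4],
   [2, 3, 2, 1, 0, 3, 2, 3, 4, 3, 2, 1, 0, 3, 2, 1, 4, 3, 2, 3, 5, 4, 3, 2, 1, 3, 2, 3, 6, 1, 0, 2, 4, 3, 2, 1, 0, 3, 2, 1, 4, 3, 7],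
   [0, 1, 2, 1, 0, 3, 2, 1, 5, 4, 3, 2, 1, 3, 2, 1, 4, 3, 5, 6, 4, 3, 2, 3, 7, 1, 6, 2, 3, 4, 7, 3],
   [0, 1, 2, 4, 3, 2, 1, 3, 2, 3, 2, 4, 3, 2, 1, 3, 2, 3, 4, 3, 2, 1, 0, 3, 2, 5, 4, 3, 2, 6, 1, 2, 6, 3, 2, 4, 3, 2, 1, 7, 2, 3, 4, 5],
   [1, 0, 2, 1, 3, 4, 3, 2, 1, 3, 2, 1, 4, 3, 2, 1, 0, 3, 5, 4, 3, 2, 3, 2, 1, 0, 6, 1, 0, 2, 3, 2, 4, 6, 1, 3, 4, 7, 2, 4],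
   [1, 4, 3, 2, 1, 3, 2, 5, 4, 3, 2, 1, 3, 2, 4, 3, 2, 1, 3, 2, 4, 3, 2, 5, 4, 3, 2, 1, 3, 2, 6, 1, 0, 2, 3, 4, 3, 6, 2, 1, 4],
   [0, 4, 3, 2, 3, 2, 4, 3, 2, 1, 3, 2, 3, 2, 1, 4, 3, 2, 1, 3, 2, 1, 0, 4, 3, 2, 5, 6, 1, 7, 2, 1, 3, 2, 3, 4, 6, 3, 2, 4, 3, 2, 1],
   [0, 1, 4, 3, 2, 1, 3, 2, 1, 3, 4, 3, 2, 1, 3, 2, 3, 4, 3, 2, 1, 3, 2, 3, 4, 3, 2, 1, 3, 2, 3, 4, 5, 4, 3, 2, 6, 4, 3, 2, 3, 2, 1, 0, 4, 3, 7, 2],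
   [1, 2, 1, 3, 2, 4, 3, 5, 4, 3, 2, 1, 0, 3, 2, 1, 0, 3, 2, 4, 3, 2, 6, 1, 2, 3, 2, 1, 3, 4, 3, 2, 7, 1, 4],
   [1, 2, 1, 0, 3, 2, 1, 0, 4, 3, 5, 4, 3, 2, 1, 3, 2, 3, 2, 1, 4, 3, 2, 1, 3, 2, 1, 3, 4, 5, 6, 1, 0, 4, 3, 2, 1, 3, 4, 5, 4, 3],
   [1, 2, 3, 2, 4, 3, 2, 6, 1, 2, 6, 3, 2, 4, 6, 1, 3, 7, 2, 3],
   [1, 2, 1, 3, 2, 1, 3, 2, 4, 3, 2, 1, 5, 4, 3, 2, 3, 2, 1, 4, 3, 2, 1, 3, 2, 1, 0, 4, 3, 2, 3, 6, 4, 3, 2, 1, 3, 2, 4, 3, 5, 4],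
   [0, 3, 2, 3, 2, 1, 4, 3, 2, 3, 2, 4, 3, 2, 1, 3, 2, 3, 2, 1, 0, 4, 3, 6, 1, 4, 3, 2, 1, 3, 6, 2, 6, 3, 4, 3, 2],
   [0, 1, 2, 1, 0, 3, 2, 3, 4, 3, 2, 1, 3, 2, 1, 3, 2, 4, 3, 2, 1, 0, 3, 2, 3, 4, 6, 1, 2, 3, 6, 4, 3, 6, 2, 1, 3, 7, 2, 4],
   [1, 3, 2, 3, 2, 4, 3, 2, 1, 3, 2, 3, 4, 3, 2, 1, 3, 2, 4, 3, 5, 4, 3, 2, 1, 3, 2, 6, 1, 0, 2, 1, 3, 7, 2, 4, 3, 5, 4, 7, 4],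
   [1, 0, 2, 3, 2, 1, 5, 4, 3, 2, 1, 3, 2, 1, 0, 3, 4, 3, 2, 1, 3, 2, 1, 3, 4, 3, 2, 1, 6, 1, 2, 3, 4, 7, 2, 3, 4, 6, 1, 0, 2, 1],
   [2, 1, 0, 4, 3, 2, 1, 3, 2, 4, 3, 2, 1, 3, 2, 3, 4, 3, 2, 1, 3, 2, 3, 5, 4, 3, 2, 3, 6, 1, 2, 4, 3, 2, 6, 1, 2, 3, 2, 6, 4, 6],
   [1, 0, 4, 3, 2, 1, 5, 4, 3, 2, 3, 2, 4, 3, 2, 1, 3, 2, 3, 2, 1, 0, 4, 3, 2, 1, 0, 6, 1, 0, 2, 1, 3, 4, 3, 2, 3, 7, 1, 4, 6, 4, 3],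
   [5, 4, 3, 2, 1, 3, 2, 3, 2, 4, 3, 2, 1, 5, 4, 3, 2, 3, 2, 6, 1, 0, 4, 7, 2, 3, 4],
   [1, 0, 3, 2, 1, 3, 2, 3, 5, 4, 3, 2, 1, 3, 2, 4, 3, 2, 1, 0, 5, 4, 3, 2, 1, 6, 1, 2, 3, 2, 1, 3, 4, 3, 7, 1, 2],
   [1, 2, 4, 3, 2, 1, 3, 2, 3, 2, 1, 4, 3, 2, 1, 3, 2, 5, 4, 3, 2, 1, 3, 2, 4, 3, 5, 4, 6, 4, 3, 2, 3, 6, 1, 4, 6, 2, 1, 3, 7],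
   [1, 0, 2, 1, 0, 3, 2, 1, 3, 4, 3, 2, 1, 0, 3, 2, 5, 4, 3, 2, 1, 3, 2, 3, 4, 3, 6, 2, 3, 4, 3, 2, 1, 7, 4, 3, 2, 6],
   [0, 1, 3, 2, 1, 3, 2, 4, 3, 2, 1, 3, 2, 4, 3, 2, 1, 0, 3, 2, 3, 4, 3, 2, 3, 2, 1, 0, 6, 4, 3, 2, 6, 1, 3, 4, 6, 2, 1, 3, 4, 7, 1],
   [3, 2, 1, 3, 2, 4, 3, 2, 1, 3, 2, 3, 4, 3, 2, 1, 0, 3, 2, 3, 4, 3, 2, 5, 6, 4, 3, 2, 1, 6, 3, 2, 4, 3, 7, 1, 7, 4]]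

def tWords36 : List (List Nat) :=
  [[0, 1, 2, 1, 4, 3, 2, 1, 0, 3, 2, 1, 4, 3, 2, 1, 3, 2, 4, 3, 2, 1, 3, 2, 3, 4, 3, 2, 6, 1, 2, 3, 2, 1, 4, 6, 4, 3, 2, 3, 4],
   [2, 1, 3, 2, 1, 0, 3, 4, 3, 2, 1, 3, 2, 1, 4, 3, 2, 1, 0, 3, 5, 4, 3, 2, 1, 3, 2, 1, 3, 4, 3, 2, 1, 5, 4, 3, 2, 6, 1, 0, 4, 3, 2, 5, 4, 3, 2, 1, 7, 2, 1, 6, 3],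
   [3, 2, 1, 3, 2, 3, 2, 1, 4, 3, 2, 1, 3, 2, 3, 4, 3, 2, 1, 3, 2, 3, 2, 4, 3, 5, 6, 1, 0, 4, 3, 2, 1, 3, 5, 4, 3, 6, 2, 3],
   [2, 3, 2, 3, 4, 3, 2, 1, 0, 3, 2, 3, 4, 3, 2, 1, 3, 2, 1, 3, 2, 1, 0, 6, 1, 0, 2, 4, 3, 2, 1, 0, 3, 2, 4, 7, 3, 2],
   [0, 1, 2, 3, 2, 1, 0, 3, 4, 3, 2, 1, 3, 2, 1, 4, 3, 2, 1, 0, 3, 5, 4, 3, 2, 3, 2, 1, 0, 4, 3, 2, 1, 3, 2, 4, 3, 6, 1, 0, 2, 3, 4, 3, 2, 1, 6, 2],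
   [3, 2, 1, 4, 3, 2, 3, 2, 1, 0, 4, 3, 2, 1, 3, 2, 3, 2, 4, 3, 2, 1, 5, 4, 3, 2, 3, 2, 1, 6, 1, 2, 4, 3, 2, 1, 5, 4, 3, 2],
   [1, 0, 4, 3, 2, 1, 3, 2, 1, 0, 4, 3, 2, 1, 0, 5, 4, 3, 2, 1, 3, 2, 4, 3, 2, 1, 3, 2, 3, 6, 4, 3, 2, 1, 3, 6, 4, 3, 2, 6, 3, 4, 5],
   [0, 3, 2, 1, 4, 3, 2, 1, 3, 2, 1, 0, 3, 4, 3, 2, 3, 2, 1, 4, 3, 2, 3, 2, 1, 4, 3, 2, 1, 3, 4, 5, 6, 2, 1, 4, 3, 2, 1, 0, 3, 2, 1, 0],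
   [0, 1, 2, 3, 2, 1, 3, 4, 3, 2, 1, 3, 2, 4, 3, 2, 1, 0, 3, 2, 3, 4, 3, 2, 1, 3, 2, 3, 5, 4, 6, 1, 2, 1, 4, 3, 2, 1, 6, 4, 3, 2, 7, 1, 3],
   [2, 1, 3, 2, 1, 0, 3, 2, 1, 0, 4, 3, 2, 1, 5, 4, 3, 2, 1, 3, 2, 1, 4, 3, 6, 1, 2, 1, 3, 2, 1, 4, 3, 2, 6, 1, 0],
   [3, 5, 4, 3, 2, 1, 3, 2, 1, 3, 4, 3, 2, 1, 3, 2, 3, 2, 1, 4, 3, 2, 6, 1, 4, 3, 2, 3, 4, 6, 2, 1, 4, 6, 2, 3],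
   [1, 3, 2, 1, 0, 3, 4, 3, 2, 3, 2, 1, 4, 3, 2, 3, 4, 5, 4, 3, 2, 6, 4, 3, 2, 6, 1, 3, 6, 2, 3, 4, 7, 1, 3, 7],
   [0, 4, 3, 2, 1, 0, 3, 2, 1, 0, 4, 3, 2, 1, 3, 2, 4, 3, 2, 1, 5, 4, 3, 2, 1, 0, 3, 2, 4, 5, 6, 4, 3, 2, 1, 0, 3, 2, 1, 0, 7, 2, 4, 3],
   [1, 0, 3, 2, 1, 3, 2, 3, 4, 3, 2, 1, 3, 2, 5, 4, 3, 2, 1, 3, 2, 3, 4, 3, 2, 1, 3, 2, 4, 3, 6, 4, 3, 2, 1, 3, 2, 3, 4, 7, 3, 2],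
   [0, 1, 0, 2, 1, 0, 3, 5, 4, 3, 2, 1, 0, 3, 2, 1, 4, 3, 2, 3, 5, 6, 1, 2, 3, 2, 1, 0, 3, 4, 3, 2, 6, 1],
   [1, 2, 1, 3, 2, 1, 3, 5, 4, 3, 2, 1, 0, 3, 2, 1, 4, 3, 2, 1, 3, 2, 4, 3, 2, 3, 4, 6, 1, 4, 3, 2, 7, 3, 4, 7, 1, 2, 3, 2, 4, 5],
   [1, 5, 4, 3, 2, 1, 3, 2, 1, 3, 4, 3, 2, 1, 3, 2, 1, 0, 4, 3, 2, 1, 0, 5, 4, 3, 2, 1, 0, 3, 6, 1, 2, 3, 2, 7, 1, 4, 3, 6, 2, 7, 1, 0],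
   [0, 1, 0, 3, 2, 3, 4, 3, 2, 1, 0, 3, 2, 1, 3, 2, 4, 3, 2, 5, 4, 3, 2, 1, 3, 2, 3, 2, 1, 0, 4, 3, 2, 1, 3, 2, 3, 2, 4, 3, 2, 5, 4, 6, 4, 3, 2, 3, 4, 6, 1, 7, 2, 1, 6],
   [0, 2, 1, 0, 3, 2, 1, 3, 4, 3, 2, 1, 3, 5, 4, 3, 2, 1, 3, 2, 1, 4, 3, 2, 1, 6, 1, 2, 1, 4, 3, 6, 1, 2, 3, 4, 6, 1, 0, 4],
   [0, 3, 2, 1, 4, 3, 2, 5, 4, 3, 2, 1, 0, 3, 2, 1, 3, 4, 3, 2, 3, 2, 4, 5, 6, 1, 2, 3, 2, 4, 3, 7, 2, 4, 3, 7, 2],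
   [0, 1, 2, 1, 3, 2, 1, 0, 3, 4, 3, 2, 3, 2, 1, 0, 4, 3, 2, 1, 3, 2, 3, 4, 3, 2, 3, 4, 5, 4, 6, 1, 3, 4, 3, 2, 1, 0, 3, 2, 1, 3, 4],
   [1, 0, 3, 2, 3, 2, 1, 4, 3, 2, 1, 3, 2, 5, 4, 3, 2, 1, 3, 2, 4, 3, 2, 5, 4, 3, 2, 1, 6, 4, 3, 2, 1, 7, 2, 3, 2, 1, 7, 1],
   [0, 3, 2, 1, 0, 3, 2, 1, 0, 3, 4, 3, 2, 1, 3, 2, 3, 2, 1, 4, 3, 2, 3, 2, 1, 4, 3, 2, 5, 6, 1, 2, 3, 2, 1, 4, 3, 2, 7, 4, 6, 4],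
   [0, 3, 2, 1, 5, 4, 3, 2, 1, 3, 2, 1, 0, 3, 4, 3, 2, 3, 2, 1, 4, 3, 2, 3, 2, 1, 0, 4, 3, 2, 5, 6, 4, 3, 2, 1, 7, 3, 2, 4, 6, 1, 2, 3, 2],
   [0, 1, 0, 5, 4, 3, 2, 1, 3, 2, 1, 0, 3, 4, 3, 2, 1, 3, 2, 1, 4, 3, 2, 1, 0, 5, 4, 3, 2, 1, 0, 3, 2, 4, 6, 1, 2, 4, 3, 2, 6, 1, 3, 2, 4, 7, 3],
   [0, 4, 3, 2, 1, 0, 3, 5, 4, 3, 2, 1, 3, 2, 1, 4, 3, 2, 1, 3, 2, 4, 3, 5, 4, 3, 2, 1, 0, 3, 2, 1, 0, 3, 4, 5, 6, 1, 0, 4, 7, 3, 2, 1, 4, 5],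
   [3, 2, 1, 0, 3, 4, 3, 2, 1, 3, 2, 5, 4, 3, 2, 1, 3, 2, 3, 4, 3, 2, 1, 0, 3, 2, 4, 5, 6, 4, 3, 2, 6, 1, 2, 3, 2, 7, 1, 4, 6],
   [0, 1, 2, 5, 4, 3, 2, 1, 3, 2, 3, 4, 3, 2, 1, 0, 3, 2, 1, 3, 4, 3, 2, 1, 3, 2, 1, 4, 3, 6, 1, 2, 1, 4, 3, 2, 1, 7, 3, 4],
   [1, 0, 2, 1, 0, 3, 2, 1, 0, 3, 4, 3, 2, 1, 3, 5, 4, 3, 2, 1, 0, 3, 2, 1, 0, 4, 6, 1, 2, 3, 2, 6, 4, 3, 2, 1, 7, 3, 4],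
   [0, 1, 0, 2, 1, 3, 2, 1, 4, 3, 2, 1, 5, 4, 3, 2, 1, 0, 3, 2, 1, 4, 6, 4, 3, 2, 1, 3, 6, 2, 4, 7, 3, 2, 4],
   [0, 2, 3, 2, 4, 3, 2, 1, 3, 2, 3, 2, 4, 3, 2, 1, 3, 2, 4, 3, 2, 5, 6, 1, 2, 3, 2, 1, 3, 6, 4, 3, 6, 2, 4, 6],
   [0, 1, 0, 5, 4, 3, 2, 1, 3, 2, 1, 0, 3, 4, 3, 2, 1, 3, 2, 3, 5, 4, 3, 2, 1, 0, 3, 2, 3, 4, 3, 2, 1, 6, 4, 6, 3, 2, 1, 3, 2, 7, 4, 3, 7, 1],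
   [0, 1, 0, 3, 4, 5, 4, 3, 2, 1, 0, 3, 2, 1, 4, 3, 2, 1, 3, 2, 4, 3, 2, 1, 0, 3, 4, 5, 6, 1, 4, 3, 2, 3, 7, 1, 4, 3, 2, 3, 7, 4, 6],
   [1, 3, 2, 1, 3, 2, 1, 0, 3, 4, 3, 2, 1, 3, 2, 1, 3, 4, 3, 2, 1, 0, 3, 2, 3, 4, 3, 2, 3, 2, 1, 6, 1, 4, 3, 2, 3, 5, 4, 3, 2, 6, 3, 6, 1],
   [1, 3, 2, 1, 3, 4, 3, 2, 1, 3, 2, 3, 5, 4, 3, 2, 1, 0, 3, 2, 3, 4, 3, 2, 1, 6, 1, 0, 3, 2, 1, 3, 4, 3, 2, 7, 3],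
   [2, 3, 2, 1, 0, 3, 2, 1, 3, 2, 4, 3, 2, 1, 3, 2, 3, 4, 3, 2, 1, 0, 3, 2, 1, 0, 4, 6, 1, 0, 2, 4, 3, 6, 2, 1, 4, 6, 3, 2, 3, 4, 5],
   [1, 3, 4, 5, 4, 3, 2, 1, 3, 2, 3, 4, 3, 2, 1, 0, 3, 2, 3, 4, 3, 2, 1, 0, 3, 2, 3, 6, 1, 4, 3, 2, 1, 3, 7, 2, 4, 3, 7],
   [1, 3, 2, 1, 3, 2, 1, 4, 3, 2, 1, 0, 5, 4, 3, 2, 1, 3, 2, 4, 3, 6, 1, 2, 3, 2, 3, 4, 6, 1, 3, 2, 7, 1, 7],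
   [1, 0, 5, 4, 3, 2, 1, 3, 2, 1, 0, 3, 4, 3, 2, 1, 3, 2, 5, 4, 6, 1, 4, 3, 2, 1, 5, 4, 3, 2, 3, 7, 1, 0, 2, 3],
   [0, 3, 2, 1, 4, 3, 2, 1, 3, 2, 1, 4, 3, 2, 1, 0, 3, 2, 4, 3, 5, 4, 6, 1, 4, 7, 2, 3, 2, 1, 6, 2, 3, 7, 4]]

def tWords37 : List (List Nat) :=
  [[0, 1, 0, 2, 3, 4, 3, 2, 1, 3, 2, 1, 4, 3, 2, 1, 0, 5, 4, 3, 2, 1, 3, 2, 3, 4, 3, 2, 3, 2, 1, 4, 5, 6, 1, 2, 4, 7, 3, 4, 6, 4],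
   [1, 2, 1, 0, 4, 3, 2, 1, 3, 2, 3, 4, 3, 2, 1, 3, 2, 4, 5, 4, 3, 6, 4, 3, 2, 1, 3, 6, 1, 2, 1, 4, 3, 7, 4],
   [2, 3, 2, 1, 4, 5, 4, 3, 2, 1, 3, 2, 3, 4, 3, 2, 1, 3, 2, 3, 2, 4, 3, 2, 1, 3, 6, 1, 0, 2, 3, 4, 6, 2, 1, 3, 2, 4, 7, 4],
   [1, 0, 3, 4, 3, 2, 1, 3, 2, 4, 3, 2, 5, 4, 3, 2, 1, 3, 2, 3, 2, 1, 4, 3, 2, 3, 4, 5, 4, 6, 1, 0, 2, 1, 3, 2, 1, 4, 7, 3, 2, 3, 4],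
   [0, 2, 1, 3, 2, 3, 4, 3, 2, 1, 3, 2, 1, 3, 2, 1, 4, 3, 2, 3, 2, 1, 0, 4, 3, 2, 1, 6, 1, 6, 2, 3, 2, 1, 4, 3, 7, 2, 1, 7],
   [1, 0, 3, 4, 3, 2, 1, 3, 2, 3, 2, 1, 4, 3, 2, 3, 2, 1, 0, 4, 3, 2, 1, 5, 6, 1, 4, 3, 2, 1, 0, 3, 6, 2, 1, 4, 3],
   [0, 1, 0, 2, 1, 0, 3, 2, 1, 4, 3, 2, 1, 0, 3, 2, 4, 3, 5, 4, 3, 2, 1, 0, 3, 2, 1, 0, 6, 1, 0, 4, 3, 2, 1, 3, 6, 2, 6, 1, 7],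
   [0, 2, 1, 3, 2, 1, 3, 5, 4, 3, 2, 1, 0, 3, 2, 1, 0, 4, 3, 2, 1, 5, 4, 3, 2, 3, 2, 4, 5, 6, 1, 4, 6, 2, 1, 3, 2, 1, 7],
   [3, 2, 3, 2, 1, 4, 3, 2, 3, 2, 1, 4, 3, 2, 3, 2, 4, 3, 5, 6, 1, 4, 3, 5, 4, 6],
   [0, 1, 2, 1, 0, 3, 2, 4, 3, 2, 1, 3, 2, 3, 4, 3, 2, 1, 0, 3, 5, 4, 3, 6, 1, 0, 3, 2, 3, 4, 6, 3, 2, 1, 3, 2],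
   [5, 4, 3, 2, 1, 0, 3, 2, 1, 3, 2, 4, 3, 2, 1, 3, 2, 3, 4, 3, 2, 1, 3, 2, 1, 4, 3, 2, 3, 4, 6, 1, 2, 3, 7, 2, 1, 4, 3, 6, 2, 3, 6],
   [1, 0, 2, 4, 3, 2, 1, 5, 4, 3, 2, 1, 3, 2, 1, 0, 4, 3, 2, 1, 3, 2, 4, 3, 2, 1, 0, 3, 6, 1, 0, 2, 4, 3, 2, 1, 3, 7, 1, 4, 3, 7],
   [1, 0, 2, 1, 3, 2, 1, 3, 4, 3, 2, 1, 0, 3, 4, 5, 4, 3, 2, 1, 0, 3, 2, 6, 4, 3, 2, 1, 5, 4, 3, 2, 7, 1, 6, 2, 3],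
   [0, 2, 3, 2, 3, 4, 3, 2, 1, 3, 2, 3, 2, 4, 3, 2, 1, 5, 4, 3, 2, 3, 2, 6, 1, 7, 2, 3, 2, 4, 3, 6, 1, 2, 3],
   [1, 4, 3, 2, 1, 3, 5, 4, 3, 2, 3, 2, 1, 0, 4, 3, 2, 1, 3, 2, 4, 3, 2, 5, 4, 3, 2, 3, 6, 4, 3, 2, 1, 6, 3, 2, 7, 1, 4, 6, 2, 4],
   [1, 2, 1, 3, 2, 3, 4, 3, 2, 1, 3, 2, 4, 3, 2, 1, 5, 4, 3, 2, 3, 2, 1, 4, 3, 2, 3, 2, 4, 3, 5, 6, 1, 2, 3, 2, 6, 4, 6, 3, 2, 1, 7, 1, 4],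
   [1, 3, 5, 4, 3, 2, 3, 2, 1, 4, 3, 2, 3, 2, 1, 4, 3, 2, 1, 3, 2, 1, 4, 3, 5, 4, 6, 1, 0, 2, 1, 3, 6, 4, 3, 2, 1, 3, 2, 5],
   [1, 2, 1, 3, 2, 1, 4, 3, 2, 3, 2, 1, 4, 3, 2, 1, 0, 3, 4, 5, 4, 3, 2, 1, 3, 2, 4, 3, 6, 1, 2, 3, 7, 2, 4, 7, 3, 2, 1, 6],
   [1, 2, 1, 3, 2, 1, 0, 3, 4, 3, 2, 1, 3, 2, 1, 3, 2, 4, 3, 2, 1, 0, 3, 2, 1, 3, 4, 6, 1, 2, 4, 3, 2, 6, 1, 4, 6, 2, 1, 3],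
   [0, 3, 4, 3, 2, 1, 3, 2, 3, 2, 1, 4, 3, 2, 1, 5, 4, 3, 2, 1, 3, 2, 4, 3, 2, 1, 0, 5, 4, 3, 2, 1, 3, 2, 3, 4, 3, 6, 1, 2, 4, 3, 7, 2, 1, 3, 2, 6, 4, 3, 6],
   [3, 2, 1, 3, 4, 3, 2, 3, 2, 1, 0, 4, 3, 2, 1, 3, 2, 4, 3, 2, 1, 5, 4, 3, 2, 1, 3, 2, 4, 3, 2, 6, 1, 0, 4, 6, 3, 2, 4, 3, 7, 1, 4, 6, 3],
   [3, 2, 3, 2, 1, 4, 3, 2, 1, 3, 2, 4, 3, 2, 1, 3, 2, 3, 2, 1, 4, 3, 2, 5, 4, 3, 2, 1, 0, 6, 3, 4, 3, 2, 1, 3, 4, 7, 1, 3],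
   [2, 1, 0, 3, 2, 1, 5, 4, 3, 2, 3, 2, 1, 4, 3, 2, 1, 0, 3, 2, 4, 3, 2, 6, 1, 4, 6, 2, 1, 3, 2, 3, 6, 4, 6, 1, 2],
   [2, 1, 3, 2, 1, 4, 3, 2, 1, 3, 2, 1, 0, 4, 3, 2, 1, 3, 2, 3, 4, 3, 2, 1, 6, 1, 0, 2, 1, 4, 3, 5, 4, 7, 2, 3, 4],
   [3, 2, 1, 0, 4, 3, 2, 1, 0, 5, 4, 3, 2, 1, 3, 2, 4, 3, 2, 5, 4, 3, 2, 3, 6, 1, 2, 3, 2, 3, 4, 3, 7, 1, 0, 4, 6],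
   [0, 1, 0, 2, 1, 3, 2, 1, 3, 4, 3, 2, 1, 0, 3, 4, 5, 4, 3, 2, 1, 0, 3, 2, 4, 3, 2, 6, 1, 2, 1, 3, 2, 1, 4, 3, 2, 1, 6, 1, 4],
   [1, 3, 2, 1, 3, 2, 1, 4, 3, 2, 1, 0, 3, 5, 4, 3, 2, 1, 3, 2, 1, 4, 6, 1, 2, 3, 2, 7, 1, 4, 3, 2, 7, 1, 7, 4],
   [2, 1, 3, 2, 1, 0, 3, 4, 3, 2, 1, 3, 2, 1, 3, 4, 3, 2, 1, 3, 2, 1, 4, 3, 2, 1, 5, 6, 1, 2, 3, 2, 1, 3, 4, 3, 2, 3, 2, 4, 6, 3],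
   [0, 1, 3, 2, 1, 3, 2, 1, 3, 4, 3, 2, 1, 3, 2, 1, 4, 3, 2, 1, 3, 2, 3, 5, 4, 3, 2, 1, 6, 1, 0, 2, 3, 4, 6, 2, 1, 3, 2, 6, 1, 0, 3],
   [0, 1, 3, 2, 1, 0, 3, 5, 4, 3, 2, 3, 2, 1, 0, 4, 3, 2, 1, 3, 2, 3, 4, 3, 2, 1, 5, 4, 3, 2, 1, 3, 2, 3, 4, 6, 1, 2, 3, 4, 3, 2, 1, 3, 7, 1, 4, 3, 2],
   [0, 1, 3, 4, 3, 2, 1, 3, 2, 1, 3, 4, 3, 2, 1, 3, 2, 1, 0, 4, 3, 2, 1, 0, 5, 4, 3, 2, 1, 3, 2, 4, 6, 1, 2, 3, 2, 1, 3, 4, 3, 7, 1, 2, 1, 3],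
   [1, 2, 3, 2, 1, 0, 3, 4, 3, 2, 3, 2, 1, 4, 3, 2, 3, 2, 1, 0, 4, 3, 2, 1, 0, 3, 2, 3, 4, 5, 6, 1, 2, 4, 3, 2, 1, 3, 6, 4, 3, 2, 7, 1],
   [1, 0, 3, 2, 1, 4, 3, 2, 1, 5, 4, 3, 2, 1, 0, 3, 2, 1, 4, 3, 2, 1, 3, 2, 1, 4, 3, 2, 5, 4, 6, 4, 3, 2, 1, 3, 2, 3, 6, 1, 0, 4, 7, 3, 4],
   [4, 3, 2, 1, 3, 2, 1, 3, 2, 1, 4, 3, 2, 1, 3, 2, 3, 4, 3, 2, 1, 3, 2, 3, 2, 6, 1, 4, 6, 2, 1, 3, 7, 2, 4, 5],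
   [2, 1, 0, 3, 5, 4, 3, 2, 3, 2, 1, 4, 3, 2, 3, 2, 1, 0, 4, 3, 2, 1, 3, 2, 4, 3, 2, 1, 6, 1, 2, 4, 3, 2, 6, 1, 2, 6, 3, 4, 3, 7],
   [1, 0, 3, 4, 3, 2, 1, 0, 3, 2, 1, 3, 4, 3, 2, 1, 3, 2, 3, 4, 3, 2, 5, 6, 1, 2, 3, 2, 3, 4, 3, 7, 1, 4, 6, 1, 2, 1],
   [1, 3, 2, 1, 4, 3, 2, 3, 2, 1, 4, 3, 2, 3, 2, 1, 4, 3, 2, 3, 2, 4, 3, 2, 1, 6, 1, 4, 3, 2, 1, 3, 2, 3, 6, 4, 7, 3, 4],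
   [2, 3, 2, 1, 5, 4, 3, 2, 3, 2, 1, 4, 3, 2, 1, 3, 2, 1, 4, 3, 2, 1, 0, 3, 4, 6, 4, 3, 2, 1, 3, 2, 4, 7, 1, 0, 4, 3],
   [0, 5, 4, 3, 2, 1, 3, 2, 1, 4, 3, 2, 1, 0, 5, 4, 3, 2, 1, 3, 6, 4, 3, 2, 1, 5, 4, 3, 2, 1, 3, 2, 1, 6, 4],
   [2, 1, 3, 5, 4, 3, 2, 1, 3, 2, 1, 4, 3, 2, 1, 3, 2, 4, 3, 5, 4, 3, 2, 1, 0, 3, 2, 1, 3, 2, 6, 1, 2, 3, 2, 6, 4, 6, 3, 2, 6, 1, 2]]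

def tWords38 : List (List Nat) :=
  [[0, 2, 3, 2, 3, 4, 3, 2, 1, 0, 3, 2, 1, 0, 3, 4, 3, 2, 1, 0, 3, 2, 1, 5, 4, 3, 2, 1, 3, 6, 1, 2, 3, 2, 4, 6, 3, 7, 2, 1, 4, 6],
   [1, 2, 3, 5, 4, 3, 2, 1, 0, 3, 2, 1, 0, 3, 4, 3, 2, 1, 3, 2, 3, 5, 4, 3, 2, 1, 3, 2, 3, 2, 1, 6, 4, 3, 2, 3, 4, 7, 1, 2, 1, 7, 3, 2, 4],
   [3, 2, 5, 4, 3, 2, 1, 0, 3, 2, 1, 3, 2, 3, 4, 3, 2, 1, 3, 2, 4, 3, 2, 5, 4, 3, 2, 1, 0, 3, 2, 1, 3, 2, 3, 4, 6, 1, 4, 3, 2, 3, 5, 4, 3, 2, 7],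
   [0, 3, 4, 3, 2, 1, 3, 2, 4, 3, 2, 1, 3, 2, 3, 2, 4, 3, 2, 1, 0, 5, 4, 3, 2, 1, 3, 2, 3, 4, 3, 2, 6, 4, 3, 7, 2, 1, 3, 2, 4, 3, 2, 1, 7, 4],
   [1, 4, 3, 2, 1, 3, 2, 3, 4, 3, 2, 1, 3, 2, 1, 3, 4, 3, 2, 1, 3, 2, 4, 3, 2, 1, 0, 5, 6, 2, 4, 3, 2, 1, 3, 6, 2, 6, 4, 3, 7],
   [0, 1, 3, 4, 3, 2, 1, 0, 3, 2, 3, 4, 3, 2, 1, 0, 3, 2, 1, 3, 2, 3, 4, 5, 6, 2, 4, 3, 2, 1, 3, 2, 7, 1, 3, 4, 6, 1],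
   [0, 1, 2, 1, 0, 3, 2, 1, 4, 3, 2, 1, 0, 3, 2, 1, 4, 3, 2, 1, 3, 2, 4, 3, 2, 1, 3, 2, 3, 4, 3, 6, 1, 2, 3, 2, 4, 3, 7, 1, 2, 1, 3, 4],
   [0, 2, 4, 3, 5, 4, 3, 2, 1, 3, 2, 3, 2, 1, 4, 3, 2, 3, 2, 1, 4, 3, 2, 5, 6, 1, 2, 3, 2, 1, 4, 7, 3, 2, 1, 7, 1, 4, 3],
   [0, 1, 0, 5, 4, 3, 2, 1, 3, 2, 3, 4, 3, 2, 1, 3, 2, 3, 4, 6, 4, 6, 3, 2, 3, 4, 3],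
   [0, 1, 2, 1, 3, 2, 1, 3, 4, 3, 2, 1, 3, 2, 3, 2, 4, 6, 1, 2, 7, 3, 2, 1, 4, 3, 2, 7, 1, 7],
   [0, 1, 0, 4, 3, 2, 1, 0, 3, 2, 1, 0, 4, 3, 2, 1, 5, 4, 3, 2, 1, 3, 2, 6, 1, 2, 3, 4, 3, 7, 4, 7, 1, 2, 3, 4, 6, 2],
   [3, 2, 3, 4, 3, 2, 1, 0, 3, 2, 1, 3, 4, 3, 2, 1, 3, 2, 1, 6, 1, 2, 3, 2, 3, 4, 3, 6, 1, 2, 6, 1, 7],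
   [1, 2, 3, 2, 3, 4, 3, 2, 1, 3, 2, 1, 3, 2, 1, 4, 3, 2, 1, 0, 3, 2, 1, 0, 4, 3, 2, 1, 5, 4, 6, 1, 2, 3, 2, 1, 7, 2, 4, 6, 3, 2, 1],
   [0, 1, 0, 2, 1, 0, 3, 4, 3, 2, 1, 0, 3, 2, 1, 3, 4, 3, 2, 1, 3, 2, 1, 3, 4, 3, 2, 3, 6, 1, 2, 3, 2, 7, 1, 4, 6, 3, 2, 1],
   [1, 2, 3, 2, 1, 4, 3, 2, 1, 0, 3, 4, 5, 4, 3, 2, 1, 3, 2, 4, 3, 2, 1, 0, 3, 4, 5, 6, 1, 0, 2, 1, 4, 3, 2, 1, 3, 5, 4, 6, 3, 2, 3],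
   [1, 2, 1, 3, 4, 3, 2, 1, 3, 2, 1, 4, 3, 2, 1, 0, 3, 5, 4, 3, 2, 1, 3, 2, 3, 2, 4, 3, 2, 1, 6, 4, 3, 2, 1, 5, 4, 3, 6, 2, 1, 0, 4],
   [1, 3, 2, 1, 3, 2, 1, 4, 3, 2, 1, 0, 3, 5, 4, 3, 2, 1, 3, 2, 1, 4, 3, 5, 6, 1, 2, 3, 2, 6, 1, 4, 3, 2, 6, 4, 6],
   [0, 1, 0, 2, 3, 4, 5, 4, 3, 2, 1, 3, 2, 4, 3, 2, 1, 0, 5, 4, 3, 2, 1, 0, 3, 2, 3, 4, 6, 1, 2, 3, 2, 1, 6, 2, 4, 7, 3, 2, 1, 4, 7],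
   [1, 0, 2, 1, 3, 2, 1, 3, 2, 1, 4, 3, 2, 3, 2, 1, 4, 3, 2, 3, 2, 1, 0, 4, 6, 1, 2, 3, 7, 4, 3, 2, 3, 2, 1, 7, 1, 4, 5],
   [0, 1, 0, 2, 1, 3, 2, 1, 0, 3, 5, 4, 3, 2, 1, 3, 2, 1, 4, 3, 2, 1, 3, 2, 3, 4, 3, 5, 4, 3, 2, 1, 0, 6, 1, 2, 3, 2, 7, 4, 3, 2, 3, 6, 1],
   [0, 1, 3, 2, 1, 3, 2, 1, 3, 4, 3, 2, 1, 3, 2, 3, 5, 4, 3, 2, 1, 0, 3, 2, 3, 4, 3, 2, 1, 3, 2, 3, 2, 1, 4, 6, 1, 0, 3, 2, 3, 4, 6, 3],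
   [0, 4, 3, 2, 1, 0, 3, 2, 1, 3, 2, 3, 4, 3, 2, 1, 3, 2, 1, 4, 3, 2, 1, 5, 4, 6, 2, 4, 6, 3, 2, 1, 4, 3, 2, 3, 2, 4, 3],
   [1, 3, 2, 1, 5, 4, 3, 2, 3, 2, 1, 4, 3, 2, 1, 3, 2, 1, 3, 4, 3, 2, 1, 3, 2, 6, 4, 3, 2, 1, 6, 2, 6, 3, 2, 1],
   [0, 1, 2, 3, 2, 1, 3, 4, 3, 2, 1, 3, 2, 1, 3, 4, 3, 2, 1, 3, 2, 1, 4, 3, 2, 3, 2, 1, 4, 6, 1, 2, 3, 2, 7, 1, 4, 3, 7, 1, 2, 4, 6],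
   [0, 1, 3, 5, 4, 3, 2, 3, 2, 1, 4, 3, 2, 3, 2, 1, 4, 3, 2, 1, 0, 3, 2, 1, 0, 4, 5, 6, 1, 2, 3, 2, 1, 0, 4, 3, 6, 2, 1, 0],
   [0, 1, 2, 1, 3, 2, 3, 4, 3, 2, 1, 5, 4, 3, 2, 1, 0, 3, 2, 1, 4, 3, 2, 3, 6, 1, 0, 2, 3, 2, 4, 6, 3, 6, 2, 1, 6, 2],
   [1, 4, 3, 2, 1, 3, 2, 3, 2, 1, 4, 3, 2, 3, 2, 1, 0, 4, 3, 2, 3, 6, 1, 0, 2, 3, 2, 4, 3, 7, 1, 4, 7, 2, 1, 0],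
   [2, 1, 0, 4, 3, 2, 1, 3, 2, 3, 2, 4, 3, 2, 1, 3, 2, 3, 4, 3, 2, 1, 3, 2, 5, 4, 3, 2, 1, 6, 2, 4, 3, 2, 1, 3, 6, 2, 1, 3, 7],
   [0, 3, 4, 3, 2, 1, 0, 3, 2, 1, 3, 2, 4, 3, 2, 1, 3, 6, 1, 2, 3, 6, 2, 4, 3, 6, 1, 2, 4, 3, 7, 4],
   [1, 2, 1, 3, 2, 3, 2, 4, 3, 2, 1, 3, 2, 3, 2, 1, 0, 4, 3, 2, 1, 3, 2, 4, 3, 2, 1, 0, 5, 4, 6, 1, 2, 4, 3, 2, 1, 6, 1, 3, 2, 4, 3, 7],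
   [1, 0, 2, 1, 3, 2, 1, 0, 4, 3, 2, 1, 3, 2, 4, 3, 2, 1, 3, 2, 3, 4, 3, 5, 6, 4, 3, 2, 1, 3, 2, 5, 4, 3, 2, 1, 6, 2, 6],
   [0, 5, 4, 3, 2, 1, 3, 2, 1, 3, 2, 4, 3, 2, 1, 3, 2, 4, 3, 2, 1, 3, 2, 3, 2, 4, 3, 6, 1, 0, 2, 1, 4, 3, 2, 3, 4, 7, 2, 3, 4],
   [3, 4, 3, 2, 1, 0, 3, 2, 4, 3, 5, 4, 3, 2, 1, 0, 3, 2, 1, 3, 2, 3, 4, 3, 2, 1, 0, 3, 6, 1, 2, 1, 3, 4, 6, 3, 2, 1, 6],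
   [0, 2, 1, 3, 2, 1, 4, 3, 2, 3, 5, 4, 3, 2, 1, 3, 2, 4, 3, 6, 1, 0, 2, 1, 0, 3, 2, 3, 4, 3, 2, 3],
   [1, 4, 3, 2, 1, 3, 5, 4, 3, 2, 1, 3, 2, 1, 3, 4, 3, 2, 1, 3, 2, 1, 0, 4, 5, 6, 1, 7, 2, 3, 2, 1, 0, 4, 7, 3, 2, 1],
   [2, 1, 4, 3, 2, 1, 3, 2, 4, 3, 5, 4, 3, 2, 1, 0, 3, 2, 1, 3, 2, 4, 3, 2, 1, 0, 3, 2, 4, 3, 2, 1, 6, 1, 2, 3, 2, 4, 3, 7, 2, 1, 0, 4, 7, 1],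
   [0, 2, 5, 4, 3, 2, 1, 3, 2, 4, 3, 2, 1, 0, 3, 2, 1, 3, 4, 3, 2, 1, 0, 5, 6, 1, 3, 4, 3, 2, 1, 0, 3, 4, 5],
   [0, 1, 2, 1, 3, 2, 1, 0, 3, 4, 3, 2, 1, 3, 2, 3, 2, 1, 4, 3, 2, 3, 2, 4, 3, 5, 6, 4, 3, 2, 1, 7, 3, 4, 7, 2, 3, 4, 7],
   [0, 1, 2, 1, 4, 3, 2, 1, 0, 3, 5, 4, 3, 2, 1, 3, 2, 1, 4, 3, 2, 1, 0, 3, 5, 4, 3, 2, 3, 2, 1, 4, 3, 2, 3, 2, 1, 0, 4, 3, 6, 2, 4, 3, 2, 1, 7, 3, 2, 1, 6, 1, 4],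
   [0, 1, 2, 1, 3, 2, 1, 5, 4, 3, 2, 1, 3, 2, 1, 4, 3, 2, 1, 0, 3, 4, 5, 4, 6, 1, 0, 2, 1, 3, 2, 4, 3, 6, 4, 3, 7]]

def tWords39 : List (List Nat) :=
  [[2, 1, 3, 2, 1, 5, 4, 3, 2, 1, 3, 2, 1, 3, 4, 3, 2, 1, 3, 2, 3, 4, 3, 2, 1, 6, 1, 3, 4, 3, 2, 1, 5, 4, 3, 2, 3, 4],
   [1, 4, 3, 2, 1, 3, 2, 3, 2, 4, 3, 2, 1, 3, 2, 4, 3, 2, 1, 3, 2, 3, 4, 5, 6, 1, 0, 2, 1, 3, 6, 2, 1, 4, 3, 2, 1, 3, 4],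
   [1, 2, 1, 0, 3, 4, 3, 2, 1, 0, 3, 2, 3, 4, 3, 2, 3, 2, 1, 6, 1, 0, 2, 1, 0, 4, 3, 2, 3, 4, 7, 1, 4, 5],
   [0, 1, 0, 2, 1, 3, 4, 3, 2, 1, 3, 2, 1, 0, 3, 4, 3, 2, 1, 0, 3, 2, 1, 3, 4, 3, 5, 6, 4, 7, 3, 2, 1, 3, 2, 6, 4, 3, 7, 4, 6],
   [0, 4, 3, 2, 1, 3, 2, 1, 4, 3, 2, 1, 3, 2, 1, 4, 3, 2, 1, 0, 3, 2, 1, 4, 3, 2, 1, 3, 4, 6, 1, 2, 1, 3, 2, 1, 6, 1, 4, 3, 5, 4, 7],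
   [2, 3, 2, 1, 4, 3, 2, 3, 2, 4, 3, 2, 3, 6, 1, 2, 3, 7, 2, 4, 3, 2, 5, 4, 3],
   [3, 4, 3, 2, 1, 0, 3, 2, 1, 4, 3, 2, 5, 4, 3, 2, 1, 3, 2, 4, 3, 2, 1, 0, 6, 1, 0, 2, 3, 2, 1, 4, 3, 2, 6, 1, 4, 6, 3],
   [0, 2, 3, 2, 1, 4, 3, 2, 3, 2, 1, 0, 4, 3, 2, 1, 3, 2, 3, 2, 4, 3, 2, 1, 0, 5, 4, 3, 2, 1, 3, 2, 3, 4, 6, 1, 4, 3, 2, 1, 3, 6, 2, 4, 3, 6, 4],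
   [0, 4, 3, 2, 1, 0, 3, 2, 3, 4, 3, 2, 1, 3, 5, 4, 6, 1, 0, 2, 1, 3, 2, 4, 3, 7, 2, 1, 7, 2, 1, 3],
   [3, 4, 3, 2, 1, 3, 2, 3, 2, 1, 4, 3, 2, 1, 0, 3, 2, 1, 4, 6, 1, 2, 3, 4, 3, 7, 2, 1, 3, 6, 4, 3, 6],
   [0, 1, 4, 3, 2, 1, 5, 4, 3, 2, 1, 3, 2, 1, 4, 3, 2, 5, 4, 3, 2, 1, 3, 2, 3, 2, 1, 0, 4, 3, 5, 6, 1, 2, 3, 2, 4, 3, 6, 1, 0, 2, 4, 7, 1, 0],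
   [1, 2, 1, 0, 3, 2, 1, 4, 3, 2, 5, 4, 3, 2, 1, 3, 2, 3, 2, 1, 4, 3, 2, 1, 3, 2, 4, 3, 2, 1, 6, 1, 3, 2, 4, 3, 2, 1, 3, 2, 7, 4],
   [0, 2, 1, 3, 4, 3, 2, 1, 3, 2, 1, 4, 3, 2, 1, 3, 2, 1, 4, 3, 2, 1, 0, 3, 2, 1, 4, 3, 2, 1, 3, 6, 4, 3, 2, 1, 3, 2, 5, 4, 7, 1, 4, 3, 6],
   [0, 2, 1, 0, 3, 2, 1, 4, 3, 2, 1, 5, 4, 3, 2, 1, 0, 3, 4, 5, 6, 4, 3, 2, 7, 1, 3, 4, 7, 2, 3, 4, 3],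
   [1, 0, 2, 1, 3, 2, 1, 0, 3, 5, 4, 3, 2, 3, 2, 1, 4, 3, 2, 3, 2, 1, 4, 5, 6, 1, 0, 2, 3, 2, 1, 4, 6, 3, 6, 2, 1, 0, 4],
   [0, 1, 0, 2, 3, 4, 3, 2, 1, 3, 2, 3, 5, 4, 3, 2, 1, 0, 3, 2, 1, 3, 4, 3, 2, 3, 2, 1, 4, 3, 2, 6, 1, 7, 2, 3, 2, 4, 3, 6, 1, 4, 5],
   [2, 3, 2, 1, 3, 2, 3, 2, 4, 3, 2, 1, 3, 2, 4, 3, 2, 1, 3, 2, 3, 4, 3, 2, 1, 5, 6, 1, 0, 2, 3, 2, 1, 4, 7, 3, 4, 6, 2, 6, 3, 4],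
   [1, 0, 3, 2, 1, 0, 4, 3, 2, 1, 3, 2, 4, 3, 2, 1, 5, 4, 3, 2, 1, 3, 4, 5, 6, 1, 2, 1, 0, 3, 2, 1, 4, 3, 2, 7, 4, 6, 3],
   [3, 2, 1, 3, 2, 1, 4, 3, 2, 1, 5, 4, 3, 2, 1, 0, 3, 2, 1, 4, 3, 2, 3, 2, 4, 3, 2, 6, 1, 2, 1, 3, 2, 4, 3, 6, 4, 7, 4],
   [0, 2, 3, 2, 1, 0, 3, 4, 3, 2, 1, 0, 3, 2, 1, 3, 4, 3, 2, 1, 3, 2, 4, 3, 6, 1, 4, 3, 2, 5, 4, 6, 3, 2, 1, 6, 4],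
   [1, 2, 1, 3, 2, 4, 3, 2, 1, 3, 2, 4, 3, 2, 1, 0, 3, 2, 1, 4, 3, 2, 1, 3, 2, 4, 3, 2, 6, 4, 3, 2, 1, 3, 2, 3, 4, 3, 6, 4, 5],
   [1, 0, 4, 3, 2, 1, 3, 2, 4, 3, 2, 1, 0, 3, 2, 3, 4, 3, 2, 1, 3, 2, 1, 0, 6, 1, 2, 3, 2, 1, 4, 3, 2, 1, 7, 4, 6],
   [1, 0, 2, 3, 2, 1, 3, 2, 3, 4, 3, 2, 1, 3, 2, 4, 3, 2, 1, 3, 2, 4, 6, 1, 2, 3, 4, 7, 2, 1, 3, 7, 2, 1, 4, 6],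
   [1, 2, 1, 0, 3, 2, 1, 5, 4, 3, 2, 1, 3, 2, 4, 3, 2, 1, 5, 4, 3, 2, 3, 2, 1, 4, 3, 6, 1, 2, 3, 2, 1, 3, 4, 3, 7, 2, 1, 3, 7],
   [0, 1, 0, 2, 3, 2, 1, 0, 3, 2, 4, 3, 2, 1, 5, 4, 3, 2, 3, 2, 1, 4, 3, 2, 3, 2, 1, 4, 3, 6, 1, 2, 3, 2, 1, 4, 3, 2, 3, 5, 4, 3, 7],
   [0, 2, 1, 0, 3, 2, 1, 4, 3, 2, 1, 3, 2, 1, 4, 3, 2, 1, 0, 3, 5, 4, 3, 2, 1, 3, 2, 1, 4, 3, 2, 3, 5, 6, 1, 2, 4, 3, 2, 3, 6, 4, 3, 2, 6],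
   [0, 3, 2, 1, 4, 3, 2, 1, 0, 3, 5, 4, 3, 2, 1, 0, 3, 2, 1, 4, 3, 2, 3, 5, 4, 6, 4, 3, 2, 3, 6, 1, 2, 7, 3, 2, 4, 6],
   [3, 2, 1, 0, 4, 3, 2, 1, 3, 2, 4, 3, 2, 1, 0, 3, 2, 1, 3, 4, 3, 2, 1, 0, 5, 6, 1, 0, 2, 1, 3, 4, 3, 7, 2, 1, 3, 6, 4],
   [0, 2, 1, 3, 2, 1, 4, 3, 2, 1, 0, 3, 5, 4, 3, 2, 1, 3, 2, 1, 4, 3, 2, 1, 0, 5, 4, 3, 2, 1, 3, 2, 3, 2, 4, 6, 4, 3, 6, 2, 1, 3, 2, 3, 4, 7, 2, 3, 2, 1],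
   [0, 1, 0, 3, 5, 4, 3, 2, 1, 0, 3, 2, 1, 4, 3, 2, 1, 3, 2, 4, 3, 2, 1, 5, 4, 3, 2, 1, 3, 2, 4, 3, 6, 1, 4, 3, 2, 3, 4, 6, 2, 3, 6, 2],
   [0, 1, 0, 2, 1, 3, 2, 3, 2, 4, 3, 2, 1, 3, 2, 3, 2, 4, 3, 2, 5, 4, 3, 6, 1, 2, 3, 2, 6, 1, 2, 4, 7, 2],
   [0, 2, 5, 4, 3, 2, 1, 3, 2, 4, 3, 2, 1, 0, 5, 4, 3, 2, 1, 3, 2, 3, 4, 3, 2, 1, 3, 2, 1, 3, 6, 1, 4, 3, 2, 3, 6, 4, 3, 2, 6, 1, 2, 3],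
   [0, 2, 1, 0, 3, 5, 4, 3, 2, 3, 2, 1, 0, 4, 3, 2, 1, 0, 6, 1, 0, 4, 3, 2, 1, 3, 6, 4, 3, 2, 1],
   [0, 1, 2, 5, 4, 3, 2, 1, 3, 2, 3, 4, 3, 2, 1, 3, 2, 3, 2, 1, 4, 3, 2, 3, 5, 4, 3, 2, 3, 6, 1, 2, 4, 3, 2, 3, 4, 7, 1, 3],
   [3, 2, 1, 3, 2, 1, 3, 4, 3, 2, 1, 3, 2, 3, 4, 3, 2, 1, 3, 2, 1, 3, 4, 3, 2, 1, 3, 2, 3, 2, 1, 4, 3, 2, 3, 6, 3, 4, 3, 2, 1, 3, 2, 4, 3, 7, 1, 6],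
   [0, 1, 0, 2, 3, 2, 1, 5, 4, 3, 2, 1, 3, 2, 4, 3, 2, 1, 0, 3, 2, 1, 4, 3, 2, 1, 3, 2, 4, 3, 6, 1, 2, 1, 3, 2, 1, 3, 4, 3, 2, 3, 6]]

def tWords : List (List (List Nat)) :=
  [tWords0,
   tWords1,
   tWords2,
   tWords3,
   tWords4,
   tWords5,
   tWords6,
   tWords7,
   tWords8,
   tWords9,
   tWords10,
   tWords11,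
   tWords12,
   tWords13,
   tWords14,
   tWords15,
   tWords16,
   tWords17,
   tWords18,
   tWords19,
   tWords20,
   tWords21,
   tWords22,
   tWords23,
   tWords24,
   tWords25,
   tWords26,
   tWords27,
   tWords28,
   tWords29,
   tWords30,
   tWords31,
   tWords32,
   tWords33,
   tWords34,
   tWords35,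
   tWords36,
   tWords37,
   tWords38,
   tWords39]

end CfsgLib.Spor.ON
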