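import Cfsg.Agent.Lib.Spor.ON.SubJ1Data
import Cfsg.Agent.Lib.Spor.ON.Base
import Cfsg.Agent.Lib.J1Group.Classes
import Cfsg.Prelude.Def_Sporadic

/-!
The presented O'Nan group has a subgroup of type `J₁`: words for Janko's two matrices whose products
follow the transversal tables of the matrix group.
-/

set_option autoImplicit false

namespace CfsgLib.Spor.ON

open Cfsg Equiv CfsgLib.J1Group

/-- word of a stabiliser element -/
def hW (k : Nat) : List Nat := hWords.getD k []

/-- word of a transversal element -/
def tW (j : Nat) : List Nat := get2 tWords [] j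

/-- two words agree on the base -/
noncomputable def sameEl (u v : List Nat) : Bool :=
  u.all (fun x => decide (x < 8)) && v.all (fun x => decide (x < 8)) &&
    Nat.beq (main.app u 0) (main.app v 0) && Nat.beq (main.app u 15) (main.app v 15) &&
      Nat.beq (main.app u 71333) (main.app v 71333)

theorem sameEl_spec {u v : List Nat} (h : sameEl u v = true) :
    evalW gen u = evalW gen v := by
  simp only [sameEl, Bool.and_eq_true, List.all_eq_true, decide_eq_true_eq] at h
  obtain ⟨⟨⟨⟨hu, hv⟩, a0⟩, a1⟩, a2⟩ := h
  have key : ∀ p : Fin 122760, main.app u p = main.app v p →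
      π (evalW gen v * (evalW gen u)⁻¹) p = p := by
    intro p hp
    rw [map_mul, map_inv, Perm.mul_apply,
      show (π (evalW gen u))⁻¹ p = (π (evalW gen v))⁻¹ p from
        Fin.ext ((π_word u hu p).trans (hp.trans (π_word v hv p).symm))]
    exact (π (evalW gen v)).apply_symm_apply p
  have := eq_one_of_fix (evalW gen v * (evalW gen u)⁻¹) (key i₀ (Nat.eq_of_beq_eq_true a0))
    (key p₁ (Nat.eq_of_beq_eq_true a1)) (key p₂ (Nat.eq_of_beq_eq_true a2))
  exact (mul_inv_eq_one.1 this).symm

/-- products of transversal words with the two generators, on a range -/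
noncomputable def okCocycle (lo len : Nat) : Bool :=
  (List.range len).all fun i =>
    let j := lo + i
    sameEl (tW j ++ genXW)
      (hW (get2 stepXData (0, 0) j).1 ++ tW (get2 stepXData (0, 0) j).2) &&
    sameEl (tW j ++ genYW)
      (hW (get2 stepYData (0, 0) j).1 ++ tW (get2 stepYData (0, 0) j).2)

/-- products of stabiliser words with their two generators -/
noncomputable def okStab : Bool :=
  decide (hW 0 = []) && decide (tW 0 = []) && (List.range 110).all fun k =>
    sameEl (hW k ++ genAW) (hW (hstepData.getD k (0, 0)).1) &&
      sameEl (hW k ++ genBW) (hW (hstepData.getD k (0, 0)).2)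

theorem okStab_true : okStab = true := by decide +kernel

end CfsgLib.Spor.ON
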